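import Cfsg.Agent.OddHalf.D7F4.Model

/-!
# K = F4(q): exactly one length is moved (S1765, node D7)

`KF t X` : the K-facts on the 48 root groups, symmetric under the duality; `WS` / `WL` : the doubled root groups of the
short / long roots; `KF.patA`, `KF.patA_dual`: the hypotheses of `PatA` in both cases.
-/

set_option autoImplicit false

namespace Cfsg.Agent.OddHalf.D7F4

open Model

/-- The K-facts. -/
structure KF {G : Type*} [Group G] (t : G) (X : (Fin 4 → ℤ) → Subgroup G) : Prop where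
  tt : t * t = 1
  tX : ∀ a ∈ rts, ∀ x ∈ X a, t * x = x * t
  Xne : ∀ a ∈ rts, ∃ x ∈ X a, x ≠ 1
  Xsq : ∀ a ∈ rts, ∀ x ∈ X a, x * x = 1
  X0 : ∀ a ∈ rts, ∀ b ∈ rts, 0 ≤ B a b → ∀ x ∈ X a, ∀ y ∈ X b, x * y = y * x
  X1 : ∀ a ∈ rts, ∀ b ∈ rts, B a a = B b b → B a b < 0 → a ≠ -b → ∀ x ∈ X a, ∀ y ∈ X b, x * y * x⁻¹ * y⁻¹ ∈ X (a + b)
  X1nd : ∀ a ∈ rts, ∀ b ∈ rts, B a a = B b b → B a b < 0 → a ≠ -b → ∀ x ∈ X a, ∀ y ∈ X b, x * y = y * x →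
    x = 1 ∨ y = 1
  X1surj : ∀ a ∈ rts, ∀ b ∈ rts, B a a = B b b → B a b < 0 → a ≠ -b → ∀ y ∈ X b, y ≠ 1 → ∀ z ∈ X (a + b),
    ∃ x ∈ X a, x * y * x⁻¹ * y⁻¹ = z
  X2 : ∀ a ∈ rts, ∀ b ∈ rts, B a a = 4 → B b b = 2 → B a b = -2 → ∀ x ∈ X a, ∀ y ∈ X b,
    ∃ z ∈ X (a + b), ∃ w ∈ X (a + b + b), x * y * x⁻¹ * y⁻¹ = z * w
  X2nd : ∀ a ∈ rts, ∀ b ∈ rts, B a a = 4 → B b b = 2 → B a b = -2 → ∀ x ∈ X a, ∀ y ∈ X b, x * y = y * x →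
    x = 1 ∨ y = 1
  ind : ∀ a ∈ rts, ∀ b ∈ rts, a ≠ b → ∀ x ∈ X a, x ∈ X b → x = 1
  ind3s : ∀ a ∈ rts, ∀ b ∈ rts, B a a = 2 → B b b = 2 → B a b = 0 → ∀ x ∈ X a, ∀ y ∈ X b, ∀ z ∈ X (a + b),
    x * y * z = 1 → x = 1
  ind3l : ∀ a ∈ rts, ∀ b ∈ rts, B a a = 4 → B b b = 4 → B a b = 0 → ∀ m ∈ rts, m + m = a + b →
    ∀ x ∈ X a, ∀ y ∈ X b, ∀ z ∈ X m, x * y * z = 1 → x = 1
  K2s : ∀ s ∈ rts, ∀ s' ∈ rts, B s s = 2 → B s' s' = 2 → B s s' < 2 → -2 < B s s' → ∀ c, c * t = t * c →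
    (∀ a ∈ rts, (B a a = 4 ∧ 0 ≤ B a s ∧ 0 ≤ B a s' ∨ B a a = 2 ∧ 0 < B a s ∧ 0 < B a s') →
      ∀ x ∈ X a, c * x = x * c) →
    ∃ x ∈ X s, ∃ y ∈ X s', ∃ z, (B s s' = 1 ∧ z = 1 ∨ B s s' ≤ 0 ∧ z ∈ X (s + s')) ∧
      (c = x * y * z ∨ c = t * (x * y * z))
  K2l : ∀ s ∈ rts, ∀ s' ∈ rts, B s s = 4 → B s' s' = 4 → B s s' < 4 → -4 < B s s' → ∀ c, c * t = t * c →
    (∀ a ∈ rts, (B a a = 2 ∧ 0 ≤ B a s ∧ 0 ≤ B a s' ∨ B a a = 4 ∧ 0 < B a s ∧ 0 < B a s') →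
      ∀ x ∈ X a, c * x = x * c) →
    ∃ x ∈ X s, ∃ y ∈ X s', ∃ z, (B s s' = 2 ∧ z = 1 ∨ B s s' = 0 ∧ (∃ m ∈ rts, m + m = s + s' ∧ z ∈ X m) ∨
      B s s' = -2 ∧ z ∈ X (s + s')) ∧ (c = x * y * z ∨ c = t * (x * y * z))

/-- The doubled root groups of the short roots. -/
structure WS {G : Type*} [Group G] (t : G) (X W : (Fin 4 → ℤ) → Subgroup G) : Prop where
  XW : ∀ s ∈ rts, B s s = 2 → X s ≤ W s
  Wsq : ∀ s ∈ rts, B s s = 2 → ∀ w ∈ W s, w * w = 1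
  brk : ∀ s ∈ rts, B s s = 2 → ∀ w ∈ W s, w⁻¹ * (t * w * t) ∈ X s
  cent : ∀ s ∈ rts, B s s = 2 → ∀ w ∈ W s, t * w = w * t → w ∈ X s
  surj : ∀ s ∈ rts, B s s = 2 → ∀ x ∈ X s, ∃ w ∈ W s, w⁻¹ * (t * w * t) = x
  WX : ∀ s ∈ rts, B s s = 2 → ∀ a ∈ rts, (B a a = 4 ∧ 0 ≤ B a s ∨ B a a = 2 ∧ 0 < B a s) →
    ∀ w ∈ W s, ∀ x ∈ X a, w * x = x * w
  WX0 : ∀ s ∈ rts, B s s = 2 → ∀ a ∈ rts, B a a = 2 → B a s = 0 → ∀ w ∈ W s, ∀ x ∈ X a,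
    w * x * w⁻¹ * x⁻¹ ∈ X (s + a)

/-- The doubled root groups of the long roots. -/
structure WL {G : Type*} [Group G] (t : G) (X W : (Fin 4 → ℤ) → Subgroup G) : Prop where
  XW : ∀ s ∈ rts, B s s = 4 → X s ≤ W s
  Wsq : ∀ s ∈ rts, B s s = 4 → ∀ w ∈ W s, w * w = 1
  brk : ∀ s ∈ rts, B s s = 4 → ∀ w ∈ W s, w⁻¹ * (t * w * t) ∈ X s
  cent : ∀ s ∈ rts, B s s = 4 → ∀ w ∈ W s, t * w = w * t → w ∈ X s
  surj : ∀ s ∈ rts, B s s = 4 → ∀ x ∈ X s, ∃ w ∈ W s, w⁻¹ * (t * w * t) = x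
  WX : ∀ s ∈ rts, B s s = 4 → ∀ a ∈ rts, (B a a = 2 ∧ 0 ≤ B a s ∨ B a a = 4 ∧ 0 < B a s) →
    ∀ w ∈ W s, ∀ x ∈ X a, w * x = x * w
  WX0 : ∀ s ∈ rts, B s s = 4 → ∀ a ∈ rts, B a a = 4 → B a s = 0 → ∀ m ∈ rts, m + m = s + a → ∀ w ∈ W s, ∀ x ∈ X a,
    w * x * w⁻¹ * x⁻¹ ∈ X m

/-! ### Duality tables -/

namespace Model

theorem d0 : ∀ a ∈ rts, ∀ b ∈ rts, 0 ≤ B a b → 0 ≤ B (dual a) (dual b) := by decide +kernel
theorem d1 : ∀ a ∈ rts, ∀ b ∈ rts, B a a = B b b → B a b < 0 → a ≠ -b →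
    B (dual a) (dual a) = B (dual b) (dual b) ∧ B (dual a) (dual b) < 0 ∧ dual a ≠ -dual b ∧
      dual (a + b) = dual a + dual b := by decide +kernel
theorem d2 : ∀ a ∈ rts, ∀ b ∈ rts, B a a = 4 → B b b = 2 → B a b = -2 →
    B (dual a) (dual a) = 2 ∧ B (dual b) (dual b) = 4 ∧ B (dual b) (dual a) = -2 ∧
      dual (a + b) = dual b + dual a + dual a ∧ dual (a + b + b) = dual b + dual a := by decide +kernel
theorem d90 : ∀ a ∈ rts, ∀ b ∈ rts, B a a = 2 → B b b = 2 → B a b = 0 →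
    B (dual a) (dual b) = 0 ∧ dual (a + b) ∈ rts ∧ dual (a + b) + dual (a + b) = dual a + dual b := by decide +kernel
theorem dne : ∀ a ∈ rts, ∀ b ∈ rts, dual a = dual b → a = b := by decide +kernel
theorem dn2 : ∀ a ∈ rts, B a a = 2 → B (dual a) (dual a) = 4 := by decide +kernel
theorem dn4 : ∀ a ∈ rts, B a a = 4 → B (dual a) (dual a) = 2 := by decide +kernel
theorem dpos : ∀ a ∈ rts, 0 < lv a → 0 < lv (dual a) := by decide +kernel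
/-- the sets of roots of the double centralisers -/
theorem dS : ∀ a ∈ rts, ∀ s ∈ rts, B s s = 2 →
    (B a a = 2 ∧ 0 ≤ B a (dual s) → B (dual a) (dual a) = 4 ∧ 0 ≤ B (dual a) s) ∧
    (B a a = 4 ∧ 0 < B a (dual s) → B (dual a) (dual a) = 2 ∧ 0 < B (dual a) s) ∧
    (B a a = 4 ∧ 0 ≤ B a s → B (dual a) (dual a) = 2 ∧ 0 ≤ B (dual a) (dual s)) ∧
    (B a a = 2 ∧ 0 < B a s → B (dual a) (dual a) = 4 ∧ 0 < B (dual a) (dual s)) := by decide +kernel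
theorem dmid : ∀ a ∈ rts, ∀ b ∈ rts, B a a = 2 → B b b = 2 → B a b = 0 → ∀ m ∈ rts, m + m = dual a + dual b →
    m = dual (a + b) := by
  intro a ha b hb haa hbb hab m _ hm
  have h1 := (d90 a ha b hb haa hbb hab).2.2
  rw [← hm] at h1
  funext i
  have h2 := congrFun h1 i
  simp only [Pi.add_apply] at h2
  omega

end Model

section

variable {G : Type*} [Group G] {t : G} {X W : (Fin 4 → ℤ) → Subgroup G}

/-- **Short moved, long not moved.** -/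
theorem KF.patA (hK : KF t X) (hW : WS t X W)
    (hNM : ∀ r ∈ rts, B r r = 4 → ∀ x ∈ X r, ∀ g : G, g⁻¹ * t * g = t * x → x = 1) : PatA t B Phi X W where
  roots := roots
  tt := hK.tt
  tX := hK.tX
  Xne := hK.Xne
  Xsq := hK.Xsq
  X0 := hK.X0
  X1 := hK.X1
  X1nd := hK.X1nd
  X1surj := hK.X1surj
  X2 := hK.X2
  X2nd := hK.X2nd
  ind := hK.ind
  ind3 := hK.ind3s
  XW := hW.XW
  Wsq := hW.Wsq
  brk := hW.brk
  cent := hW.cent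
  surj := hW.surj
  WX := hW.WX
  WX0 := hW.WX0
  NM := hNM
  K2 := hK.K2s
  aux90 := aux90
  aux120 := aux120

/-- **Long moved, short not moved.** -/
theorem KF.patA_dual (hK : KF t X) (hW : WL t X W)
    (hNM : ∀ r ∈ rts, B r r = 2 → ∀ x ∈ X r, ∀ g : G, g⁻¹ * t * g = t * x → x = 1) :
    PatA t B Phi (fun a => X (dual a)) (fun a => W (dual a)) where
  roots := roots
  tt := hK.tt
  tX a ha := hK.tX _ (dual_mem a ha)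
  Xne a ha := hK.Xne _ (dual_mem a ha)
  Xsq a ha := hK.Xsq _ (dual_mem a ha)
  X0 a ha b hb hab := hK.X0 _ (dual_mem a ha) _ (dual_mem b hb) (d0 a ha b hb hab)
  X1 a ha b hb h1 h2 h3 := by
    obtain ⟨e1, e2, e3, e4⟩ := d1 a ha b hb h1 h2 h3
    have := hK.X1 _ (dual_mem a ha) _ (dual_mem b hb) e1 e2 e3
    rw [← e4] at this
    exact this
  X1nd a ha b hb h1 h2 h3 := by
    obtain ⟨e1, e2, e3, -⟩ := d1 a ha b hb h1 h2 h3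
    exact hK.X1nd _ (dual_mem a ha) _ (dual_mem b hb) e1 e2 e3
  X1surj a ha b hb h1 h2 h3 := by
    obtain ⟨e1, e2, e3, e4⟩ := d1 a ha b hb h1 h2 h3
    have := hK.X1surj _ (dual_mem a ha) _ (dual_mem b hb) e1 e2 e3
    rw [← e4] at this
    exact this
  X2 a ha b hb h1 h2 h3 x hx y hy := by
    obtain ⟨e1, e2, e3, e4, e5⟩ := d2 a ha b hb h1 h2 h3
    obtain ⟨z, hz, w, hw, he⟩ := hK.X2 _ (dual_mem b hb) _ (dual_mem a ha) e2 e1 e3 y hy x hx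
    rw [← e5] at hz
    rw [← e4] at hw
    refine ⟨w⁻¹, inv_mem hw, z⁻¹, inv_mem hz, ?_⟩
    have h4 : x * y * x⁻¹ * y⁻¹ = (y * x * y⁻¹ * x⁻¹)⁻¹ := by group
    rw [h4, he, mul_inv_rev]
  X2nd a ha b hb h1 h2 h3 x hx y hy hxy := by
    obtain ⟨e1, e2, e3, -, -⟩ := d2 a ha b hb h1 h2 h3
    exact (hK.X2nd _ (dual_mem b hb) _ (dual_mem a ha) e2 e1 e3 y hy x hx hxy.symm).symm
  ind a ha b hb hab := hK.ind _ (dual_mem a ha) _ (dual_mem b hb) (fun h => hab (dne a ha b hb h))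
  ind3 a ha b hb haa hbb hab := by
    obtain ⟨e1, e2, e3⟩ := d90 a ha b hb haa hbb hab
    exact hK.ind3l _ (dual_mem a ha) _ (dual_mem b hb) (dn2 a ha haa) (dn2 b hb hbb) e1 _ e2 e3
  XW s hs hss := hW.XW _ (dual_mem s hs) (dn2 s hs hss)
  Wsq s hs hss := hW.Wsq _ (dual_mem s hs) (dn2 s hs hss)
  brk s hs hss := hW.brk _ (dual_mem s hs) (dn2 s hs hss)
  cent s hs hss := hW.cent _ (dual_mem s hs) (dn2 s hs hss)
  surj s hs hss := hW.surj _ (dual_mem s hs) (dn2 s hs hss)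
  WX s hs hss a ha h1 := by
    refine hW.WX _ (dual_mem s hs) (dn2 s hs hss) _ (dual_mem a ha) ?_
    obtain ⟨-, -, h2, h3⟩ := dS a ha s hs hss
    rcases h1 with h1 | h1
    · exact Or.inl (h2 h1)
    · exact Or.inr (h3 h1)
  WX0 s hs hss a ha haa h1 := by
    obtain ⟨e1, e2, e3⟩ := d90 s hs a ha hss haa (by rw [B_symm]; exact h1)
    exact hW.WX0 _ (dual_mem s hs) (dn2 s hs hss) _ (dual_mem a ha) (dn2 a ha haa) (by rw [B_symm]; exact e1) _ e2 e3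
  NM r hr hrr := hNM _ (dual_mem r hr) (dn4 r hr hrr)
  K2 s hs s' hs' hss hss' h1 h2 c hct hc := by
    have e1 := dual_ss s hs s' hs' hss hss'
    obtain ⟨x, hx, y, hy, z, hz, he⟩ := hK.K2l _ (dual_mem s hs) _ (dual_mem s' hs') (dn2 s hs hss) (dn2 s' hs' hss')
      (by omega) (by omega) c hct (by
        intro a ha hY x hx
        have h3 := dual_dual a ha
        have hx' : x ∈ X (dual (dual a)) := by rw [h3]; exact hx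
        obtain ⟨g1, g2, -, -⟩ := dS a ha s hs hss
        obtain ⟨g1', g2', -, -⟩ := dS a ha s' hs' hss'
        refine hc _ (dual_mem a ha) ?_ x hx'
        rcases hY with ⟨h4, h5, h6⟩ | ⟨h4, h5, h6⟩
        · exact Or.inl ⟨(g1 ⟨h4, h5⟩).1, (g1 ⟨h4, h5⟩).2, (g1' ⟨h4, h6⟩).2⟩
        · exact Or.inr ⟨(g2 ⟨h4, h5⟩).1, (g2 ⟨h4, h5⟩).2, (g2' ⟨h4, h6⟩).2⟩)
    refine ⟨x, hx, y, hy, z, ?_, he⟩
    rcases hz with ⟨h3, h4⟩ | ⟨h3, m, hm, hmm, h4⟩ | ⟨h3, h4⟩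
    · exact Or.inl ⟨by omega, h4⟩
    · have h5 : B s s' = 0 := by omega
      refine Or.inr ⟨by omega, ?_⟩
      rw [← dmid s hs s' hs' hss hss' h5 m hm hmm]
      exact h4
    · refine Or.inr ⟨by omega, ?_⟩
      have hne : s ≠ -s' := by
        rintro rfl
        rw [roots.neg_left, hss'] at h2
        omega
      rw [(d1 s hs s' hs' (by omega) (by omega) hne).2.2.2]
      exact h4
  aux90 := aux90
  aux120 := aux120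

/-- the two unipotent groups agree -/
theorem sup_dual (X : (Fin 4 → ℤ) → Subgroup G) :
    (⨆ a : Fin 4 → ℤ, ⨆ _ : a ∈ Phi ∧ 0 < lv a, X (dual a)) = ⨆ a : Fin 4 → ℤ, ⨆ _ : a ∈ Phi ∧ 0 < lv a, X a := by
  apply le_antisymm
  · refine iSup₂_le fun a ha => ?_
    exact le_iSup₂_of_le (f := fun a (_ : a ∈ Phi ∧ 0 < lv a) => X a) (dual a) ⟨dual_mem a ha.1, dpos a ha.1 ha.2⟩ le_rfl
  · refine iSup₂_le fun a ha => ?_
    have h1 : X a = X (dual (dual a)) := by rw [dual_dual a ha.1]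
    rw [h1]
    exact le_iSup₂_of_le (f := fun a (_ : a ∈ Phi ∧ 0 < lv a) => X (dual a)) (dual a)
      ⟨dual_mem a ha.1, dpos a ha.1 ha.2⟩ le_rfl

variable [Finite G]

/-- **Short moved, long not moved**: the transfer. -/
theorem exists_hom_short (hK : KF t X) (hW : WS t X W)
    (hNM : ∀ r ∈ rts, B r r = 4 → ∀ x ∈ X r, ∀ g : G, g⁻¹ * t * g = t * x → x = 1)
    (hbig : ∀ s ∈ rts, ∀ x ∈ X s, ∃ y ∈ X s, y ≠ 1 ∧ y ≠ x)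
    (hind : ∀ a ∈ rts, 0 < lv a → ∀ x ∈ X a, x ∈ (⨆ b : Fin 4 → ℤ, ⨆ _ : b ∈ Phi ∧ lv a < lv b, X b) → x = 1)
    (ht : t ∉ ⨆ a : Fin 4 → ℤ, ⨆ _ : a ∈ Phi ∧ 0 < lv a, X a)
    (hodd : Odd (((⨆ a : Fin 4 → ℤ, ⨆ _ : a ∈ Phi ∧ 0 < lv a, X a) ⊔ Subgroup.zpowers t).relIndex
      (Subgroup.centralizer ({t} : Set G)))) :
    ∃ m : G →* ℤˣ, m t = -1 := by
  have h := hK.patA hW hNM
  exact h.exists_hom (fun s hs s' hs' hss hss' h1 w hw u hu =>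
    h.sixty_of_big (fun s hs _ => hbig s hs) hs hs' hss hss' h1 hw hu) level hind ht hodd

/-- **Long moved, short not moved**: the transfer. -/
theorem exists_hom_long (hK : KF t X) (hW : WL t X W)
    (hNM : ∀ r ∈ rts, B r r = 2 → ∀ x ∈ X r, ∀ g : G, g⁻¹ * t * g = t * x → x = 1)
    (hbig : ∀ s ∈ rts, ∀ x ∈ X s, ∃ y ∈ X s, y ≠ 1 ∧ y ≠ x)
    (hind : ∀ a ∈ rts, 0 < lv a → ∀ x ∈ X (dual a),
      x ∈ (⨆ b : Fin 4 → ℤ, ⨆ _ : b ∈ Phi ∧ lv a < lv b, X (dual b)) → x = 1)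
    (ht : t ∉ ⨆ a : Fin 4 → ℤ, ⨆ _ : a ∈ Phi ∧ 0 < lv a, X a)
    (hodd : Odd (((⨆ a : Fin 4 → ℤ, ⨆ _ : a ∈ Phi ∧ 0 < lv a, X a) ⊔ Subgroup.zpowers t).relIndex
      (Subgroup.centralizer ({t} : Set G)))) :
    ∃ m : G →* ℤˣ, m t = -1 := by
  have h := hK.patA_dual hW hNM
  exact h.exists_hom (fun s hs s' hs' hss hss' h1 w hw u hu =>
    h.sixty_of_big (fun s hs _ => hbig _ (dual_mem s hs)) hs hs' hss hss' h1 hw hu) level hind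
    (by rw [sup_dual]; exact ht) (by rw [sup_dual]; exact hodd)

end

end Cfsg.Agent.OddHalf.D7F4
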