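import Cfsg.Agent.OddHalf.D7F4.PatAEnd

/-!
# The root system F4, explicitly (S1765, node D7)

Vectors of simple root coordinates (as in `KFacts/ChevTwo`), `α₀, α₁` short, `α₂, α₃` long. `B` is the invariant form
(short norm 2, long norm 4), `dual` the duality of F4 (short `a ↦ τ a`, long `a ↦ τ a / 2`).
-/

set_option autoImplicit false

namespace Cfsg.Agent.OddHalf.D7F4.Model

open Cfsg.Agent.OddHalf.D7F4

/-- the 48 roots -/
def rts : List (Fin 4 → ℤ) :=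
  [![-2, -4, -3, -2], ![-2, -4, -3, -1], ![-2, -4, -2, -1], ![-2, -3, -2, -1], ![-2, -2, -2, -1], ![-2,
    -2, -1, -1], ![-2, -2, -1, 0], ![-1, -3, -2, -1], ![-1, -2, -2, -1], ![-1, -2, -1, -1], ![-1, -2,
    -1, 0], ![-1, -1, -1, -1], ![-1, -1, -1, 0], ![-1, -1, 0, 0], ![-1, 0, 0, 0], ![0, -2, -2, -1], ![0,
    -2, -1, -1], ![0, -2, -1, 0], ![0, -1, -1, -1], ![0, -1, -1, 0], ![0, -1, 0, 0], ![0, 0, -1, -1],
    ![0, 0, -1, 0], ![0, 0, 0, -1], ![0, 0, 0, 1], ![0, 0, 1, 0], ![0, 0, 1, 1], ![0, 1, 0, 0], ![0, 1,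
    1, 0], ![0, 1, 1, 1], ![0, 2, 1, 0], ![0, 2, 1, 1], ![0, 2, 2, 1], ![1, 0, 0, 0], ![1, 1, 0, 0],
    ![1, 1, 1, 0], ![1, 1, 1, 1], ![1, 2, 1, 0], ![1, 2, 1, 1], ![1, 2, 2, 1], ![1, 3, 2, 1], ![2, 2, 1,
    0], ![2, 2, 1, 1], ![2, 2, 2, 1], ![2, 3, 2, 1], ![2, 4, 2, 1], ![2, 4, 3, 1], ![2, 4, 3, 2]]

/-- the roots of F4 -/
def Phi : Set (Fin 4 → ℤ) := {v | v ∈ rts}

/-- the invariant form -/
def B (x y : Fin 4 → ℤ) : ℤ :=
  x 0 * (2 * y 0 - y 1) + x 1 * (2 * y 1 - y 0 - 2 * y 2) + x 2 * (4 * y 2 - 2 * y 1 - 2 * y 3) +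
    x 3 * (4 * y 3 - 2 * y 2)

/-- the generic functional -/
def lv (x : Fin 4 → ℤ) : ℤ := 4 * x 0 + 5 * x 1 + x 2 + 2 * x 3

/-- `√2` times an isometry interchanging the two lengths -/
def tau (x : Fin 4 → ℤ) : Fin 4 → ℤ := ![2 * x 3, 2 * x 2, x 1, x 0]

/-- the duality on the roots -/
def dual (x : Fin 4 → ℤ) : Fin 4 → ℤ := if B x x = 2 then tau x else ![x 3, x 2, x 1 / 2, x 0 / 2]

theorem B_symm (x y : Fin 4 → ℤ) : B x y = B y x := by
  unfold B; ring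

theorem B_add (x y z : Fin 4 → ℤ) : B (x + y) z = B x z + B y z := by
  unfold B; simp only [Pi.add_apply]; ring

theorem lv_add (x y : Fin 4 → ℤ) : lv (x + y) = lv x + lv y := by
  unfold lv; simp only [Pi.add_apply]; ring

theorem norm : ∀ a ∈ rts, B a a = 2 ∨ B a a = 4 := by decide +kernel
theorem neg_mem : ∀ a ∈ rts, -a ∈ rts := by decide +kernel
theorem ss : ∀ a ∈ rts, ∀ b ∈ rts, B a a = 2 → B b b = 2 → B a b ≤ 2 ∧ (B a b = 2 → a = b) := by decide +kernel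
theorem ll : ∀ a ∈ rts, ∀ b ∈ rts, B a a = 4 → B b b = 4 → B a b % 2 = 0 ∧ B a b ≤ 4 ∧ (B a b = 4 → a = b) := by
  decide +kernel
theorem ls : ∀ a ∈ rts, ∀ b ∈ rts, B a a = 4 → B b b = 2 → B a b = -2 ∨ B a b = 0 ∨ B a b = 2 := by decide +kernel
theorem add : ∀ a ∈ rts, ∀ b ∈ rts, B a b < 0 → a ≠ -b → a + b ∈ rts := by decide +kernel
theorem add0 : ∀ a ∈ rts, ∀ b ∈ rts, B a a = 2 → B b b = 2 → B a b = 0 → a + b ∈ rts := by decide +kernel

theorem roots : Roots B Phi where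
  fin := (List.finite_toSet rts)
  symm := B_symm
  add_left := B_add
  norm := norm
  neg_mem := neg_mem
  ss := ss
  ll := ll
  ls := ls
  add := add
  add0 := add0

theorem aux90 : ∀ s ∈ rts, ∀ s' ∈ rts, B s s = 2 → B s' s' = 2 → B s s' = 0 →
    ∃ d ∈ rts, B d d = 2 ∧ B d s = 1 ∧ B d s' = -1 := by decide +kernel

theorem aux120 : ∀ s ∈ rts, ∀ s' ∈ rts, B s s = 2 → B s' s' = 2 → B s s' = -1 →
    ∃ d ∈ rts, B d d = 2 ∧ B d s = -1 ∧ B d s' = 1 := by decide +kernel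

theorem lv_inj : ∀ a ∈ rts, ∀ b ∈ rts, 0 < lv a → lv a = lv b → a = b := by decide +kernel
theorem lv_le : ∀ a ∈ rts, lv a ≤ 35 := by decide +kernel
theorem lv_up : ∀ a ∈ rts, B a a = 4 → 0 < lv a → lv a = 35 ∨ ∃ b ∈ rts, B b b = 4 ∧ 0 < lv b ∧ B b a = -2 := by
  decide +kernel

theorem level : Level B Phi lv 35 where
  add := lv_add
  inj := lv_inj
  le := lv_le
  up := lv_up

/-! ### Duality -/

theorem dual_mem : ∀ a ∈ rts, dual a ∈ rts := by decide +kernel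
theorem dual_dual : ∀ a ∈ rts, dual (dual a) = a := by decide +kernel
theorem dual_norm : ∀ a ∈ rts, B (dual a) (dual a) = 6 - B a a := by decide +kernel
theorem dual_ss : ∀ a ∈ rts, ∀ b ∈ rts, B a a = 2 → B b b = 2 → B (dual a) (dual b) = 2 * B a b := by decide +kernel
theorem dual_ll : ∀ a ∈ rts, ∀ b ∈ rts, B a a = 4 → B b b = 4 → 2 * B (dual a) (dual b) = B a b := by decide +kernel
theorem dual_ls : ∀ a ∈ rts, ∀ b ∈ rts, B a a = 4 → B b b = 2 → B (dual a) (dual b) = B a b := by decide +kernel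

end Cfsg.Agent.OddHalf.D7F4.Model
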