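import Mathlib
import Cfsg.Prelude.Def_LieTypeChar

/-!
# The frame of `F₄(q)` in `C_G(t)` (ODD D7; helper588)

`Frame t f` : `f : F₄(F) →* G` is injective, `t` an involution centralising the image `K`, `K` is normal in `C(t)`,
`C(K) ∩ C(t) = {1, t}`, every perfect subgroup of `C(t)` lies in `K`. No hypothesis on `C(t) / K ⟨t⟩`.

* `Frame.exists_aut` : `g ∈ C(t)` induces an automorphism of `F₄(F)`;
* `Frame.mem_of_conj` : `g ∈ C(t)` inducing the inner automorphism of `x` is `f x` or `t * f x`;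
* `Frame.mem_of_aut` : a fact on automorphisms of `F₄(F)` trivial on `P` gives the centraliser of `f P` in `C(t)`;
* `Frame.res` : `f P` is normalised by every element of `G` normalising `C(t) ∩ C(f Q)`, if `P = C(Q)` is perfect.
-/

set_option autoImplicit false

namespace Cfsg.Agent.OddHalf.D7F4

open Subgroup Cfsg.Lie
open scoped commutatorElement

variable {G : Type*} [Group G] {F : Type*} [Field F]

/-- The frame. -/
structure Frame (t : G) (f : ↥(chevF4.group F) →* G) : Prop where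
  tt : t * t = 1
  t1 : t ≠ 1
  inj : Function.Injective f
  ft : ∀ y, f y * t = t * f y
  /-- `K` is normal in `C(t)` -/
  nK : ∀ g : G, g * t = t * g → ∀ y, ∃ y', g * f y * g⁻¹ = f y'
  /-- `C(K) ∩ C(t) = {1, t}` -/
  cK : ∀ g : G, g * t = t * g → (∀ y, g * f y = f y * g) → g = 1 ∨ g = t
  /-- the perfect subgroups of `C(t)` lie in `K` -/
  perf : ∀ L : Subgroup G, (∀ x ∈ L, x * t = t * x) → ⁅L, L⁆ = L → L ≤ f.range

namespace Frame

variable {t : G} {f : ↥(chevF4.group F) →* G}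

theorem tinv (R : Frame t f) : t⁻¹ = t := inv_eq_of_mul_eq_one_left R.tt

theorem inv_comm {g : G} (hg : g * t = t * g) : g⁻¹ * t = t * g⁻¹ := by
  rw [inv_mul_eq_iff_eq_mul, ← mul_assoc, hg, mul_inv_cancel_right]

/-- An element of `C(t)` induces an automorphism of `F₄(F)`. -/
theorem exists_aut (R : Frame t f) {g : G} (hg : g * t = t * g) :
    ∃ α : MulAut ↥(chevF4.group F), ∀ y, g * f y * g⁻¹ = f (α y) := by
  choose a ha using R.nK g hg
  choose b hb using R.nK g⁻¹ (inv_comm hg)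
  refine ⟨⟨⟨a, b, fun y => ?_, fun y => ?_⟩, fun x y => ?_⟩, ha⟩
  · apply R.inj
    rw [← hb, ← ha]; group
  · apply R.inj
    rw [← ha, ← hb]; group
  · apply R.inj
    show f (a (x * y)) = f (a x * a y)
    rw [map_mul, ← ha, ← ha, ← ha, map_mul]; group

/-- An element of `C(t)` inducing an inner automorphism. -/
theorem mem_of_conj (R : Frame t f) {g : G} (hg : g * t = t * g) {x : ↥(chevF4.group F)}
    (hx : ∀ y, g * f y * g⁻¹ = f (x * y * x⁻¹)) : g = f x ∨ g = t * f x := by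
  have h1 : (f x)⁻¹ * g * t = t * ((f x)⁻¹ * g) := by
    have h2 : (f x)⁻¹ * t = t * (f x)⁻¹ := inv_comm (R.ft x)
    rw [mul_assoc, hg, ← mul_assoc, h2, mul_assoc]
  rcases R.cK _ h1 (fun y => by
    have h3 := hx y
    rw [map_mul, map_mul, map_inv] at h3
    calc (f x)⁻¹ * g * f y = (f x)⁻¹ * (g * f y * g⁻¹) * g := by group
      _ = (f x)⁻¹ * (f x * f y * (f x)⁻¹) * g := by rw [h3]
      _ = f y * ((f x)⁻¹ * g) := by group) with h | h
  · left
    exact (inv_mul_eq_one.1 h).symm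
  · right
    rw [← R.ft, ← h, mul_inv_cancel_left]

/-- From automorphisms to elements of `C(t)`. -/
theorem mem_of_aut (R : Frame t f) {P Q : Subgroup ↥(chevF4.group F)}
    (hP : ∀ α : MulAut ↥(chevF4.group F), (∀ y ∈ P, α y = y) → ∃ z ∈ Q, ∀ y, α y = z * y * z⁻¹)
    {g : G} (hg : g * t = t * g) (hgP : ∀ y ∈ P, g * f y = f y * g) : ∃ z ∈ Q, g = f z ∨ g = t * f z := by
  obtain ⟨α, hα⟩ := R.exists_aut hg
  obtain ⟨z, hz, h⟩ := hP α (fun y hy => by
    apply R.inj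
    rw [← hα, hgP y hy, mul_inv_cancel_right])
  exact ⟨z, hz, R.mem_of_conj hg fun y => by rw [hα, h]⟩

theorem not_mem_range (R : Frame t f) (hc : ∀ z : ↥(chevF4.group F), (∀ y, z * y = y * z) → z = 1) : ∀ y, f y ≠ t := by
  intro y hy
  apply R.t1
  rw [← hy, hc y (fun x => R.inj (by rw [map_mul, map_mul, hy, R.ft x])), map_one]

/-- If `P = C(Q)` is perfect, then an element normalising `C(t) ∩ C(f Q)` normalises `f P`. -/
theorem res (R : Frame t f) {P : Subgroup ↥(chevF4.group F)} {Q : Set ↥(chevF4.group F)}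
    (hP : ⁅P, P⁆ = P) (hPQ : ∀ x, x ∈ P ↔ ∀ y ∈ Q, x * y = y * x) {n : G}
    (hn : ∀ c : G, c * t = t * c → (∀ y ∈ Q, c * f y = f y * c) →
      n * c * n⁻¹ * t = t * (n * c * n⁻¹) ∧ ∀ y ∈ Q, n * c * n⁻¹ * f y = f y * (n * c * n⁻¹)) :
    ∀ x ∈ P, ∃ x' ∈ P, n * f x * n⁻¹ = f x' := by
  set L : Subgroup G := (P.map f).map (MulAut.conj n).toMonoidHom with hL
  have h1 : ∀ x ∈ P, n * f x * n⁻¹ * t = t * (n * f x * n⁻¹) ∧ ∀ y ∈ Q, n * f x * n⁻¹ * f y = f y * (n * f x * n⁻¹) :=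
    fun x hx => hn (f x) (R.ft x) (fun y hy => by rw [← map_mul, (hPQ x).1 hx y hy, map_mul])
  have hLr : L ≤ f.range := by
    apply R.perf
    · rintro _ ⟨_, ⟨x, hx, rfl⟩, rfl⟩
      exact (h1 x hx).1
    · rw [hL, ← map_commutator, ← map_commutator, hP]
  intro x hx
  obtain ⟨x', hx'⟩ := hLr ⟨f x, ⟨x, hx, rfl⟩, rfl⟩
  have hx'' : f x' = n * f x * n⁻¹ := hx'
  refine ⟨x', (hPQ x').2 fun y hy => R.inj ?_, hx''.symm⟩
  rw [map_mul, map_mul, hx'']
  exact (h1 x hx).2 y hy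

end Frame

end Cfsg.Agent.OddHalf.D7F4
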