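import Cfsg.Agent.OddHalf.D7F4.Dual
import Cfsg.Agent.KFacts.F4Pair

/-!
# K = F4(q): the K-facts `KF` from `KFacts/F4Pair` (S1765, node D7)
-/

set_option autoImplicit false
set_option Elab.async false

namespace Cfsg.Agent.OddHalf.D7F4.KBridge

open CoxeterSystem Cfsg.Agent.ChevalleyStructure.CoxeterGeom Cfsg.Agent.Tits.Roots Cfsg.Agent.Tits.Core
open Cfsg.Lie Cfsg.Agent.ChevalleyStructure Cfsg.Agent.ChevalleyStructure.Elts
  Cfsg.Agent.ChevalleyStructure.RootVec Cfsg.Agent.ChevalleyStructure.CoxeterGeomTypes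
open Cfsg.Agent.Nodes Cfsg.Agent.Nodes.Reps Cfsg.Agent.Nodes.BNOf Cfsg.Agent.Nodes.RGDChev Cfsg.Agent.Nodes.Coroot
  Cfsg.Agent.Nodes.KindF Cfsg.Agent.KFacts.ChevTwo Cfsg.Agent.KFacts.ChevTwoTab Cfsg.Agent.KFacts.ChevTwoInst
  Cfsg.Agent.KFacts.F4Star Cfsg.Agent.KFacts.F4Cent Cfsg.Agent.KFacts.F4Pair
open Cfsg.Agent.OddHalf.D7F4 Cfsg.Agent.OddHalf.D7F4.Model

/-- the root with index `r`, computably -/
def vv (r : ℕ) : Fin 4 → ℤ := fun i => rt chevF4 r i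

theorem vv_eq (r : ℕ) : v r = vv r := by
  funext i
  rfl

theorem vv_mem : ∀ r ∈ List.range 48, vv r ∈ rts := by decide +kernel
theorem vv_surj : ∀ x ∈ rts, ∃ r ∈ List.range 48, vv r = x := by decide +kernel
theorem car_ok : ∀ r ∈ List.range 48, ∀ s ∈ List.range 48,
    carB chevF4 r s * B (vv r) (vv r) = 2 * B (vv s) (vv r) := by decide +kernel

section

variable {W : Type*} [Group W] (cs : CoxeterSystem CoxeterMatrix.F₄ W)

theorem isRoot_iff' {x : Fin 4 → ℤ} : IsRoot cs isType.isCartan x ↔ x ∈ rts := by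
  constructor
  · intro hx
    obtain ⟨r, hr, rfl⟩ := exists_v cs hx
    rw [vv_eq]
    exact vv_mem r (List.mem_range.2 hr)
  · intro hx
    obtain ⟨r, hr, rfl⟩ := vv_surj x hx
    rw [← vv_eq]
    exact isRoot_v cs (List.mem_range.1 hr)

theorem cpr_eq {x y : Fin 4 → ℤ} (hx : x ∈ rts) (hy : y ∈ rts) :
    cpr cs isType.isCartan x y * B y y = 2 * B x y := by
  obtain ⟨s, hs, rfl⟩ := vv_surj x hx
  obtain ⟨r, hr, rfl⟩ := vv_surj y hy
  rw [← car_ok r hr s hs, ← vv_eq, ← vv_eq, cpr_v cs (List.mem_range.1 hr) (List.mem_range.1 hs)]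

theorem cpr_short {x y : Fin 4 → ℤ} (hx : x ∈ rts) (hy : y ∈ rts) (h : B y y = 2) :
    cpr cs isType.isCartan x y = B x y := by
  have := cpr_eq cs hx hy
  rw [h] at this
  omega

theorem cpr_long {x y : Fin 4 → ℤ} (hx : x ∈ rts) (hy : y ∈ rts) (h : B y y = 4) :
    2 * cpr cs isType.isCartan x y = B x y := by
  have := cpr_eq cs hx hy
  rw [h] at this
  omega

theorem short_ex : ∀ x ∈ rts, B x x = 2 → ∃ y ∈ rts, y ≠ x ∧ y ≠ -x ∧ B y x = 2 := by decide +kernel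

theorem lg_iff {x : Fin 4 → ℤ} : Lg cs x ↔ x ∈ rts ∧ B x x = 4 := by
  constructor
  · rintro ⟨h1, h2⟩
    have hx := (isRoot_iff' cs).1 h1
    refine ⟨hx, ?_⟩
    rcases norm x hx with h3 | h3
    · exfalso
      obtain ⟨y, hy, h4, h5, h6⟩ := short_ex x hx h3
      have h7 := h2 y ((isRoot_iff' cs).2 hy) h4 h5
      rw [cpr_short cs hy hx h3] at h7
      omega
    · exact h3
  · rintro ⟨hx, h1⟩
    refine ⟨(isRoot_iff' cs).2 hx, fun y hy h2 h3 => ?_⟩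
    have hy' := (isRoot_iff' cs).1 hy
    have h4 := cpr_long cs hy' hx h1
    rcases norm y hy' with h5 | h5
    · have := roots.ls x hx y hy' h1 h5
      rw [B_symm] at this
      omega
    · have h6 := roots.ll y hy' x hx h5 h1
      have h7 : B y x ≠ 4 := fun h => h2 (h6.2.2 h)
      omega

theorem sh_iff {x : Fin 4 → ℤ} : Sh cs x ↔ x ∈ rts ∧ B x x = 2 := by
  unfold Sh
  rw [lg_iff, isRoot_iff']
  constructor
  · rintro ⟨hx, h1⟩
    rcases norm x hx with h3 | h3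
    · exact ⟨hx, h3⟩
    · exact absurd ⟨hx, h3⟩ h1
  · rintro ⟨hx, h1⟩
    refine ⟨hx, fun h2 => ?_⟩
    have := h2.2
    omega

/-- the roots in the cone of `a`, `b`, in terms of `B` -/
theorem psiL_iff {a b c : Fin 4 → ℤ} (ha : a ∈ rts) (hb : b ∈ rts) :
    c ∈ Psi cs 0 1 a b ↔ c ∈ rts ∧ (B c c = 4 ∧ 0 ≤ B c a ∧ 0 ≤ B c b ∨ B c c = 2 ∧ 0 < B c a ∧ 0 < B c b) := by
  have key : ∀ d ∈ rts, ∀ c ∈ rts, (0 ≤ cpr cs isType.isCartan c d ↔ 0 ≤ B c d) ∧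
      (1 ≤ cpr cs isType.isCartan c d ↔ 0 < B c d) := by
    intro d hd c hc
    rcases norm d hd with h | h
    · rw [cpr_short cs hc hd h]
      omega
    · have := cpr_long cs hc hd h
      omega
  unfold Psi
  rw [Set.mem_setOf_eq, isRoot_iff', lg_iff, sh_iff]
  constructor
  · rintro ⟨hc, h1, h2⟩
    refine ⟨hc, ?_⟩
    rcases norm c hc with h3 | h3
    · right
      obtain ⟨h4, h5⟩ := h2 ⟨hc, h3⟩
      exact ⟨h3, ((key a ha c hc).2).1 h4, ((key b hb c hc).2).1 h5⟩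
    · left
      obtain ⟨h4, h5⟩ := h1 ⟨hc, h3⟩
      exact ⟨h3, ((key a ha c hc).1).1 h4, ((key b hb c hc).1).1 h5⟩
  · rintro ⟨hc, h1⟩
    refine ⟨hc, fun h2 => ?_, fun h2 => ?_⟩
    · rcases h1 with h1 | h1
      · exact ⟨((key a ha c hc).1).2 h1.2.1, ((key b hb c hc).1).2 h1.2.2⟩
      · have := h2.2; omega
    · rcases h1 with h1 | h1
      · have := h2.2; omega
      · exact ⟨((key a ha c hc).2).2 h1.2.1, ((key b hb c hc).2).2 h1.2.2⟩

theorem psiS_iff {a b c : Fin 4 → ℤ} (ha : a ∈ rts) (hb : b ∈ rts) :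
    c ∈ Psi cs 1 0 a b ↔ c ∈ rts ∧ (B c c = 2 ∧ 0 ≤ B c a ∧ 0 ≤ B c b ∨ B c c = 4 ∧ 0 < B c a ∧ 0 < B c b) := by
  have key : ∀ d ∈ rts, ∀ c ∈ rts, (0 ≤ cpr cs isType.isCartan c d ↔ 0 ≤ B c d) ∧
      (1 ≤ cpr cs isType.isCartan c d ↔ 0 < B c d) := by
    intro d hd c hc
    rcases norm d hd with h | h
    · rw [cpr_short cs hc hd h]
      omega
    · have := cpr_long cs hc hd h
      omega
  unfold Psi
  rw [Set.mem_setOf_eq, isRoot_iff', lg_iff, sh_iff]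
  constructor
  · rintro ⟨hc, h1, h2⟩
    refine ⟨hc, ?_⟩
    rcases norm c hc with h3 | h3
    · left
      obtain ⟨h4, h5⟩ := h2 ⟨hc, h3⟩
      exact ⟨h3, ((key a ha c hc).1).1 h4, ((key b hb c hc).1).1 h5⟩
    · right
      obtain ⟨h4, h5⟩ := h1 ⟨hc, h3⟩
      exact ⟨h3, ((key a ha c hc).2).1 h4, ((key b hb c hc).2).1 h5⟩
  · rintro ⟨hc, h1⟩
    refine ⟨hc, fun h2 => ?_, fun h2 => ?_⟩
    · rcases h1 with h1 | h1
      · have := h2.2; omega
      · exact ⟨((key a ha c hc).2).2 h1.2.1, ((key b hb c hc).2).2 h1.2.2⟩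
    · rcases h1 with h1 | h1
      · exact ⟨((key a ha c hc).1).2 h1.2.1, ((key b hb c hc).1).2 h1.2.2⟩
      · have := h2.2; omega

end

end Cfsg.Agent.OddHalf.D7F4.KBridge
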