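import Cfsg.Agent.KFacts.F4Pair

/-!
# The root groups of `K = F₄(q)` in `G` (S1765, node D7)
-/

set_option autoImplicit false

namespace Cfsg.Agent.OddHalf.D7F4

open Cfsg.Lie Cfsg.Agent.KFacts.F4Pair

universe u

/-- the root groups in `G` -/
abbrev XG {G : Type*} [Group G] {F : Type u} [Field F] (f : ↥(chevF4.group F) →* G) (a : Fin 4 → ℤ) : Subgroup G :=
  (XF F a).map f

end Cfsg.Agent.OddHalf.D7F4
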