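import Cfsg.Agent.KFacts.F4Model
import Cfsg.Agent.KFacts.F4Aut
import Cfsg.Agent.OddHalf.D7F4.KBridge
import Cfsg.Agent.OddHalf.D7F4.XG
import Cfsg.Agent.OddHalf.D7F4.Frame
import Cfsg.Agent.OddHalf.D7F4.CCModel

/-!
# K = F4(q), q ≥ 4 even: the K-facts `KF`, `KG` in `G` (S1765, node D7; helper186)

`f : F₄(F) → G` the frame of helper588, `XG f a = f (X_a)`. `InnerX F`: an automorphism of `F₄(F)` which is trivial on one
root group is inner (helper640).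

* `innerX : InnerX F`;
* `kf : Frame t f → InnerX F → 2 < |F| → KF t (XG f)`;
* `kg : Frame t f → InnerX F → KG t (XG f)`.
-/

set_option autoImplicit false
set_option Elab.async false

namespace Cfsg.Agent.OddHalf.D7F4.KInst

open CoxeterSystem Cfsg.Agent.ChevalleyStructure.CoxeterGeom Cfsg.Agent.Tits.Roots Cfsg.Agent.Tits.Core
open Cfsg.Lie Cfsg.Agent.ChevalleyStructure Cfsg.Agent.ChevalleyStructure.Elts
  Cfsg.Agent.ChevalleyStructure.RootVec Cfsg.Agent.ChevalleyStructure.CoxeterGeomTypes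
open Cfsg.Agent.Nodes Cfsg.Agent.Nodes.Reps Cfsg.Agent.Nodes.BNOf Cfsg.Agent.Nodes.RGDChev Cfsg.Agent.Nodes.Coroot
  Cfsg.Agent.Nodes.KindF Cfsg.Agent.KFacts.ChevTwo Cfsg.Agent.KFacts.ChevTwoTab Cfsg.Agent.KFacts.ChevTwoInst
  Cfsg.Agent.KFacts.F4Star Cfsg.Agent.KFacts.F4Cent Cfsg.Agent.KFacts.F4Pair Cfsg.Agent.KFacts.F4Torus
  Cfsg.Agent.KFacts.F4Model
open Cfsg.Agent.OddHalf.D7F4 Cfsg.Agent.OddHalf.D7F4.Model
open scoped commutatorElement

universe u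

variable {G : Type*} [Group G] {F : Type u} [Field F]

theorem mem_XG {f : ↥(chevF4.group F) →* G} {a : Fin 4 → ℤ} {x : G} : x ∈ XG f a ↔ ∃ y ∈ XF F a, f y = x := Iff.rfl

variable (F) in
/-- automorphisms trivial on one root group are inner -/
def InnerX : Prop := ∀ a ∈ rts, ∀ α : MulAut ↥(chevF4.group F), (∀ x ∈ XF F a, α x = x) → ∃ z, ∀ y, α y = z * y * z⁻¹

theorem innerX [Finite F] [CharP F 2] : InnerX F := fun a ha α hα => by
  obtain ⟨g, -, h⟩ := KFacts.F4Aut.inner_of_fix_X cF ((phi_iff cF a).1 ha) hα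
  exact ⟨g, fun y => by rw [h, MulAut.conj_apply]⟩

variable {t : G} {f : ↥(chevF4.group F) →* G}

/-- elements of `C(t)` centralising one root group -/
theorem mem_C (R : Frame t f) (hI : InnerX F) {a : Fin 4 → ℤ} (ha : a ∈ rts) {g : G} (hg : g * t = t * g)
    (h : ∀ x ∈ XG f a, g * x = x * g) : ∃ z, g = f z ∨ g = t * f z := by
  obtain ⟨α, hα⟩ := R.exists_aut hg
  obtain ⟨z, hz⟩ := hI a ha α (fun x hx => R.inj (by
    rw [← hα, h (f x) ⟨x, hx, rfl⟩, mul_inv_cancel_right]))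
  exact ⟨z, R.mem_of_conj hg fun y => by rw [hα, hz]⟩

variable [Finite F] [CharP F 2]

/-- centralisers in `C(t)` from centralisers in `K` -/
theorem cent (R : Frame t f) (hI : InnerX F) {S : Set (Fin 4 → ℤ)} {a₀ : Fin 4 → ℤ} (h₀ : a₀ ∈ S)
    (hS : ∀ a ∈ S, a ∈ rts) {C : Subgroup ↥(chevF4.group F)} (hC : ∀ z, Cm z S → z ∈ C) {g : G} (hg : g * t = t * g)
    (h : ∀ a ∈ S, ∀ x ∈ XG f a, g * x = x * g) : ∃ z ∈ C, g = f z ∨ g = t * f z := by
  obtain ⟨z, hz⟩ := mem_C R hI (hS a₀ h₀) hg (h a₀ h₀)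
  refine ⟨z, hC z fun a ha => ?_, hz⟩
  have h1 : eF F a 1 ∈ XF F a := (mem_X (hS a ha)).2 ⟨1, rfl⟩
  refine ⟨eF F a 1, h1, fun h2 => one_ne_zero (e_eq_one (hS a ha) h2), R.inj ?_⟩
  rw [map_mul, map_mul]
  have h3 := h a ha _ ⟨_, h1, rfl⟩
  rcases hz with rfl | hz
  · exact h3
  · have h4 : f z = t * g := by rw [hz, ← mul_assoc, R.tt, one_mul]
    have h5 := R.ft (eF F a 1)
    calc f z * f (eF F a 1) = t * (g * f (eF F a 1)) := by rw [h4, mul_assoc]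
      _ = (t * f (eF F a 1)) * g := by rw [h3]; group
      _ = f (eF F a 1) * f z := by rw [← h5, h4]; group

/-! ### the torus -/

/-- `X_a ∩ X_b X_c = 1` for commuting root groups -/
theorem ind3 (hF : 2 < Nat.card F) {a b c : Fin 4 → ℤ} (ha : a ∈ rts) (hb : b ∈ rts) (hc : c ∈ rts) (hab : b ≠ a)
    (hab' : b ≠ -a) (hac : a ≠ c) (h1 : 0 ≤ B a b) (h2 : 0 ≤ B a c) (h3 : 0 ≤ B b c) {x y z : ↥(chevF4.group F)}
    (hx : x ∈ XF F a) (hy : y ∈ XF F b) (hz : z ∈ XF F c) (h : x * y * z = 1) : x = 1 := by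
  have := finW
  obtain ⟨d, hd⟩ : ∃ d : Fˣ, d ≠ 1 := by
    by_contra hcon
    push Not at hcon
    have h4 : Nat.card F ≤ 2 := by
      classical
      have := Fintype.ofFinite F
      have h5 : Nat.card Fˣ = 1 := by
        rw [Nat.card_eq_one_iff_unique]
        exact ⟨⟨fun a b => by rw [hcon a, hcon b]⟩, ⟨1⟩⟩
      rw [Nat.card_eq_fintype_card, Fintype.card_units] at h5
      rw [Nat.card_eq_fintype_card]
      omega
    omega
  obtain ⟨δ, hδ, e1, e2⟩ := torus_fix (K := F) cF ((phi_iff cF a).1 ha) ((phi_iff cF b).1 hb) hab hab' d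
  obtain ⟨χ, hχ⟩ := (sysF (K := F) cF).chi δ hδ
  obtain ⟨u, rfl⟩ := (mem_X ha).1 hx
  obtain ⟨v, rfl⟩ := (mem_X hb).1 hy
  obtain ⟨w, rfl⟩ := (mem_X hc).1 hz
  have hz' : δ * eF F c w * δ⁻¹ ∈ XF F c := by
    rw [hχ c ((phi_iff cF c).1 hc)]
    exact (mem_X hc).2 ⟨_, rfl⟩
  have hx' : eF F a (d * u) ∈ XF F a := (mem_X ha).2 ⟨_, rfl⟩
  have h5 : eF F a (d * u) * eF F b v * (δ * eF F c w * δ⁻¹) = 1 := by
    rw [← e1, ← e2 v]
    calc δ * eF F a u * δ⁻¹ * (δ * eF F b v * δ⁻¹) * (δ * eF F c w * δ⁻¹)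
        = δ * (eF F a u * eF F b v * eF F c w) * δ⁻¹ := by group
      _ = 1 := by rw [h]; group
  -- commute
  have k1 := X0 ha hb h1 _ hx _ hy
  have k1' := X0 ha hb h1 _ hx' _ hy
  have h6 : (eF F a u)⁻¹ * eF F a (d * u) = eF F c w * (δ * eF F c w * δ⁻¹)⁻¹ := by
    have h7 : eF F a (d * u) = (δ * eF F c w * δ⁻¹)⁻¹ * (eF F b v)⁻¹ := by
      have h8 : (eF F a (d * u)) * (eF F b v * (δ * eF F c w * δ⁻¹)) = 1 := by rw [← mul_assoc]; exact h5
      rw [eq_inv_of_mul_eq_one_left h8, mul_inv_rev]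
    have h9 : (eF F a u)⁻¹ = eF F b v * eF F c w := by
      rw [mul_assoc] at h
      exact inv_eq_of_mul_eq_one_right h
    have k2 := X0 hb hc h3 _ hy _ hz
    have k3 := X0 hb hc h3 _ hy _ (inv_mem hz')
    rw [h7, h9]
    calc eF F b v * eF F c w * ((δ * eF F c w * δ⁻¹)⁻¹ * (eF F b v)⁻¹)
        = (eF F b v * eF F c w) * (δ * eF F c w * δ⁻¹)⁻¹ * (eF F b v)⁻¹ := by group
      _ = (eF F c w * eF F b v) * (δ * eF F c w * δ⁻¹)⁻¹ * (eF F b v)⁻¹ := by rw [k2]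
      _ = eF F c w * (eF F b v * (δ * eF F c w * δ⁻¹)⁻¹) * (eF F b v)⁻¹ := by group
      _ = eF F c w * ((δ * eF F c w * δ⁻¹)⁻¹ * eF F b v) * (eF F b v)⁻¹ := by rw [k3]
      _ = _ := by group
  have h7 : (eF F a u)⁻¹ * eF F a (d * u) = 1 :=
    ind ha hc hac _ (mul_mem (inv_mem hx) hx') (by rw [h6]; exact mul_mem hz (inv_mem hz'))
  have h8 : eF F a u = eF F a (d * u) := inv_mul_eq_one.1 h7
  have h9 : u = d * u := (dat (K := F)).injective ((phi_iff cF a).1 ha) h8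
  have h10 : u = 0 := by
    by_contra hu
    apply hd
    apply Units.ext
    rw [Units.val_one]
    exact mul_right_cancel₀ hu (by rw [one_mul]; exact h9.symm)
  rw [h10, e_zero ha]

/-! ### elements -/

theorem mem_e {f : ↥(chevF4.group F) →* G} {a : Fin 4 → ℤ} (ha : a ∈ rts) {x : G} :
    x ∈ XG f a ↔ ∃ u, x = f (eF F a u) := by
  constructor
  · rintro ⟨y, hy, rfl⟩
    obtain ⟨u, rfl⟩ := (mem_X ha).1 hy
    exact ⟨u, rfl⟩
  · rintro ⟨u, rfl⟩
    exact ⟨_, (mem_X ha).2 ⟨u, rfl⟩, rfl⟩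

theorem fcomm (f : ↥(chevF4.group F) →* G) (x y : ↥(chevF4.group F)) :
    f x * f y * (f x)⁻¹ * (f y)⁻¹ = f ⁅x, y⁆ := by
  rw [commutatorElement_def, map_mul, map_mul, map_mul, map_inv, map_inv]

theorem psi0_iff {a b c : Fin 4 → ℤ} (ha : a ∈ rts) (hb : b ∈ rts) :
    c ∈ Psi cF 0 0 a b ↔ c ∈ rts ∧ 0 ≤ B c a ∧ 0 ≤ B c b := by
  have key : c ∈ rts → ∀ d ∈ rts, (0 ≤ cpr cF isType.isCartan c d ↔ 0 ≤ B c d) := fun hc d hd =>
    cpr_nonneg_iff cF hc hd
  constructor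
  · rintro ⟨hc, h1, h2⟩
    have hc' : c ∈ rts := (phi_iff cF c).2 hc
    refine ⟨hc', ?_⟩
    rcases lg_or_sh cF hc with h3 | h3
    · exact ⟨(key hc' a ha).1 (h1 h3).1, (key hc' b hb).1 (h1 h3).2⟩
    · exact ⟨(key hc' a ha).1 (h2 h3).1, (key hc' b hb).1 (h2 h3).2⟩
  · rintro ⟨hc, h1, h2⟩
    exact ⟨(phi_iff cF c).1 hc, fun _ => ⟨(key hc a ha).2 h1, (key hc b hb).2 h2⟩,
      fun _ => ⟨(key hc a ha).2 h1, (key hc b hb).2 h2⟩⟩

theorem exL : ∀ s ∈ rts, ∀ s' ∈ rts, B s s = 2 → B s' s' = 2 → B s s' < 2 → -2 < B s s' →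
    ∃ a ∈ rts, B a a = 4 ∧ 0 ≤ B a s ∧ 0 ≤ B a s' := by decide +kernel

theorem exS : ∀ s ∈ rts, ∀ s' ∈ rts, B s s = 4 → B s' s' = 4 → B s s' < 4 → -4 < B s s' →
    ∃ a ∈ rts, B a a = 2 ∧ 0 ≤ B a s ∧ 0 ≤ B a s' := by decide +kernel

theorem exM : ∀ s ∈ rts, ∀ s' ∈ rts, B s s = 4 → B s' s' = 4 → B s s' = 0 → ∃ m ∈ rts, m + m = s + s' := by
  decide +kernel

/-- product decompositions -/
theorem prod3 {s s' : Fin 4 → ℤ} {Z : Subgroup ↥(chevF4.group F)} {z : ↥(chevF4.group F)}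
    (hz : z ∈ RGD.Sup (XF F) (Cone cF s s'))
    (hle : RGD.Sup (XF F) (Cone cF s s') ≤ XF F s ⊔ XF F s' ⊔ Z)
    (h1 : ∀ a ∈ XF F s, ∀ c ∈ Z, a * c = c * a) (h2 : ∀ a ∈ XF F s', ∀ c ∈ Z, a * c = c * a)
    (h3 : ∀ a ∈ XF F s, ∀ b ∈ XF F s', b⁻¹ * a⁻¹ * b * a ∈ Z) (R : Frame t f) {c : G} (hc : c = f z ∨ c = t * f z) :
    ∃ x ∈ XG f s, ∃ y ∈ XG f s', ∃ w ∈ Z.map f, c = x * y * w ∨ c = t * (x * y * w) := by
  obtain ⟨x, hx, y, hy, w, hw, rfl⟩ := mem_sup3 (A := XF F s) (B := XF F s') (C := Z) h1 h2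
    (fun a ha b hb => ⟨_, h3 a ha b hb, by group⟩) (hle hz)
  refine ⟨f x, ⟨x, hx, rfl⟩, f y, ⟨y, hy, rfl⟩, f w, ⟨w, hw, rfl⟩, ?_⟩
  rw [map_mul, map_mul] at hc
  exact hc

theorem comm_same {a b : Fin 4 → ℤ} (ha : a ∈ rts) (hb : b ∈ rts) (hl : B a a = B b b) (h : B a b < 0) (hab : a ≠ -b)
    {x y : ↥(chevF4.group F)} (hx : x ∈ XF F a) (hy : y ∈ XF F b) : ⁅x, y⁆ ∈ XF F (a + b) := by
  obtain ⟨u, rfl⟩ := (mem_X ha).1 hx
  obtain ⟨v, rfl⟩ := (mem_X hb).1 hy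
  rw [comm1 ha hb hl h hab]
  exact (mem_X (roots.add a ha b hb h hab)).2 ⟨_, rfl⟩

theorem k2s (R : Frame t f) (hI : InnerX F) : ∀ s ∈ rts, ∀ s' ∈ rts, B s s = 2 → B s' s' = 2 → B s s' < 2 →
    -2 < B s s' → ∀ c, c * t = t * c →
    (∀ a ∈ rts, (B a a = 4 ∧ 0 ≤ B a s ∧ 0 ≤ B a s' ∨ B a a = 2 ∧ 0 < B a s ∧ 0 < B a s') →
      ∀ x ∈ XG f a, c * x = x * c) →
    ∃ x ∈ XG f s, ∃ y ∈ XG f s', ∃ z, (B s s' = 1 ∧ z = 1 ∨ B s s' ≤ 0 ∧ z ∈ XG f (s + s')) ∧
      (c = x * y * z ∨ c = t * (x * y * z)) := by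
  intro s hs s' hs' h1 h2 h3 h4 c hct hc
  have Rr := roots
  have hss : B s' s = B s s' := Rr.symm _ _
  have hne : s' ≠ -s := by
    rintro rfl
    rw [Rr.neg_right] at h4
    omega
  have hne' : s ≠ -s' := by
    rintro rfl
    exact hne (neg_neg s').symm
  obtain ⟨a₀, ha₀, e1, e2, e3⟩ := exL s hs s' hs' h1 h2 h3 h4
  have hL : ¬ Lg cF s := by rw [lg_iff cF hs]; omega
  have hL' : ¬ Lg cF s' := by rw [lg_iff cF hs']; omega
  have hS' : Sh cF s' := (sh_iff cF hs').2 h2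
  obtain ⟨z, hz, hcz⟩ := cent (S := Psi cF 0 1 s s') (C := RGD.Sup (XF F) (Cone cF s s')) R hI
    ((KBridge.psiL_iff cF hs hs').2 ⟨ha₀, Or.inl ⟨e1, e2, e3⟩⟩)
    (fun a ha => ((KBridge.psiL_iff cF hs hs').1 ha).1)
    (fun z hz => cent_pairL cF ((phi_iff cF s).1 hs) ((phi_iff cF s').1 hs') hne
      (fun h => absurd h hL) (fun h => absurd (h.2 hS') hL) hz) hct
    (fun a ha x hx => hc a ((KBridge.psiL_iff cF hs hs').1 ha).1 ((KBridge.psiL_iff cF hs hs').1 ha).2 x hx)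
  have cp := cpr_of_short cF hs hs' h2
  have cp' := cpr_of_short cF hs' hs h1
  rcases lt_or_ge 0 (B s s') with h5 | h5
  · -- 60°
    obtain ⟨x, hx, y, hy, w, hw, e⟩ := prod3 (Z := ⊥) hz (RGD.Sup_le fun c hc => by
        obtain ⟨hcr, hcc⟩ := hc
        rcases hcc with rfl | rfl | ⟨k1, -, -⟩ | ⟨k1, -, -⟩ | ⟨k1, -, -⟩ | ⟨-, k1, -⟩ | ⟨k1, -, -, -⟩
        · exact le_sup_of_le_left le_sup_left
        · exact le_sup_of_le_left le_sup_right
        · exact absurd k1 (by rw [cp]; omega)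
        · exact absurd k1 (by rw [cp]; omega)
        · exact absurd k1 (by rw [cp]; omega)
        · exact absurd k1 hL
        · exact absurd k1 (by rw [cp]; omega))
      (fun a _ c hc => by rw [Subgroup.mem_bot.1 hc]; group) (fun a _ c hc => by rw [Subgroup.mem_bot.1 hc]; group)
      (fun a ha b hb => by
        have := X0 hs hs' (by omega) a ha b hb
        rw [Subgroup.mem_bot]
        calc b⁻¹ * a⁻¹ * b * a = (a * b)⁻¹ * (b * a) := by group
          _ = 1 := by rw [this]; group) R hcz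
    obtain ⟨w', hw', rfl⟩ := hw
    rw [Subgroup.mem_bot.1 hw', map_one] at e
    exact ⟨x, hx, y, hy, 1, Or.inl ⟨by omega, rfl⟩, e⟩
  · have hle : RGD.Sup (XF F) (Cone cF s s') ≤ XF F s ⊔ XF F s' ⊔ XF F (s + s') := RGD.Sup_le fun c hc => by
      obtain ⟨hcr, hcc⟩ := hc
      rcases hcc with rfl | rfl | ⟨-, -, rfl⟩ | ⟨k1, -, -⟩ | ⟨k1, k2, -⟩ | ⟨-, k1, -⟩ | ⟨-, -, -, rfl⟩
      · exact le_sup_of_le_left le_sup_left
      · exact le_sup_of_le_left le_sup_right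
      · exact le_sup_right
      · exact absurd k1 (by rw [cp]; omega)
      · exact absurd k2 (by rw [cp']; omega)
      · exact absurd k1 hL
      · exact le_sup_right
    have hm : s + s' ∈ rts := by
      rcases eq_or_ne (B s s') 0 with h6 | h6
      · exact (Rr.add_90 hs hs' h1 h2 h6).1
      · exact Rr.add s hs s' hs' (by omega) hne'
    obtain ⟨x, hx, y, hy, w, hw, e⟩ := prod3 hz hle
      (X0 hs hm (by rw [Rr.add_right]; omega)) (X0 hs' hm (by rw [Rr.add_right]; omega))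
      (fun a ha b hb => by
        rcases eq_or_ne (B s s') 0 with h6 | h6
        · have := X0 hs hs' (by omega) a ha b hb
          have e : b⁻¹ * a⁻¹ * b * a = 1 := by
            calc b⁻¹ * a⁻¹ * b * a = (a * b)⁻¹ * (b * a) := by group
              _ = 1 := by rw [this]; group
          rw [e]; exact one_mem _
        · have h7 := comm_same hs' hs (by omega) (by omega) hne (inv_mem hb) (inv_mem ha)
          rw [add_comm s' s] at h7
          have e : ⁅b⁻¹, a⁻¹⁆ = b⁻¹ * a⁻¹ * b * a := by rw [commutatorElement_def, inv_inv, inv_inv]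
          rwa [e] at h7) R hcz
    exact ⟨x, hx, y, hy, w, Or.inr ⟨h5, hw⟩, e⟩

theorem k2l (R : Frame t f) (hI : InnerX F) : ∀ s ∈ rts, ∀ s' ∈ rts, B s s = 4 → B s' s' = 4 → B s s' < 4 →
    -4 < B s s' → ∀ c, c * t = t * c →
    (∀ a ∈ rts, (B a a = 2 ∧ 0 ≤ B a s ∧ 0 ≤ B a s' ∨ B a a = 4 ∧ 0 < B a s ∧ 0 < B a s') →
      ∀ x ∈ XG f a, c * x = x * c) →
    ∃ x ∈ XG f s, ∃ y ∈ XG f s', ∃ z, (B s s' = 2 ∧ z = 1 ∨ B s s' = 0 ∧ (∃ m ∈ rts, m + m = s + s' ∧ z ∈ XG f m) ∨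
      B s s' = -2 ∧ z ∈ XG f (s + s')) ∧ (c = x * y * z ∨ c = t * (x * y * z)) := by
  intro s hs s' hs' h1 h2 h3 h4 c hct hc
  have Rr := roots
  have hss : B s' s = B s s' := Rr.symm _ _
  have hev := (Rr.ll s hs s' hs' h1 h2).1
  have hne : s' ≠ -s := by
    rintro rfl
    rw [Rr.neg_right] at h4
    omega
  have hne' : s ≠ -s' := by
    rintro rfl
    exact hne (neg_neg s').symm
  obtain ⟨a₀, ha₀, e1, e2, e3⟩ := exS s hs s' hs' h1 h2 h3 h4
  have hL : ¬ Sh cF s := by rw [sh_iff cF hs]; omega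
  have hLg : Lg cF s := (lg_iff cF hs).2 h1
  have hL' : ¬ Sh cF s' := by rw [sh_iff cF hs']; omega
  obtain ⟨z, hz, hcz⟩ := cent (S := Psi cF 1 0 s s') (C := RGD.Sup (XF F) (Cone cF s s')) R hI
    ((KBridge.psiS_iff cF hs hs').2 ⟨ha₀, Or.inl ⟨e1, e2, e3⟩⟩)
    (fun a ha => ((KBridge.psiS_iff cF hs hs').1 ha).1)
    (fun z hz => cent_pairS cF ((phi_iff cF s).1 hs) ((phi_iff cF s').1 hs') hne
      (fun h => absurd h hL) (fun h => absurd (h.1 hLg) hL') hz) hct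
    (fun a ha x hx => hc a ((KBridge.psiS_iff cF hs hs').1 ha).1 ((KBridge.psiS_iff cF hs hs').1 ha).2 x hx)
  have cp := cpr_of_long cF hs hs' h2
  have cp' := cpr_of_long cF hs' hs h1
  have h5 : B s s' = 2 ∨ B s s' = 0 ∨ B s s' = -2 := by omega
  rcases h5 with h5 | h5 | h5
  · -- 60°
    obtain ⟨x, hx, y, hy, w, hw, e⟩ := prod3 (Z := ⊥) hz (RGD.Sup_le fun c hc => by
        obtain ⟨hcr, hcc⟩ := hc
        rcases hcc with rfl | rfl | ⟨k1, -, -⟩ | ⟨k1, -, -⟩ | ⟨k1, -, -⟩ | ⟨k1, -, -, -⟩ | ⟨-, k1, -, -⟩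
        · exact le_sup_of_le_left le_sup_left
        · exact le_sup_of_le_left le_sup_right
        · exfalso; omega
        · exfalso; omega
        · exfalso; omega
        · exfalso; omega
        · exact absurd k1 hL)
      (fun a _ c hc => by rw [Subgroup.mem_bot.1 hc]; group) (fun a _ c hc => by rw [Subgroup.mem_bot.1 hc]; group)
      (fun a ha b hb => by
        have := X0 hs hs' (by omega) a ha b hb
        rw [Subgroup.mem_bot]
        calc b⁻¹ * a⁻¹ * b * a = (a * b)⁻¹ * (b * a) := by group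
          _ = 1 := by rw [this]; group) R hcz
    obtain ⟨w', hw', rfl⟩ := hw
    rw [Subgroup.mem_bot.1 hw', map_one] at e
    exact ⟨x, hx, y, hy, 1, Or.inl ⟨h5, rfl⟩, e⟩
  · -- orthogonal
    obtain ⟨m, hm, hmm⟩ := exM s hs s' hs' h1 h2 h5
    have hsm : 2 * B s m = 4 := by
      have : B s (m + m) = 4 := by rw [hmm, Rr.add_right]; omega
      rw [Rr.add_right] at this
      omega
    have hsm' : 2 * B s' m = 4 := by
      have : B s' (m + m) = 4 := by rw [hmm, Rr.add_right]; omega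
      rw [Rr.add_right] at this
      omega
    obtain ⟨x, hx, y, hy, w, hw, e⟩ := prod3 (Z := XF F m) hz (RGD.Sup_le fun c hc => by
        obtain ⟨hcr, hcc⟩ := hc
        rcases hcc with rfl | rfl | ⟨k1, -, -⟩ | ⟨k1, -, -⟩ | ⟨k1, -, -⟩ | ⟨-, -, -, k1⟩ | ⟨-, k1, -, -⟩
        · exact le_sup_of_le_left le_sup_left
        · exact le_sup_of_le_left le_sup_right
        · exfalso; omega
        · exfalso; omega
        · exfalso; omega
        · have : c = m := by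
            funext i
            have k2 := congrFun k1 i
            have k3 := congrFun hmm i
            simp only [Pi.add_apply, Pi.smul_apply, smul_eq_mul] at k2 k3
            omega
          rw [this]
          exact le_sup_right
        · exact absurd k1 hL)
      (X0 hs hm (by omega)) (X0 hs' hm (by omega))
      (fun a ha b hb => by
        have := X0 hs hs' (by omega) a ha b hb
        have e : b⁻¹ * a⁻¹ * b * a = 1 := by
          calc b⁻¹ * a⁻¹ * b * a = (a * b)⁻¹ * (b * a) := by group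
            _ = 1 := by rw [this]; group
        rw [e]; exact one_mem _) R hcz
    exact ⟨x, hx, y, hy, w, Or.inr (Or.inl ⟨h5, m, hm, hmm, hw⟩), e⟩
  · -- 120°
    have hm : s + s' ∈ rts := Rr.add s hs s' hs' (by omega) hne'
    obtain ⟨x, hx, y, hy, w, hw, e⟩ := prod3 (Z := XF F (s + s')) hz (RGD.Sup_le fun c hc => by
        obtain ⟨hcr, hcc⟩ := hc
        rcases hcc with rfl | rfl | ⟨-, -, rfl⟩ | ⟨k1, -, -⟩ | ⟨-, k1, -⟩ | ⟨k1, -, -, -⟩ | ⟨-, k1, -, -⟩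
        · exact le_sup_of_le_left le_sup_left
        · exact le_sup_of_le_left le_sup_right
        · exact le_sup_right
        · exfalso; omega
        · exfalso; omega
        · exfalso; omega
        · exact absurd k1 hL)
      (X0 hs hm (by rw [Rr.add_right]; omega)) (X0 hs' hm (by rw [Rr.add_right]; omega))
      (fun a ha b hb => by
        have h7 := comm_same hs' hs (by omega) (by omega) hne (inv_mem hb) (inv_mem ha)
        rw [add_comm s' s] at h7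
        have e : ⁅b⁻¹, a⁻¹⁆ = b⁻¹ * a⁻¹ * b * a := by rw [commutatorElement_def, inv_inv, inv_inv]
        rwa [e] at h7) R hcz
    exact ⟨x, hx, y, hy, w, Or.inr (Or.inr ⟨h5, hw⟩), e⟩

/-- **The K-facts `KF`.** -/
theorem kf (R : Frame t f) (hI : InnerX F) (hF : 2 < Nat.card F) : KF t (XG f) where
  tt := R.tt
  tX := by
    rintro a - _ ⟨y, -, rfl⟩
    exact (R.ft y).symm
  Xne a ha := ⟨f (eF F a 1), (mem_e ha).2 ⟨1, rfl⟩, fun h => one_ne_zero (e_eq_one ha (R.inj (by rw [h, map_one])))⟩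
  Xsq := by
    intro a ha x hx
    obtain ⟨u, rfl⟩ := (mem_e ha).1 hx
    rw [← map_mul, (dat (K := F)).sq ((phi_iff cF a).1 ha), map_one]
  X0 := by
    rintro a ha b hb h _ ⟨x, hx, rfl⟩ _ ⟨y, hy, rfl⟩
    rw [← map_mul, X0 ha hb h x hx y hy, map_mul]
  X1 := by
    rintro a ha b hb hl h hab _ ⟨x, hx, rfl⟩ _ ⟨y, hy, rfl⟩
    rw [fcomm]
    exact ⟨_, comm_same ha hb hl h hab hx hy, rfl⟩
  X1nd := by
    intro a ha b hb hl h hab x hx y hy hxy
    obtain ⟨u, rfl⟩ := (mem_e ha).1 hx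
    obtain ⟨v, rfl⟩ := (mem_e hb).1 hy
    have h1 : f ⁅eF F a u, eF F b v⁆ = 1 := by rw [← fcomm, hxy]; group
    rw [comm1 ha hb hl h hab] at h1
    have h2 := e_eq_one (roots.add a ha b hb h hab) (R.inj (by rw [h1, map_one]))
    rcases mul_eq_zero.1 h2 with h3 | h3
    · left; rw [h3, e_zero ha, map_one]
    · right; rw [h3, e_zero hb, map_one]
  X1surj := by
    intro a ha b hb hl h hab y hy hy1 z hz
    obtain ⟨v, rfl⟩ := (mem_e hb).1 hy
    obtain ⟨c, rfl⟩ := (mem_e (roots.add a ha b hb h hab)).1 hz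
    have hv : v ≠ 0 := by
      rintro rfl
      exact hy1 (by rw [e_zero hb, map_one])
    refine ⟨f (eF F a (c / v)), (mem_e ha).2 ⟨_, rfl⟩, ?_⟩
    rw [fcomm, comm1 ha hb hl h hab, div_mul_cancel₀ c hv]
  X2 := by
    intro a ha b hb h1 h2 h3 x hx y hy
    obtain ⟨u, rfl⟩ := (mem_e ha).1 hx
    obtain ⟨v, rfl⟩ := (mem_e hb).1 hy
    obtain ⟨m1, m2, m3, m4, m5⟩ := roots.add_ls ha hb h1 h2 h3
    refine ⟨f (eF F (a + b) (u * v)), (mem_e m1).2 ⟨_, rfl⟩, f (eF F (a + b + b) (u * v ^ 2)), (mem_e m4).2 ⟨_, rfl⟩, ?_⟩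
    rw [fcomm, comm2 ha hb h1 h2 h3, map_mul]
  X2nd := by
    intro a ha b hb h1 h2 h3 x hx y hy hxy
    obtain ⟨u, rfl⟩ := (mem_e ha).1 hx
    obtain ⟨v, rfl⟩ := (mem_e hb).1 hy
    obtain ⟨m1, m2, m3, m4, m5⟩ := roots.add_ls ha hb h1 h2 h3
    have h4 : f ⁅eF F a u, eF F b v⁆ = 1 := by rw [← fcomm, hxy]; group
    have h5 := R.inj (h4.trans (map_one f).symm)
    rw [comm2 ha hb h1 h2 h3] at h5
    have hne : a + b ≠ a + b + b := by
      intro e
      rw [← e] at m5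
      omega
    have h6 : eF F (a + b) (u * v) = 1 := ind m1 m4 hne _ ((mem_X m1).2 ⟨_, rfl⟩) (by
      rw [eq_inv_of_mul_eq_one_left h5]
      exact inv_mem ((mem_X m4).2 ⟨_, rfl⟩))
    rcases mul_eq_zero.1 (e_eq_one m1 h6) with h7 | h7
    · left; rw [h7, e_zero ha, map_one]
    · right; rw [h7, e_zero hb, map_one]
  ind := by
    rintro a ha b hb hab _ ⟨x, hx, rfl⟩ ⟨y, hy, e⟩
    rw [R.inj e] at hy
    rw [ind ha hb hab x hx hy, map_one]
  ind3s := by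
    rintro a ha b hb h1 h2 h3 _ ⟨x, hx, rfl⟩ _ ⟨y, hy, rfl⟩ _ ⟨z, hz, rfl⟩ h
    obtain ⟨m1, m2⟩ := roots.add_90 ha hb h1 h2 h3
    have hba : b ≠ a := by
      rintro rfl
      omega
    have hba' : b ≠ -a := by
      rintro rfl
      rw [roots.neg_right] at h3
      omega
    have hac : a ≠ a + b := by
      intro e
      rw [← e] at m2
      omega
    have h4 := roots.symm b a
    rw [ind3 hF ha hb m1 hba hba' hac (by omega) (by rw [roots.add_right]; omega) (by rw [roots.add_right]; omega)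
      hx hy hz (R.inj (by rw [map_mul, map_mul, h, map_one])), map_one]
  ind3l := by
    rintro a ha b hb h1 h2 h3 m hm hmm _ ⟨x, hx, rfl⟩ _ ⟨y, hy, rfl⟩ _ ⟨z, hz, rfl⟩ h
    have hba : b ≠ a := by
      rintro rfl
      omega
    have hba' : b ≠ -a := by
      rintro rfl
      rw [roots.neg_right] at h3
      omega
    have h4 := roots.symm b a
    have hsm : 2 * B a m = 4 := by
      have : B a (m + m) = 4 := by rw [hmm, roots.add_right]; omega
      rw [roots.add_right] at this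
      omega
    have hsm' : 2 * B b m = 4 := by
      have : B b (m + m) = 4 := by rw [hmm, roots.add_right]; omega
      rw [roots.add_right] at this
      omega
    have hac : a ≠ m := by
      rintro rfl
      omega
    rw [ind3 hF ha hb hm hba hba' hac (by omega) (by omega) (by omega)
      hx hy hz (R.inj (by rw [map_mul, map_mul, h, map_one])), map_one]
  K2s := k2s R hI
  K2l := k2l R hI

/-- **The additional K-facts `KG`.** -/
theorem kg (R : Frame t f) (hI : InnerX F) : CCModel.KG t (XG f) where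
  KX := by
    intro a ha b hb h1 h2 h3 c hct hc
    have Rr := roots
    have hne : b ≠ -a := by
      rintro rfl
      rw [Rr.neg_right, Rr.neg_left, h1] at h2
      omega
    have hL' : ¬ Lg cF b := by rw [lg_iff cF hb]; omega
    have hS : ¬ Sh cF a := by rw [sh_iff cF ha]; omega
    obtain ⟨z, hz, hcz⟩ := cent (S := Psi cF 0 0 a b) (C := RGD.Sup (XF F) (Cone cF a b)) R hI
      ((psi0_iff ha hb).2 ⟨ha, by omega, h3⟩) (fun a' ha' => ((psi0_iff ha hb).1 ha').1)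
      (fun z hz => cent_pair cF ((phi_iff cF a).1 ha) ((phi_iff cF b).1 hb) hne hz) hct
      (fun a' ha' x hx => hc a' ((psi0_iff ha hb).1 ha').1 ((psi0_iff ha hb).1 ha').2.1
        ((psi0_iff ha hb).1 ha').2.2 x hx)
    have cp := cpr_of_short cF ha hb h2
    obtain ⟨x, hx, y, hy, w, hw, e⟩ := prod3 (Z := ⊥) hz (RGD.Sup_le fun c hc => by
        obtain ⟨hcr, hcc⟩ := hc
        rcases hcc with rfl | rfl | ⟨k1, -, -⟩ | ⟨k1, -, -⟩ | ⟨k1, -, -⟩ | ⟨-, -, k1, -⟩ | ⟨-, k1, -, -⟩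
        · exact le_sup_of_le_left le_sup_left
        · exact le_sup_of_le_left le_sup_right
        · exfalso; omega
        · exfalso; omega
        · exfalso; omega
        · exact absurd k1 hL'
        · exact absurd k1 hS)
      (fun a _ c hc => by rw [Subgroup.mem_bot.1 hc]; group) (fun a _ c hc => by rw [Subgroup.mem_bot.1 hc]; group)
      (fun a' ha' b' hb' => by
        have := X0 ha hb h3 a' ha' b' hb'
        rw [Subgroup.mem_bot]
        calc b'⁻¹ * a'⁻¹ * b' * a' = (a' * b')⁻¹ * (b' * a') := by group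
          _ = 1 := by rw [this]; group) R hcz
    obtain ⟨w', hw', rfl⟩ := hw
    rw [Subgroup.mem_bot.1 hw', map_one, mul_one] at e
    exact ⟨x, hx, y, hy, e⟩
  KP := by
    intro a ha c hct hc
    obtain ⟨z, hz, hcz⟩ := cent (S := {c | IsRoot cF isType.isCartan c ∧ 0 ≤ cpr cF isType.isCartan c a})
      (C := XF F a) (a₀ := a) R hI
      ⟨(phi_iff cF a).1 ha, (cpr_nonneg_iff cF ha ha).2 (by have := roots.norm_pos ha; omega)⟩
      (fun a' ha' => (phi_iff cF a').2 ha'.1) (fun z hz => cent_P cF ((phi_iff cF a).1 ha) hz) hct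
      (fun a' ha' x hx => hc a' ((phi_iff cF a').2 ha'.1)
        ((cpr_nonneg_iff cF ((phi_iff cF a').2 ha'.1) ha).1 ha'.2) x hx)
    exact ⟨f z, ⟨z, hz, rfl⟩, hcz⟩
  X2p := by
    intro a ha b hb h1 h2 h3 p hp
    obtain ⟨m1, m2, m3, m4, m5⟩ := roots.add_ls ha hb h1 h2 h3
    obtain ⟨c, rfl⟩ := (mem_e m1).1 hp
    refine ⟨f (eF F a c), (mem_e ha).2 ⟨_, rfl⟩, f (eF F b 1), (mem_e hb).2 ⟨_, rfl⟩, f (eF F (a + b + b) c),
      (mem_e m4).2 ⟨_, rfl⟩, ?_⟩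
    rw [fcomm, comm2 ha hb h1 h2 h3, map_mul, mul_one, one_pow, mul_one]
  X2q := by
    intro a ha b hb h1 h2 h3 q hq
    obtain ⟨m1, m2, m3, m4, m5⟩ := roots.add_ls ha hb h1 h2 h3
    obtain ⟨c, rfl⟩ := (mem_e m4).1 hq
    refine ⟨f (eF F a c), (mem_e ha).2 ⟨_, rfl⟩, f (eF F b 1), (mem_e hb).2 ⟨_, rfl⟩, f (eF F (a + b) c),
      (mem_e m1).2 ⟨_, rfl⟩, ?_⟩
    rw [fcomm, comm2 ha hb h1 h2 h3, map_mul, mul_one, one_pow, mul_one]

end Cfsg.Agent.OddHalf.D7F4.KInst
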