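import Cfsg.Agent.OddHalf.D7F4.KFront
import Cfsg.Agent.OddHalf.D7F4.XG

/-!
# `F₄(q)`, `q ≥ 4` even: start of fusion in the frame (ODD D7; helper588)

`R : Frame t f`, `|F| > 2`. `XG f a := (XF F a).map f`.

* `Frame.ctx` : the hypotheses of `FusionOut`;
* `Frame.moved_or1`, `Frame.moved_or2` : `X_ρ` (`X_σ`) is moved or `t` is not conjugate to `t x`, `1 ≠ x ∈ X_ρ` (`X_σ`);
* `Frame.exists_moved` : if `t` is conjugate to `t z ≠ t`, `z ∈ Z(U)`, then `X_ρ` or `X_σ` is moved.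
-/

set_option autoImplicit false
set_option Elab.async false
set_option linter.unusedSectionVars false

namespace Cfsg.Agent.OddHalf.D7F4

open CoxeterSystem Cfsg.Agent.ChevalleyStructure.CoxeterGeom Cfsg.Agent.Tits.Roots Cfsg.Agent.Tits.Core
open Cfsg.Lie Cfsg.Agent.ChevalleyStructure Cfsg.Agent.ChevalleyStructure.Elts
  Cfsg.Agent.ChevalleyStructure.RootVec Cfsg.Agent.ChevalleyStructure.CoxeterGeomTypes
open Cfsg.Agent.Nodes Cfsg.Agent.Nodes.Reps Cfsg.Agent.Nodes.BNOf Cfsg.Agent.Nodes.RGDChev Cfsg.Agent.Nodes.Coroot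
  Cfsg.Agent.Nodes.KindF Cfsg.Agent.Nodes.Bruhat Cfsg.Agent.KFacts.ChevTwo Cfsg.Agent.KFacts.ChevTwoTab
  Cfsg.Agent.KFacts.ChevTwoInst Cfsg.Agent.KFacts.RgdTI
  Cfsg.Agent.KFacts.F4Star Cfsg.Agent.KFacts.F4Cent Cfsg.Agent.KFacts.F4Pair Cfsg.Agent.KFacts.F4Torus
  Cfsg.Agent.KFacts.F4Perf
open Cfsg.Agent.OddHalf.D7F4.KFront Cfsg.Agent.OddHalf.D7F4.Fusion
open scoped commutatorElement

universe u

variable {G : Type*} [Group G] {F : Type u} [Field F]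

variable [Finite F] [CharP F 2]

theorem tor_conj {h : ↥(chevF4.group F)} (hh : h ∈ TF F) {a : Fin 4 → ℤ} (ha : IsRoot c4 isType.isCartan a) :
    ∀ x ∈ XF F a, h * x * h⁻¹ ∈ XF F a := by
  intro x hx
  obtain ⟨t, rfl⟩ := (mem_XF ha).1 hx
  obtain ⟨χ, hχ⟩ := (sysF (K := F) c4).chi h hh
  rw [hχ a ha t]
  exact e_mem_X ha _

theorem tor_U {h : ↥(chevF4.group F)} (hh : h ∈ TF F) : ∀ x ∈ UK F, h * x * h⁻¹ ∈ UK F := by
  intro x hx
  have h1 := (rgd (K := F) isType c4 2).T_le_normalizer_U hh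
  exact (Subgroup.mem_normalizer_iff.1 h1 x).1 hx

theorem maps_map {f : ↥(chevF4.group F) →* G} {h : ↥(chevF4.group F)} {X : Subgroup ↥(chevF4.group F)}
    (h1 : ∀ x ∈ X, h * x * h⁻¹ ∈ X) (h2 : ∀ x ∈ X, h⁻¹ * x * h⁻¹⁻¹ ∈ X) : Maps (f h) (X.map f) (X.map f) := by
  intro y
  constructor
  · rintro ⟨x, hx, rfl⟩
    refine ⟨_, h2 x hx, ?_⟩
    rw [map_mul, map_mul, map_inv, inv_inv]
  · rintro ⟨x, hx, hxy⟩
    refine ⟨_, h1 x hx, ?_⟩
    rw [map_mul, map_mul, map_inv, hxy]; group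

theorem card_XF {a : Fin 4 → ℤ} (ha : IsRoot c4 isType.isCartan a) : Nat.card (XF F a) = Nat.card F := by
  symm
  refine Nat.card_congr (Equiv.ofBijective (fun t => (⟨eF F a t, e_mem_X ha t⟩ : XF F a)) ⟨?_, ?_⟩)
  · intro s t h
    exact (dat (K := F)).injective ha (congrArg Subtype.val h)
  · rintro ⟨x, hx⟩
    obtain ⟨t, rfl⟩ := (mem_XF ha).1 hx
    exact ⟨t, rfl⟩

theorem dis12 (hF : 2 < Nat.card F) : ∀ x, x ∈ X1 F → x ∈ X2 F → x = 1 := by
  intro x h1 h2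
  have D := dat (K := F)
  obtain ⟨s, rfl⟩ := (mem_XF (rv (by norm_num))).1 h1
  obtain ⟨u, hu⟩ := (mem_XF (rv (by norm_num))).1 h2
  obtain ⟨l, hl, hl2⟩ := exists_zpow_ne hF
  have hl1 : l ≠ 1 := by
    have := hl2 1 one_ne_zero (by norm_num) (by norm_num)
    rwa [zpow_one] at this
  have hne : v 44 ≠ v 47 := fun h => absurd (v_inj (by norm_num) (by norm_num) h) (by norm_num)
  have hne' : v 44 ≠ -v 47 := by
    rw [← v_neg (by norm_num)]
    exact fun h => absurd (v_inj (by norm_num) (by norm_num) h) (by norm_num)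
  obtain ⟨t, ht, h3, h4⟩ := torus_fix (K := F) c4 (rv (r := 47) (by norm_num)) (rv (r := 44) (by norm_num)) hne hne'
    (Units.mk0 l hl)
  have h5 := h3 s
  rw [← hu, h4 u, hu, Units.val_mk0] at h5
  have h6 := D.injective (rv (r := 47) (by norm_num)) h5
  have h7 : (l - 1) * s = 0 := by
    rw [sub_mul, one_mul, ← h6, sub_self]
  rcases mul_eq_zero.1 h7 with h7 | h7
  · exact absurd (sub_eq_zero.1 h7) hl1
  · rw [h7, D.zero (rv (by norm_num))]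

theorem big (hF : 2 < Nat.card F) {r : ℕ} (hr : r < 48) {a : ↥(chevF4.group F)} (ha : a ∈ XF F (v r)) :
    ∃ a' ∈ XF F (v r), a' ≠ 1 ∧ a' ≠ a := by
  classical
  have := Fintype.ofFinite F
  obtain ⟨s, rfl⟩ := (mem_XF (rv hr)).1 ha
  obtain ⟨c, hc⟩ : ∃ c : F, c ∉ ({0, s} : Finset F) := by
    by_contra hcon
    push Not at hcon
    have h1 : (Finset.univ : Finset F) ⊆ {0, s} := fun x _ => hcon x
    have h2 := Finset.card_le_card h1
    rw [Finset.card_univ, ← Nat.card_eq_fintype_card] at h2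
    have h3 : ({0, s} : Finset F).card ≤ 2 := Finset.card_le_two
    omega
  rw [Finset.mem_insert, Finset.mem_singleton, not_or] at hc
  exact ⟨eF F (v r) c, e_mem_X (rv hr) c, (dat (K := F)).ne_one (rv hr) hc.1, fun h =>
    hc.2 ((dat (K := F)).injective (rv hr) h)⟩

namespace Frame

variable {t : G} {f : ↥(chevF4.group F) →* G}

theorem map_comm (f : ↥(chevF4.group F) →* G) (g x : ↥(chevF4.group F)) : ⁅f g, f x⁆ = f ⁅g, x⁆ := by
  rw [commutatorElement_def, commutatorElement_def, map_mul, map_mul, map_mul, map_inv, map_inv]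

theorem com_of {f : ↥(chevF4.group F) →* G} {A B : Subgroup ↥(chevF4.group F)}
    (h : ∀ a ∈ A, ∀ b ∈ B, a * b = b * a) : ∀ a ∈ A.map f, ∀ b ∈ B.map f, a * b = b * a := by
  rintro _ ⟨a, ha, rfl⟩ _ ⟨b, hb, rfl⟩
  rw [← map_mul, h a ha b hb, map_mul]

/-- `N(U)` permutes `X_ρ`, `X_σ` -/
theorem perm [Finite G] (R : Frame t f) (hF : 2 < Nat.card F) (n : G) (hn : Maps n ((UK F).map f) ((UK F).map f)) :
    (Maps n (XG f (v 47)) (XG f (v 47)) ∧ Maps n (XG f (v 44)) (XG f (v 44))) ∨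
      (Maps n (XG f (v 47)) (XG f (v 44)) ∧ Maps n (XG f (v 44)) (XG f (v 47))) := by
  have D := dat (K := F)
  have hX1 := X1_le_U (K := F)
  have hX2 := X2_le_U (K := F)
  have cardm : ∀ X : Subgroup ↥(chevF4.group F), Nat.card (X.map f) = Nat.card X := fun X =>
    (Nat.card_congr (X.equivMapOfInjective f R.inj).toEquiv).symm
  refine perm_of (com_of fun a ha b hb => (L_comm1 (U_le_L hb) ha).symm)
    (com_of fun a ha b hb => (L_comm2 (U_le_L hb) ha).symm) ?_ ?_ ?_ ?_ ?_ ?_ ?_ ?_ ?_ n hn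
  · rintro _ ⟨a, ha, rfl⟩ ⟨b, hb, hab⟩
    rw [R.inj hab] at hb
    rw [dis12 hF a ha hb, map_one]
  · rw [cardm, cardm, card_XF (rv (by norm_num)), card_XF (rv (by norm_num))]
  · refine ⟨f (eF F (v 47) 1), ⟨_, e_mem_X (rv (by norm_num)) 1, rfl⟩, fun h => ?_⟩
    rw [← map_one f] at h
    exact D.ne_one (rv (by norm_num)) one_ne_zero (R.inj h)
  · rw [← Subgroup.map_commutator]; exact Subgroup.map_mono X1_le_der
  · rw [← Subgroup.map_commutator]; exact Subgroup.map_mono X2_le_der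
  · intro z hz hc
    rw [← Subgroup.map_commutator] at hz
    obtain ⟨y, -, rfl⟩ := hz
    have h1 : y ∈ ZK F := mem_Z_of_comm fun u hu => R.inj (by
      rw [map_mul, map_mul, hc _ ⟨u, hu, rfl⟩])
    obtain ⟨a, ha, b, hb, rfl⟩ := mem_ZK.1 h1
    exact ⟨f a, ⟨a, ha, rfl⟩, f b, ⟨b, hb, rfl⟩, map_mul _ _ _⟩
  · refine ⟨f (eF F (v 46) 1), ⟨_, e_mem_U (by norm_num) (by norm_num) 1, rfl⟩, ?_, ?_⟩
    · rintro _ ⟨u, hu, rfl⟩
      rw [map_comm]
      exact ⟨_, comm46 1 u hu, rfl⟩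
    · rintro _ ⟨y, hy, rfl⟩
      obtain ⟨s, rfl⟩ := (mem_XF (rv (by norm_num))).1 hy
      refine ⟨f (eF F (v 24) s), ⟨_, e_mem_U (by norm_num) (by norm_num) s, rfl⟩, ?_⟩
      rw [map_comm, c46_24, one_mul]
  · refine ⟨f (eF F (v 40) 1), ⟨_, e_mem_U (by norm_num) (by norm_num) 1, rfl⟩, ?_, ?_⟩
    · rintro _ ⟨u, hu, rfl⟩
      rw [map_comm]
      exact ⟨_, comm40 1 u hu, rfl⟩
    · rintro _ ⟨y, hy, rfl⟩
      obtain ⟨s, rfl⟩ := (mem_XF (rv (by norm_num))).1 hy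
      refine ⟨f (eF F (v 33) s), ⟨_, e_mem_U (by norm_num) (by norm_num) s, rfl⟩, ?_⟩
      rw [map_comm, c40_33, one_mul]
  · rintro _ ⟨g, hg, rfl⟩ hgZ
    have h1 : ∀ u ∈ UK F, ⁅g, u⁆ ∈ ZK F := by
      intro u hu
      obtain ⟨_, ⟨a, ha, rfl⟩, _, ⟨b, hb, rfl⟩, hab⟩ := hgZ _ ⟨u, hu, rfl⟩
      rw [map_comm, ← map_mul] at hab
      rw [R.inj hab]
      exact mem_ZK.2 ⟨a, ha, b, hb, rfl⟩
    rcases tri hF h1 with h | h | h
    · left
      rintro _ ⟨u, hu, rfl⟩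
      rw [map_comm]
      exact ⟨_, h u hu, rfl⟩
    · right; left
      rintro _ ⟨u, hu, rfl⟩
      rw [map_comm]
      exact ⟨_, h u hu, rfl⟩
    · right; right
      rintro _ ⟨a, ha, rfl⟩ _ ⟨b, hb, rfl⟩
      obtain ⟨u, hu, hx⟩ := h a ha b hb
      exact ⟨f u, ⟨u, hu, rfl⟩, by rw [map_comm, hx, map_mul]⟩

/-- **The hypotheses of the fusion hold in a frame.** -/
theorem ctx [Finite G] (R : Frame t f) (hF : 2 < Nat.card F) :
    FusionOut.Ctx t f.range ((UK F).map f) (XG f (v 47)) (XG f (v 44)) ((TF F).map f) where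
  tt := R.tt
  Kt := by
    rintro _ ⟨y, rfl⟩
    exact R.ft y
  perf := R.perf
  UK := by
    rintro _ ⟨y, -, rfl⟩
    exact ⟨y, rfl⟩
  pU := (kf0 hF).pU.map f
  maxU := by
    intro P hP hU hPK
    have h1 : P.comap f ≤ UK F := (kf0 hF).maxU _ (hP.comap_of_injective f R.inj) (by
      intro x hx
      exact hU ⟨x, hx, rfl⟩)
    intro x hx
    obtain ⟨y, rfl⟩ := hPK hx
    exact ⟨y, h1 hx, rfl⟩
  X₁U := Subgroup.map_mono X1_le_U
  X₂U := Subgroup.map_mono X2_le_U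
  c₁ := com_of fun _ ha _ hb => (L_comm1 (U_le_L hb) ha).symm
  c₂ := com_of fun _ ha _ hb => (L_comm2 (U_le_L hb) ha).symm
  sq₁ := by
    rintro _ ⟨x, hx, rfl⟩
    rw [← map_mul, sq_X (by norm_num) hx, map_one]
  sq₂ := by
    rintro _ ⟨x, hx, rfl⟩
    rw [← map_mul, sq_X (by norm_num) hx, map_one]
  cov := by
    refine ⟨(LK F).map f, ?_, Subgroup.map_mono U_le_L, ?_, ?_, ?_⟩
    · rw [← Subgroup.map_commutator, LK_perfect hF]
    · rintro _ ⟨y, -, rfl⟩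
      exact ⟨y, rfl⟩
    · exact com_of fun _ ha _ hb => (L_comm1 hb ha).symm
    · exact com_of fun _ ha _ hb => (L_comm2 hb ha).symm
  Ht := by
    rintro _ ⟨h, -, rfl⟩
    exact R.ft h
  HU := by
    rintro _ ⟨h, hh, rfl⟩
    exact maps_map (tor_U hh) (tor_U (inv_mem hh))
  H₁ := by
    rintro _ ⟨h, hh, rfl⟩
    exact maps_map (tor_conj hh (rv (by norm_num))) (tor_conj (inv_mem hh) (rv (by norm_num)))
  H₂ := by
    rintro _ ⟨h, hh, rfl⟩
    exact maps_map (tor_conj hh (rv (by norm_num))) (tor_conj (inv_mem hh) (rv (by norm_num)))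
  Htr := by
    rintro _ ⟨a, ha, rfl⟩ _ ⟨b, hb, rfl⟩ _ ⟨a', ha', rfl⟩ _ ⟨b', hb', rfl⟩ h1 h2 h3 h4
    have D := dat (K := F)
    have ne : ∀ {y : ↥(chevF4.group F)}, f y ≠ 1 → y ≠ 1 := fun h h' => h (by rw [h', map_one])
    obtain ⟨a, ha0, rfl⟩ := (sysF (K := F) c4).exists_e (rv (r := 47) (by norm_num)) ha (ne h1)
    obtain ⟨b, hb0, rfl⟩ := (sysF (K := F) c4).exists_e (rv (r := 44) (by norm_num)) hb (ne h2)
    obtain ⟨a', ha0', rfl⟩ := (sysF (K := F) c4).exists_e (rv (r := 47) (by norm_num)) ha' (ne h3)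
    obtain ⟨b', hb0', rfl⟩ := (sysF (K := F) c4).exists_e (rv (r := 44) (by norm_num)) hb' (ne h4)
    have hne : v 44 ≠ v 47 := fun h => absurd (v_inj (by norm_num) (by norm_num) h) (by norm_num)
    have hne' : v 44 ≠ -v 47 := by
      rw [← v_neg (by norm_num)]
      exact fun h => absurd (v_inj (by norm_num) (by norm_num) h) (by norm_num)
    obtain ⟨s, hs, h5, h6⟩ := torus_pair (K := F) c4 (rv (r := 47) (by norm_num)) (rv (r := 44) (by norm_num)) hne hne'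
      (Units.mk0 (a' * a⁻¹) (mul_ne_zero ha0' (inv_ne_zero ha0)))
      (Units.mk0 (b' * b⁻¹) (mul_ne_zero hb0' (inv_ne_zero hb0)))
    have h7 := h5 a
    have h8 := h6 b
    rw [Units.val_mk0, inv_mul_cancel_right₀ ha0] at h7
    rw [Units.val_mk0, inv_mul_cancel_right₀ hb0] at h8
    refine ⟨f s⁻¹, ⟨s⁻¹, inv_mem hs, rfl⟩, ?_, ?_⟩
    · rw [← h7, map_inv, inv_inv, map_mul, map_mul, map_inv]
    · rw [← h8, map_inv, inv_inv, map_mul, map_mul, map_inv]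
  big₁ := by
    rintro _ ⟨a, ha, rfl⟩
    obtain ⟨a', ha', h1, h2⟩ := big hF (by norm_num) ha
    exact ⟨f a', ⟨a', ha', rfl⟩, fun h => h1 (R.inj (by rw [h, map_one])), fun h => h2 (R.inj h)⟩
  big₂ := by
    rintro _ ⟨a, ha, rfl⟩
    obtain ⟨a', ha', h1, h2⟩ := big hF (by norm_num) ha
    exact ⟨f a', ⟨a', ha', rfl⟩, fun h => h1 (R.inj (by rw [h, map_one])), fun h => h2 (R.inj h)⟩
  perm := R.perm hF

/-- `X_ρ` is moved or `t` is not conjugate to `t x`, `1 ≠ x ∈ X_ρ`. -/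
theorem moved_or1 [Finite G] (R : Frame t f) (hF : 2 < Nat.card F) :
    Moved t (XG f (v 47)) ∨ ∀ g : G, ∀ x ∈ XG f (v 47), g⁻¹ * t * g = t * x → x = 1 := (R.ctx hF).moved_or

/-- `X_σ` is moved or `t` is not conjugate to `t x`, `1 ≠ x ∈ X_σ`. -/
theorem moved_or2 [Finite G] (R : Frame t f) (hF : 2 < Nat.card F) :
    Moved t (XG f (v 44)) ∨ ∀ g : G, ∀ x ∈ XG f (v 44), g⁻¹ * t * g = t * x → x = 1 := (R.ctx hF).symm.moved_or

/-- If `t` is conjugate to `t z ≠ t`, `z ∈ Z(U)`, then `X_ρ` or `X_σ` is moved. -/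
theorem exists_moved [Finite G] (R : Frame t f) (hF : 2 < Nat.card F) {g : G} {z : ↥(chevF4.group F)} (hz : z ∈ ZK F)
    (hz1 : z ≠ 1) (hg : g⁻¹ * t * g = t * f z) : Moved t (XG f (v 47)) ∨ Moved t (XG f (v 44)) := by
  obtain ⟨a, ha, b, hb, rfl⟩ := mem_ZK.1 hz
  refine (R.ctx hF).exists_moved (a := f a) (b := f b) ⟨a, ha, rfl⟩ ⟨b, hb, rfl⟩ ?_ (by rw [hg, map_mul])
  rw [← map_mul, ← map_one f]
  exact fun h => hz1 (R.inj h)

end Frame

end Cfsg.Agent.OddHalf.D7F4
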