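import Cfsg.Agent.OddHalf.D7F4.Dual

/-!
# Leading terms in the unipotent group of F4(q), `q` even (S1765, node D7; K-facts for the END with an outer part)

On the explicit root system `Model` with the generic functional `lv`; `U = Ab X 0`, `Ab X k = ⟨X b : k < lv b⟩`,
`ρ` the highest root, `σ` the highest short root.

* `lead`: `u = x u'`, `1 ≠ x ∈ X r`, `u' ∈ Ab X (lv r)`, `a > 0`, `|a| = |r|`, `(a, r) < 0`: no `1 ≠ y ∈ X a` commutes
  with `u`; `exists_lead`: every `1 ≠ u ∈ U` is of this form;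
* `main`: `u ∈ U` lies in `X ρ X σ` or there is `a > 0` such that no `1 ≠ y ∈ X a` commutes with `u`;
* `many` (k3): a noncentral element of `U` has at least `q` conjugates;
* `cent_of_comm`: `u ∈ U` commuting with all commutators of positive root elements of the same length lies in
  `X ρ X σ X (ρ - α₃) X (σ - α₀)`;
* `k1`: `C_T([T, T]) ≤ ⟨t⟩ X ρ X σ` as soon as `T` has an element of field or of graph type.
-/

set_option autoImplicit false

namespace Cfsg.Agent.OddHalf.D7F4.Lead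

open Model

/-! ### Root combinatorics -/

/-- the highest root -/
def ρ : Fin 4 → ℤ := ![2, 4, 3, 2]
/-- the highest short root -/
def σ : Fin 4 → ℤ := ![2, 3, 2, 1]
/-- `ρ - α₃` -/
def ρ' : Fin 4 → ℤ := ![2, 4, 3, 1]
/-- `σ - α₀` -/
def σ' : Fin 4 → ℤ := ![1, 3, 2, 1]
/-- the long end node -/
def α3 : Fin 4 → ℤ := ![0, 0, 0, 1]
/-- the short end node -/
def α0 : Fin 4 → ℤ := ![1, 0, 0, 0]

theorem ρ_mem : ρ ∈ rts := by decide +kernel
theorem σ_mem : σ ∈ rts := by decide +kernel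
theorem ρ'_mem : ρ' ∈ rts := by decide +kernel
theorem σ'_mem : σ' ∈ rts := by decide +kernel
theorem α3_mem : α3 ∈ rts := by decide +kernel
theorem α0_mem : α0 ∈ rts := by decide +kernel
theorem ρ_pos : 0 < lv ρ := by decide +kernel
theorem σ_pos : 0 < lv σ := by decide +kernel
theorem ρ'_pos : 0 < lv ρ' := by decide +kernel
theorem σ'_pos : 0 < lv σ' := by decide +kernel
theorem α3_pos : 0 < lv α3 := by decide +kernel
theorem α0_pos : 0 < lv α0 := by decide +kernel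
theorem lv_ρ : lv ρ = 35 := by decide +kernel

/-- `ρ`, `σ` are dominant -/
theorem dom : ∀ a ∈ rts, 0 < lv a → 0 ≤ B ρ a ∧ 0 ≤ B σ a := by decide +kernel

theorem up : ∀ r ∈ rts, 0 < lv r → r = ρ ∨ r = σ ∨ ∃ a ∈ rts, 0 < lv a ∧ B r r = B a a ∧ B r a < 0 := by
  decide +kernel

theorem up2 : ∀ r ∈ rts, 0 < lv r → r = ρ ∨ r = σ ∨ r = ρ' ∨ r = σ' ∨ ∃ a ∈ rts, ∃ b ∈ rts, 0 < lv a ∧ 0 < lv b ∧
    B a a = B b b ∧ B a b < 0 ∧ B r r = B a a ∧ B r (a + b) < 0 ∧ B r r = B (a + b) (a + b) := by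
  decide +kernel

theorem low2 : ∀ a ∈ rts, ∀ b ∈ rts, 0 < lv a → 0 < lv b → B a a = B b b → B a b < 0 →
    0 ≤ B ρ (a + b) ∧ 0 ≤ B σ (a + b) ∧ 0 ≤ B ρ' (a + b) ∧ 0 ≤ B σ' (a + b) := by
  decide +kernel

/-! ### The filtration -/

variable {G : Type*} [Group G] {t : G} {X : (Fin 4 → ℤ) → Subgroup G}

/-- the group generated by the root groups above level `k` -/
def Ab (X : (Fin 4 → ℤ) → Subgroup G) (k : ℤ) : Subgroup G := ⨆ b : Fin 4 → ℤ, ⨆ _ : b ∈ Phi ∧ k < lv b, X b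

theorem le_Ab {k : ℤ} {b : Fin 4 → ℤ} (hb : b ∈ rts) (hk : k < lv b) : X b ≤ Ab X k :=
  le_iSup₂_of_le (f := fun b (_ : b ∈ Phi ∧ k < lv b) => X b) b ⟨hb, hk⟩ le_rfl

theorem Ab_le {k : ℤ} {H : Subgroup G} (h : ∀ b ∈ rts, k < lv b → X b ≤ H) : Ab X k ≤ H :=
  iSup₂_le fun b hb => h b hb.1 hb.2

theorem Ab_mono {k l : ℤ} (h : k ≤ l) : Ab X l ≤ Ab X k :=
  Ab_le fun _ hb hk => le_Ab hb (lt_of_le_of_lt h hk)

theorem Ab_top {k : ℤ} (h : 35 ≤ k) : Ab X k = ⊥ := by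
  rw [eq_bot_iff]
  refine Ab_le fun b hb hk => ?_
  have := lv_le b hb
  omega

/-- the standing hypothesis -/
def Dir (X : (Fin 4 → ℤ) → Subgroup G) : Prop := ∀ a ∈ rts, 0 < lv a → ∀ x ∈ X a, x ∈ Ab X (lv a) → x = 1

theorem pos_ne_neg {a b : Fin 4 → ℤ} (ha0 : 0 < lv a) (hb0 : 0 < lv b) : a ≠ -b := by
  rintro rfl
  have h1 := lv_add (-b) b
  rw [neg_add_cancel] at h1
  have h2 := lv_add (0 : Fin 4 → ℤ) 0
  rw [add_zero] at h2
  omega

/-- Commutators of positive root elements. -/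
theorem comm_mem (hK : KF t X) {a b : Fin 4 → ℤ} (ha : a ∈ rts) (hb : b ∈ rts) (ha0 : 0 < lv a) (hb0 : 0 < lv b)
    {x y : G} (hx : x ∈ X a) (hy : y ∈ X b) : x * y * x⁻¹ * y⁻¹ ∈ Ab X (lv a + lv b - 1) := by
  have hne := pos_ne_neg ha0 hb0
  have hsum := lv_add a b
  by_cases h0 : 0 ≤ B a b
  · rw [hK.X0 a ha b hb h0 x hx y hy]
    have : y * x * x⁻¹ * y⁻¹ = 1 := by group
    rw [this]; exact one_mem _
  have h0' : B a b < 0 := not_le.1 h0
  have hm := roots.add a ha b hb h0' hne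
  rcases norm a ha with h2 | h4
  · rcases norm b hb with k2 | k4
    · exact le_Ab hm (by omega) (hK.X1 a ha b hb (by omega) h0' hne x hx y hy)
    · have hs : B b a = B a b := B_symm b a
      have h5 : B b a = -2 := by
        have := ls b hb a ha k4 h2
        omega
      obtain ⟨z, hz, w, hw, e⟩ := hK.X2 b hb a ha k4 h2 h5 y hy x hx
      obtain ⟨m1, -, -, m4, -⟩ := roots.add_ls hb ha k4 h2 h5
      have e1 : x * y * x⁻¹ * y⁻¹ = (y * x * y⁻¹ * x⁻¹)⁻¹ := by group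
      rw [e1, e]
      have l1 := lv_add b a
      have l2 := lv_add (b + a) a
      exact inv_mem (mul_mem (le_Ab m1 (by omega) hz) (le_Ab m4 (by omega) hw))
  · rcases norm b hb with k2 | k4
    · have h5 : B a b = -2 := by
        have := ls a ha b hb h4 k2
        omega
      obtain ⟨z, hz, w, hw, e⟩ := hK.X2 a ha b hb h4 k2 h5 x hx y hy
      obtain ⟨m1, -, -, m4, -⟩ := roots.add_ls ha hb h4 k2 h5
      rw [e]
      have l2 := lv_add (a + b) b
      exact mul_mem (le_Ab m1 (by omega) hz) (le_Ab m4 (by omega) hw)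
    · exact le_Ab hm (by omega) (hK.X1 a ha b hb (by omega) h0' hne x hx y hy)

/-- `U` normalises `Ab X k`. -/
theorem norm_Ab (hK : KF t X) {k : ℤ} (hk : 0 ≤ k) {u w : G} (hu : u ∈ Ab X 0) (hw : w ∈ Ab X k) :
    u * w * u⁻¹ ∈ Ab X k := by
  have h1 : ∀ a ∈ rts, 0 < lv a → ∀ x ∈ X a, ∀ w ∈ Ab X k, x * w * x⁻¹ ∈ Ab X k := by
    intro a ha ha0 x hx w hw
    have hle : Ab X k ≤ (Ab X k).comap (MulAut.conj x).toMonoidHom := by
      refine Ab_le fun b hb hkb y hy => ?_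
      show x * y * x⁻¹ ∈ Ab X k
      have h2 := mul_mem (Ab_mono (by omega) (comm_mem hK ha hb ha0 (by omega) hx hy) : _ ∈ Ab X k)
        (le_Ab hb hkb hy)
      have h3 : x * y * x⁻¹ * y⁻¹ * y = x * y * x⁻¹ := by group
      rwa [h3] at h2
    exact hle hw
  let S : Subgroup G :=
    { carrier := {x | ∀ w, w ∈ Ab X k ↔ x * w * x⁻¹ ∈ Ab X k}
      one_mem' := fun w => by rw [one_mul, inv_one, mul_one]
      mul_mem' := fun {a b} ha hb w => by
        rw [hb w, ha (b * w * b⁻¹)]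
        have : a * (b * w * b⁻¹) * a⁻¹ = a * b * w * (a * b)⁻¹ := by group
        rw [this]
      inv_mem' := fun {a} ha w => by
        rw [ha (a⁻¹ * w * a⁻¹⁻¹)]
        have : a * (a⁻¹ * w * a⁻¹⁻¹) * a⁻¹ = w := by group
        rw [this] }
  have hle : Ab X 0 ≤ S := by
    refine Ab_le fun a ha ha0 x hx w => ⟨fun hw => h1 a ha ha0 x hx w hw, fun hw => ?_⟩
    have h2 := h1 a ha ha0 _ (inv_mem hx) _ hw
    have h3 : x⁻¹ * (x * w * x⁻¹) * x⁻¹⁻¹ = w := by group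
    rwa [h3] at h2
  exact (hle hu w).1 hw

/-- **The leading term lemma.** -/
theorem lead (hK : KF t X) (hD : Dir X) {r a : Fin 4 → ℤ} (hr : r ∈ rts) (hr0 : 0 < lv r) (ha : a ∈ rts)
    (ha0 : 0 < lv a) (hn : B r r = B a a) (hra : B r a < 0) {x u' y : G} (hx : x ∈ X r) (hx1 : x ≠ 1)
    (hu' : u' ∈ Ab X (lv r)) (hy : y ∈ X a) (hy1 : y ≠ 1) : x * u' * y ≠ y * (x * u') := by
  intro hcomm
  have hne := pos_ne_neg hr0 ha0
  have hc := roots.add r hr a ha hra hne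
  have hsum := lv_add r a
  let S : Subgroup G :=
    { carrier := {w | w ∈ Ab X 0 ∧ w * y * w⁻¹ * y⁻¹ ∈ Ab X (lv r + lv a)}
      one_mem' := ⟨one_mem _, by
        have : (1 : G) * y * 1⁻¹ * y⁻¹ = 1 := by group
        rw [this]; exact one_mem _⟩
      mul_mem' := by
        rintro v w ⟨hv, hv'⟩ ⟨hw, hw'⟩
        refine ⟨mul_mem hv hw, ?_⟩
        have h1 := mul_mem (norm_Ab hK (by omega) hv hw') hv'
        have h2 : v * (w * y * w⁻¹ * y⁻¹) * v⁻¹ * (v * y * v⁻¹ * y⁻¹) = v * w * y * (v * w)⁻¹ * y⁻¹ := by group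
        rwa [h2] at h1
      inv_mem' := by
        rintro v ⟨hv, hv'⟩
        refine ⟨inv_mem hv, ?_⟩
        have h1 := norm_Ab hK (by omega) (inv_mem hv) (inv_mem hv')
        have h2 : v⁻¹ * (v * y * v⁻¹ * y⁻¹)⁻¹ * v⁻¹⁻¹ = v⁻¹ * y * v⁻¹⁻¹ * y⁻¹ := by group
        rwa [h2] at h1 }
  have hle : Ab X (lv r) ≤ S := by
    refine Ab_le fun b hb hkb w hw => ⟨le_Ab hb (by omega) hw, ?_⟩
    exact Ab_mono (by omega) (comm_mem hK hb ha (by omega) ha0 hw hy)
  have h1 := (hle hu').2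
  have h2 := norm_Ab hK (by omega) (le_Ab hr hr0 hx) h1
  have h3 : x * y * x⁻¹ * y⁻¹ = (x * (u' * y * u'⁻¹ * y⁻¹) * x⁻¹)⁻¹ := by
    have h4 : x * (u' * y * u'⁻¹ * y⁻¹) * x⁻¹ * (x * y * x⁻¹ * y⁻¹) = 1 := by
      calc x * (u' * y * u'⁻¹ * y⁻¹) * x⁻¹ * (x * y * x⁻¹ * y⁻¹) = (x * u' * y) * (x * u')⁻¹ * y⁻¹ := by group
        _ = 1 := by rw [hcomm]; group
    exact eq_inv_of_mul_eq_one_right h4
  have h6 : x * y * x⁻¹ * y⁻¹ ∈ Ab X (lv (r + a)) := by
    rw [h3, hsum]; exact inv_mem h2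
  have h4 := hD (r + a) hc (by omega) _ (hK.X1 r hr a ha hn hra hne x hx y hy) h6
  have h5 : x * y = y * x := by
    calc x * y = (x * y * x⁻¹ * y⁻¹) * (y * x) := by group
      _ = y * x := by rw [h4, one_mul]
  rcases hK.X1nd r hr a ha hn hra hne x hx y hy h5 with h6 | h6
  · exact hx1 h6
  · exact hy1 h6

/-- Every nontrivial element has a leading term. -/
theorem exists_lead (hK : KF t X) : ∀ (n : ℕ) (k : ℤ), 0 ≤ k → 35 ≤ k + n → ∀ u ∈ Ab X k, u ≠ 1 →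
    ∃ r ∈ rts, k < lv r ∧ ∃ x ∈ X r, x ≠ 1 ∧ ∃ u' ∈ Ab X (lv r), u = x * u' := by
  intro n
  induction n with
  | zero =>
    intro k _ hk u hu hu1
    rw [Ab_top (by simpa using hk)] at hu
    exact absurd (Subgroup.mem_bot.1 hu) hu1
  | succ n ih =>
    intro k hk0 hk u hu hu1
    by_cases hex : ∃ r ∈ rts, lv r = k + 1
    · obtain ⟨r, hr, hrk⟩ := hex
      -- `Ab X k = X r * Ab X (k+1)`
      let S : Subgroup G :=
        { carrier := {u | ∃ x ∈ X r, ∃ w ∈ Ab X (k + 1), u = x * w}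
          one_mem' := ⟨1, one_mem _, 1, one_mem _, (mul_one 1).symm⟩
          mul_mem' := by
            rintro _ _ ⟨x, hx, w, hw, rfl⟩ ⟨x', hx', w', hw', rfl⟩
            refine ⟨x * x', mul_mem hx hx', (x'⁻¹ * w * x'⁻¹⁻¹) * w', mul_mem ?_ hw', by group⟩
            exact norm_Ab hK (by omega) (le_Ab hr (by omega) (inv_mem hx')) hw
          inv_mem' := by
            rintro _ ⟨x, hx, w, hw, rfl⟩
            exact ⟨x⁻¹, inv_mem hx, x * w⁻¹ * x⁻¹, norm_Ab hK (by omega) (le_Ab hr (by omega) hx) (inv_mem hw),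
              by group⟩ }
      have hS : Ab X k ≤ S := by
        refine Ab_le fun b hb hkb x hx => ?_
        rcases (show k + 1 ≤ lv b by omega).lt_or_eq with h1 | h1
        · exact ⟨1, one_mem _, x, le_Ab hb h1 hx, (one_mul x).symm⟩
        · have : r = b := lv_inj r hr b hb (by omega) (by omega)
          subst this
          exact ⟨x, hx, 1, one_mem _, (mul_one x).symm⟩
      obtain ⟨x, hx, w, hw, rfl⟩ := hS hu
      by_cases hx1 : x = 1
      · rw [hx1, one_mul] at hu1 ⊢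
        obtain ⟨r', h1, h2, h3⟩ := ih (k + 1) (by omega) (by push_cast at hk; omega) w hw hu1
        exact ⟨r', h1, by omega, h3⟩
      · exact ⟨r, hr, by omega, x, hx, hx1, w, by rw [hrk]; exact hw, rfl⟩
    · have h1 : Ab X k ≤ Ab X (k + 1) := by
        refine Ab_le fun b hb hkb => le_Ab hb ?_
        rcases (show k + 1 ≤ lv b by omega).lt_or_eq with h1 | h1
        · exact h1
        · exact absurd ⟨b, hb, h1.symm⟩ hex
      obtain ⟨r', h2, h3, h4⟩ := ih (k + 1) (by omega) (by push_cast at hk; omega) u (h1 hu) hu1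
      exact ⟨r', h2, by omega, h4⟩

/-- `X ρ` and `X σ` are central in `U`. -/
theorem central (hK : KF t X) {r : Fin 4 → ℤ} (hr : r = ρ ∨ r = σ) {z u : G} (hz : z ∈ X r) (hu : u ∈ Ab X 0) :
    z * u = u * z := by
  have hrm : r ∈ rts := by
    rcases hr with rfl | rfl
    · exact ρ_mem
    · exact σ_mem
  have hle : Ab X 0 ≤ Subgroup.centralizer ({z} : Set G) := by
    refine Ab_le fun a ha ha0 y hy => Subgroup.mem_centralizer_singleton_iff.2 ?_
    have h1 : 0 ≤ B r a := by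
      rcases hr with rfl | rfl
      · exact (dom a ha ha0).1
      · exact (dom a ha ha0).2
    exact (hK.X0 r hrm a ha h1 z hz y hy).symm
  exact (Subgroup.mem_centralizer_singleton_iff.1 (hle hu)).symm

/-- **The main result.** -/
theorem main (hK : KF t X) (hD : Dir X) {u : G} (hu : u ∈ Ab X 0) :
    (∃ z₁ ∈ X ρ, ∃ z₂ ∈ X σ, u = z₁ * z₂) ∨ ∃ a ∈ rts, 0 < lv a ∧ ∀ y ∈ X a, y ≠ 1 → u * y ≠ y * u := by
  -- elements above `σ`
  have key : ∀ u ∈ Ab X 0, u ≠ 1 → (∀ r ∈ rts, 0 < lv r → ∀ x ∈ X r, x ≠ 1 → ∀ u' ∈ Ab X (lv r), u = x * u' → r ≠ σ) →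
      u ∈ X ρ ∨ ∃ a ∈ rts, 0 < lv a ∧ ∀ y ∈ X a, y ≠ 1 → u * y ≠ y * u := by
    intro u hu hu1 hσ
    obtain ⟨r, hr, hr0, x, hx, hx1, u', hu', rfl⟩ := exists_lead hK 35 0 le_rfl (by norm_num) u hu hu1
    rcases up r hr hr0 with rfl | rfl | ⟨a, ha, ha0, hn, hra⟩
    · left
      rw [lv_ρ, Ab_top le_rfl] at hu'
      rw [Subgroup.mem_bot.1 hu', mul_one]
      exact hx
    · exact absurd rfl (hσ _ hr hr0 x hx hx1 u' hu' rfl)
    · exact Or.inr ⟨a, ha, ha0, fun y hy hy1 => lead hK hD hr hr0 ha ha0 hn hra hx hx1 hu' hy hy1⟩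
  by_cases hu1 : u = 1
  · exact Or.inl ⟨1, one_mem _, 1, one_mem _, by rw [hu1, mul_one]⟩
  obtain ⟨r, hr, hr0, x, hx, hx1, u', hu', rfl⟩ := exists_lead hK 35 0 le_rfl (by norm_num) u hu hu1
  rcases up r hr hr0 with rfl | rfl | ⟨a, ha, ha0, hn, hra⟩
  · left
    rw [lv_ρ, Ab_top le_rfl] at hu'
    exact ⟨x, hx, 1, one_mem _, by rw [Subgroup.mem_bot.1 hu']⟩
  · -- leading term in `X σ`
    by_cases hu'1 : u' = 1
    · exact Or.inl ⟨1, one_mem _, x, hx, by rw [hu'1, one_mul, mul_one]⟩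
    obtain ⟨r, hr', hr0', x', hx', hx1', u'', hu'', e⟩ := exists_lead hK 35 (lv σ) hr0.le (by omega) u' hu' hu'1
    rcases up r hr' (by omega) with rfl | rfl | ⟨a, ha, ha0, hn, hra⟩
    · left
      rw [lv_ρ, Ab_top le_rfl] at hu''
      refine ⟨x', hx', x, hx, ?_⟩
      rw [e, Subgroup.mem_bot.1 hu'', mul_one]
      exact (central hK (Or.inl rfl) hx' (le_Ab hr hr0 hx)).symm
    · omega
    · right
      refine ⟨a, ha, ha0, fun y hy hy1 hc => ?_⟩
      have h1 := central hK (Or.inr rfl) hx (le_Ab ha ha0 hy)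
      apply lead hK hD hr' (by omega) ha ha0 hn hra hx' hx1' hu'' hy hy1
      rw [← e]
      have h2 : x * (u' * y) = x * (y * u') := by
        calc x * (u' * y) = x * u' * y := by group
          _ = y * (x * u') := hc
          _ = (y * x) * u' := by group
          _ = (x * y) * u' := by rw [h1]
          _ = x * (y * u') := by group
      exact mul_left_cancel h2
  · exact Or.inr ⟨a, ha, ha0, fun y hy hy1 => lead hK hD hr hr0 ha ha0 hn hra hx hx1 hu' hy hy1⟩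

/-- **(k3)** Noncentral elements have many conjugates. -/
theorem many [Finite G] (hK : KF t X) (hD : Dir X) {q : ℕ} (hq : ∀ a ∈ rts, q ≤ Nat.card (X a)) {u : G}
    (hu : u ∈ Ab X 0) (hn : ∃ c ∈ Ab X 0, c * u ≠ u * c) : q ≤ Set.ncard {x | ∃ c ∈ Ab X 0, x = c * u * c⁻¹} := by
  rcases main hK hD hu with ⟨z₁, hz₁, z₂, hz₂, rfl⟩ | ⟨a, ha, ha0, h⟩
  · exfalso
    obtain ⟨c, hc, hcu⟩ := hn
    apply hcu
    have h1 := central hK (Or.inl rfl) hz₁ hc
    have h2 := central hK (Or.inr rfl) hz₂ hc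
    calc c * (z₁ * z₂) = (c * z₁) * z₂ := by group
      _ = (z₁ * c) * z₂ := by rw [h1]
      _ = z₁ * (c * z₂) := by group
      _ = z₁ * (z₂ * c) := by rw [h2]
      _ = z₁ * z₂ * c := by group
  refine (hq a ha).trans ?_
  have h1 : Nat.card (X a) = Set.ncard ((X a : Set G)) := (Nat.card_coe_set_eq _)
  rw [h1]
  refine Set.ncard_le_ncard_of_injOn (fun y => y * u * y⁻¹) ?_ ?_ (Set.toFinite _)
  · intro y hy
    exact ⟨y, le_Ab ha ha0 hy, rfl⟩
  · intro y hy y' hy' hyy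
    have hyy' : y * u * y⁻¹ = y' * u * y'⁻¹ := hyy
    by_contra hne
    apply h (y'⁻¹ * y) (mul_mem (inv_mem hy') hy)
    · intro h2
      apply hne
      exact (inv_mul_eq_one.1 h2).symm
    · calc u * (y'⁻¹ * y) = y'⁻¹ * (y' * u * y'⁻¹) * y := by group
        _ = y'⁻¹ * (y * u * y⁻¹) * y := by rw [hyy']
        _ = y'⁻¹ * y * u := by group

/-! ### The centraliser of the commutators -/

/-- `u` commutes with all commutators of positive root elements for roots of the same length -/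
def CC (X : (Fin 4 → ℤ) → Subgroup G) (u : G) : Prop :=
  ∀ a ∈ rts, ∀ b ∈ rts, 0 < lv a → 0 < lv b → B a a = B b b → ∀ x ∈ X a, ∀ y ∈ X b,
    u * (x * y * x⁻¹ * y⁻¹) = x * y * x⁻¹ * y⁻¹ * u

theorem CC.mul {u v : G} (hu : CC X u) (hv : CC X v) : CC X (u * v) := by
  intro a ha b hb ha0 hb0 hab x hx y hy
  rw [mul_assoc, hv a ha b hb ha0 hb0 hab x hx y hy, ← mul_assoc, hu a ha b hb ha0 hb0 hab x hx y hy, mul_assoc]

theorem CC.inv {u : G} (hu : CC X u) : CC X u⁻¹ := by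
  intro a ha b hb ha0 hb0 hab x hx y hy
  have h := hu a ha b hb ha0 hb0 hab x hx y hy
  have h1 : Commute u (x * y * x⁻¹ * y⁻¹) := h
  exact h1.inv_left.eq

/-- the four root groups satisfy `CC` -/
theorem CC.of_mem (hK : KF t X) {r : Fin 4 → ℤ} (hr : r = ρ ∨ r = σ ∨ r = ρ' ∨ r = σ') {z : G} (hz : z ∈ X r) :
    CC X z := by
  intro a ha b hb ha0 hb0 hab x hx y hy
  have hne := pos_ne_neg ha0 hb0
  by_cases h0 : 0 ≤ B a b
  · rw [hK.X0 a ha b hb h0 x hx y hy]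
    have : y * x * x⁻¹ * y⁻¹ = 1 := by group
    rw [this, mul_one, one_mul]
  · have h0' : B a b < 0 := not_le.1 h0
    have h1 := hK.X1 a ha b hb hab h0' hne x hx y hy
    obtain ⟨l1, l2, l3, l4⟩ := low2 a ha b hb ha0 hb0 hab h0'
    have hm := roots.add a ha b hb h0' hne
    rcases hr with rfl | rfl | rfl | rfl
    · exact hK.X0 _ ρ_mem _ hm l1 z hz _ h1
    · exact hK.X0 _ σ_mem _ hm l2 z hz _ h1
    · exact hK.X0 _ ρ'_mem _ hm l3 z hz _ h1
    · exact hK.X0 _ σ'_mem _ hm l4 z hz _ h1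

theorem cent_of_comm (hK : KF t X) (hD : Dir X) {u : G} (hu : u ∈ Ab X 0) (hc : CC X u) :
    ∃ z₁ ∈ X ρ, ∃ z₂ ∈ X σ, ∃ p ∈ X ρ', ∃ q ∈ X σ', u = z₁ * z₂ * p * q := by
  -- the four root groups commute
  have c1 : ∀ r s : Fin 4 → ℤ, (r = ρ ∨ r = σ ∨ r = ρ' ∨ r = σ') → (s = ρ ∨ s = σ ∨ s = ρ' ∨ s = σ') →
      ∀ x ∈ X r, ∀ y ∈ X s, x * y = y * x := by
    have hB : ∀ r ∈ [ρ, σ, ρ', σ'], ∀ s ∈ [ρ, σ, ρ', σ'], r ∈ rts ∧ s ∈ rts ∧ 0 ≤ B r s := by decide +kernel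
    intro r s hr hs x hx y hy
    obtain ⟨h1, h2, h3⟩ := hB r (by simpa using hr) s (by simpa using hs)
    exact hK.X0 r h1 s h2 h3 x hx y hy
  have aux : ∀ (n : ℕ) (k : ℤ), 0 ≤ k → 35 ≤ k + n → ∀ u ∈ Ab X k, CC X u →
      ∃ z₁ ∈ X ρ, ∃ z₂ ∈ X σ, ∃ p ∈ X ρ', ∃ q ∈ X σ', u = z₁ * z₂ * p * q := by
    intro n
    induction n with
    | zero =>
      intro k _ hk u hu _
      rw [Ab_top (by simpa using hk)] at hu
      exact ⟨1, one_mem _, 1, one_mem _, 1, one_mem _, 1, one_mem _, by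
        rw [Subgroup.mem_bot.1 hu]; group⟩
    | succ n ih =>
      intro k hk0 hk u hu hcu
      by_cases hu1 : u = 1
      · exact ⟨1, one_mem _, 1, one_mem _, 1, one_mem _, 1, one_mem _, by rw [hu1]; group⟩
      obtain ⟨r, hr, hkr, x, hx, hx1, u', hu', rfl⟩ := exists_lead hK (n + 1) k hk0 hk u hu hu1
      have hr0 : 0 < lv r := by omega
      have hstep : (r = ρ ∨ r = σ ∨ r = ρ' ∨ r = σ') := by
        rcases up2 r hr hr0 with h | h | h | h | ⟨a, ha, b, hb, ha0, hb0, hab, hab0, hra, hn, hn2⟩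
        · exact Or.inl h
        · exact Or.inr (Or.inl h)
        · exact Or.inr (Or.inr (Or.inl h))
        · exact Or.inr (Or.inr (Or.inr h))
        · exfalso
          have hne := pos_ne_neg ha0 hb0
          have hm := roots.add a ha b hb hab0 hne
          obtain ⟨y, hy, hy1⟩ := hK.Xne b hb
          obtain ⟨w, hw, hw1⟩ := hK.Xne (a + b) hm
          obtain ⟨x', hx', e⟩ := hK.X1surj a ha b hb hab hab0 hne y hy hy1 w hw
          have h1 := hcu a ha b hb ha0 hb0 hab x' hx' y hy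
          rw [e] at h1
          have hab' := lv_add a b
          exact lead hK hD hr hr0 hm (by omega) hn2 hn hx hx1 hu' hw hw1 h1
      have hcx : CC X x := CC.of_mem hK hstep hx
      have hcu' : CC X u' := by
        have h1 := hcx.inv.mul hcu
        rwa [inv_mul_cancel_left] at h1
      obtain ⟨z₁, hz₁, z₂, hz₂, p, hp, q, hq, e⟩ := ih (k + 1) (by omega) (by push_cast at hk; omega) u'
        (Ab_mono (by omega) hu') hcu'
      rcases hstep with rfl | rfl | rfl | rfl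
      · exact ⟨x * z₁, mul_mem hx hz₁, z₂, hz₂, p, hp, q, hq, by rw [e]; group⟩
      · refine ⟨z₁, hz₁, x * z₂, mul_mem hx hz₂, p, hp, q, hq, ?_⟩
        have h1 := c1 σ ρ (by simp) (by simp) x hx z₁ hz₁
        rw [e]
        calc x * (z₁ * z₂ * p * q) = (x * z₁) * z₂ * p * q := by group
          _ = (z₁ * x) * z₂ * p * q := by rw [h1]
          _ = z₁ * (x * z₂) * p * q := by group
      · refine ⟨z₁, hz₁, z₂, hz₂, x * p, mul_mem hx hp, q, hq, ?_⟩
        have h1 := c1 ρ' ρ (by simp) (by simp) x hx z₁ hz₁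
        have h2 := c1 ρ' σ (by simp) (by simp) x hx z₂ hz₂
        rw [e]
        calc x * (z₁ * z₂ * p * q) = (x * z₁) * z₂ * p * q := by group
          _ = z₁ * (x * z₂) * p * q := by rw [h1]; group
          _ = z₁ * z₂ * (x * p) * q := by rw [h2]; group
      · refine ⟨z₁, hz₁, z₂, hz₂, p, hp, x * q, mul_mem hx hq, ?_⟩
        have h1 := c1 σ' ρ (by simp) (by simp) x hx z₁ hz₁
        have h2 := c1 σ' σ (by simp) (by simp) x hx z₂ hz₂
        have h3 := c1 σ' ρ' (by simp) (by simp) x hx p hp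
        rw [e]
        calc x * (z₁ * z₂ * p * q) = (x * z₁) * z₂ * p * q := by group
          _ = z₁ * (x * z₂) * p * q := by rw [h1]; group
          _ = z₁ * z₂ * (x * p) * q := by rw [h2]; group
          _ = z₁ * z₂ * p * (x * q) := by rw [h3]; group
  exact aux 35 0 le_rfl (by norm_num) u hu hc

/-- An outer element of field type or of graph type. -/
def Outer (X : (Fin 4 → ℤ) → Subgroup G) (y : G) : Prop :=
  ((∃ x ∈ X α3, y * x * y⁻¹ ∈ X α3 ∧ y * x * y⁻¹ ≠ x) ∧ ∃ x ∈ X α0, y * x * y⁻¹ ∈ X α0 ∧ y * x * y⁻¹ ≠ x) ∨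
    ∃ x ∈ X α3, x ≠ 1 ∧ y * x * y⁻¹ ∈ X α0

/-- **(k1)** -/
theorem k1 (hK : KF t X) (hD : Dir X) {T : Subgroup G} (hUT : Ab X 0 ≤ T) (hTt : ∀ d ∈ T, d * t = t * d)
    (hout : ∀ c ∈ T, (∀ x ∈ X ρ, c * x = x * c) → c ∈ Ab X 0 ∨ t * c ∈ Ab X 0) {y : G} (hyT : y ∈ T)
    (hy : Outer X y) {c : G} (hc : c ∈ T) (hcc : ∀ a ∈ T, ∀ b ∈ T, c * (a * b * a⁻¹ * b⁻¹) = a * b * a⁻¹ * b⁻¹ * c) :
    c ∈ X ρ ⊔ X σ ∨ t * c ∈ X ρ ⊔ X σ := by
  -- elements of `U`
  have key : ∀ u ∈ Ab X 0, (∀ a ∈ T, ∀ b ∈ T, u * (a * b * a⁻¹ * b⁻¹) = a * b * a⁻¹ * b⁻¹ * u) → u ∈ X ρ ⊔ X σ := by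
    intro u hu hcu
    have hCC : CC X u := fun a ha b hb ha0 hb0 _ x hx y hy =>
      hcu x (hUT (le_Ab ha ha0 hx)) y (hUT (le_Ab hb hb0 hy))
    obtain ⟨z₁, hz₁, z₂, hz₂, p, hp, q, hq, rfl⟩ := cent_of_comm hK hD hu hCC
    have b1 : B ρ' α0 = 0 ∧ B σ' α3 = 0 ∧ B ρ' α3 = -2 ∧ B σ' α0 = -1 ∧ B ρ' ρ' = B α3 α3 ∧ B σ' σ' = B α0 α0 ∧
      ρ' + α3 = ρ ∧ σ' + α0 = σ ∧ ρ' ≠ -α3 ∧ σ' ≠ -α0 ∧ 0 ≤ B ρ' σ' := by decide +kernel
    obtain ⟨b1, b2, b3, b4, b5, b6, b7, b8, b9, b10, b11⟩ := b1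
    have pc0 : ∀ x ∈ X α0, p * x = x * p := fun x hx => hK.X0 _ ρ'_mem _ α0_mem (by omega) p hp x hx
    have qc3 : ∀ x ∈ X α3, q * x = x * q := fun x hx => hK.X0 _ σ'_mem _ α3_mem (by omega) q hq x hx
    have hzc : ∀ w ∈ Ab X 0, z₁ * z₂ * w = w * (z₁ * z₂) := by
      intro w hw
      have e1 := central hK (Or.inl rfl) hz₁ hw
      have e2 := central hK (Or.inr rfl) hz₂ hw
      calc z₁ * z₂ * w = z₁ * (z₂ * w) := by group
        _ = z₁ * (w * z₂) := by rw [e2]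
        _ = (z₁ * w) * z₂ := by group
        _ = (w * z₁) * z₂ := by rw [e1]
        _ = w * (z₁ * z₂) := by group
    -- `p q` commutes with `m ∈ [T,T] ∩ U`
    have hpq : ∀ a ∈ T, ∀ b ∈ T, a * b * a⁻¹ * b⁻¹ ∈ Ab X 0 →
        p * q * (a * b * a⁻¹ * b⁻¹) = a * b * a⁻¹ * b⁻¹ * (p * q) := by
      intro a ha b hb hm
      have e1 := hcu a ha b hb
      have e2 := hzc _ hm
      have e3 : z₁ * z₂ * (p * q * (a * b * a⁻¹ * b⁻¹)) = z₁ * z₂ * (a * b * a⁻¹ * b⁻¹ * (p * q)) := by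
        calc z₁ * z₂ * (p * q * (a * b * a⁻¹ * b⁻¹)) = z₁ * z₂ * p * q * (a * b * a⁻¹ * b⁻¹) := by group
          _ = a * b * a⁻¹ * b⁻¹ * (z₁ * z₂ * p * q) := e1
          _ = (a * b * a⁻¹ * b⁻¹ * (z₁ * z₂)) * (p * q) := by group
          _ = (z₁ * z₂ * (a * b * a⁻¹ * b⁻¹)) * (p * q) := by rw [e2]
          _ = z₁ * z₂ * (a * b * a⁻¹ * b⁻¹ * (p * q)) := by group
      exact mul_left_cancel e3
    have hp1 : p = 1 ∧ q = 1 := by
      rcases hy with ⟨⟨x, hx, hx', hne⟩, v, hv, hv', hnv⟩ | ⟨x, hx, hx1, hx'⟩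
      · constructor
        · have hm : y * x * y⁻¹ * x⁻¹ ∈ X α3 := mul_mem hx' (inv_mem hx)
          have h1 := hpq y hyT x (hUT (le_Ab α3_mem α3_pos hx)) (le_Ab α3_mem α3_pos hm)
          have h2 : p * (y * x * y⁻¹ * x⁻¹) = y * x * y⁻¹ * x⁻¹ * p := by
            have h3 := qc3 _ hm
            have h4 : p * (y * x * y⁻¹ * x⁻¹) * q = y * x * y⁻¹ * x⁻¹ * p * q := by
              calc p * (y * x * y⁻¹ * x⁻¹) * q = p * ((y * x * y⁻¹ * x⁻¹) * q) := by group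
                _ = p * (q * (y * x * y⁻¹ * x⁻¹)) := by rw [h3]
                _ = p * q * (y * x * y⁻¹ * x⁻¹) := by group
                _ = y * x * y⁻¹ * x⁻¹ * (p * q) := h1
                _ = y * x * y⁻¹ * x⁻¹ * p * q := by group
            exact mul_right_cancel h4
          rcases hK.X1nd _ ρ'_mem _ α3_mem b5 (by omega) b9 p hp _ hm h2 with h3 | h3
          · exact h3
          · exact absurd (mul_inv_eq_one.1 h3) hne
        · have hm : y * v * y⁻¹ * v⁻¹ ∈ X α0 := mul_mem hv' (inv_mem hv)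
          have h1 := hpq y hyT v (hUT (le_Ab α0_mem α0_pos hv)) (le_Ab α0_mem α0_pos hm)
          have h2 : q * (y * v * y⁻¹ * v⁻¹) = y * v * y⁻¹ * v⁻¹ * q := by
            have h3 := pc0 _ hm
            have h4 : p * (q * (y * v * y⁻¹ * v⁻¹)) = p * (y * v * y⁻¹ * v⁻¹ * q) := by
              calc p * (q * (y * v * y⁻¹ * v⁻¹)) = p * q * (y * v * y⁻¹ * v⁻¹) := by group
                _ = y * v * y⁻¹ * v⁻¹ * (p * q) := h1
                _ = (y * v * y⁻¹ * v⁻¹ * p) * q := by group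
                _ = (p * (y * v * y⁻¹ * v⁻¹)) * q := by rw [h3]
                _ = p * (y * v * y⁻¹ * v⁻¹ * q) := by group
            exact mul_left_cancel h4
          rcases hK.X1nd _ σ'_mem _ α0_mem b6 (by omega) b10 q hq _ hm h2 with h3 | h3
          · exact h3
          · exact absurd (mul_inv_eq_one.1 h3) hnv
      · -- graph type
        obtain ⟨x', rfl'⟩ : ∃ x', x' = y * x * y⁻¹ := ⟨_, rfl⟩
        rw [← rfl'] at hx'
        have hx'1 : x' ≠ 1 := by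
          intro h
          apply hx1
          rw [rfl'] at h
          calc x = y⁻¹ * (y * x * y⁻¹) * y := by group
            _ = 1 := by rw [h]; group
        have hxi := inv_mem hx
        have h1 := hpq y hyT x (hUT (le_Ab α3_mem α3_pos hx)) (by
          rw [← rfl']
          exact mul_mem (le_Ab α0_mem α0_pos hx') (le_Ab α3_mem α3_pos hxi))
        rw [← rfl'] at h1
        -- `A = [q, x'] ∈ X σ`, `C = [p, x⁻¹] ∈ X ρ`
        have hA := hK.X1 _ σ'_mem _ α0_mem b6 (by omega) b10 q hq x' hx'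
        have hC := hK.X1 _ ρ'_mem _ α3_mem b5 (by omega) b9 p hp _ hxi
        rw [b8] at hA
        rw [b7] at hC
        have g1 := pc0 x' hx'
        have g2 := qc3 _ hxi
        obtain ⟨A, hAe⟩ : ∃ A, A = q * x' * q⁻¹ * x'⁻¹ := ⟨_, rfl⟩
        obtain ⟨C, hCe⟩ : ∃ C, C = p * x⁻¹ * p⁻¹ * x⁻¹⁻¹ := ⟨_, rfl⟩
        rw [← hAe] at hA
        rw [← hCe] at hC
        have hqx : q * x' = A * x' * q := by rw [hAe]; group
        have hpx : p * x⁻¹ = C * x⁻¹ * p := by rw [hCe]; group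
        have hAU : A ∈ Ab X 0 := le_Ab σ_mem σ_pos hA
        have hCU : C ∈ Ab X 0 := le_Ab ρ_mem ρ_pos hC
        have cA : ∀ w ∈ Ab X 0, A * w = w * A := fun w hw => central hK (Or.inr rfl) hA hw
        have cC : ∀ w ∈ Ab X 0, C * w = w * C := fun w hw => central hK (Or.inl rfl) hC hw
        have hpU : p ∈ Ab X 0 := le_Ab ρ'_mem ρ'_pos hp
        have hx'U : x' ∈ Ab X 0 := le_Ab α0_mem α0_pos hx'
        have h2 : p * q * (x' * x⁻¹) = A * C * (x' * x⁻¹ * (p * q)) := by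
          calc p * q * (x' * x⁻¹) = p * (q * x') * x⁻¹ := by group
            _ = p * (A * x' * q) * x⁻¹ := by rw [hqx]
            _ = p * A * x' * (q * x⁻¹) := by group
            _ = p * A * x' * (x⁻¹ * q) := by rw [g2]
            _ = (p * A) * (x' * x⁻¹ * q) := by group
            _ = (A * p) * (x' * x⁻¹ * q) := by rw [cA p hpU]
            _ = A * (p * x') * (x⁻¹ * q) := by group
            _ = A * (x' * p) * (x⁻¹ * q) := by rw [g1]
            _ = A * x' * (p * x⁻¹) * q := by group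
            _ = A * x' * (C * x⁻¹ * p) * q := by rw [hpx]
            _ = A * (x' * C) * (x⁻¹ * p * q) := by group
            _ = A * (C * x') * (x⁻¹ * p * q) := by rw [cC x' hx'U]
            _ = A * C * (x' * x⁻¹ * (p * q)) := by group
        have h3 : x' * x⁻¹ * (p * q) = A * C * (x' * x⁻¹ * (p * q)) := by
          rw [← h2]
          exact h1.symm
        have hAC : A * C = 1 := by
          have h4 : (1 : G) * (x' * x⁻¹ * (p * q)) = A * C * (x' * x⁻¹ * (p * q)) := by rw [one_mul]; exact h3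
          exact (mul_right_cancel h4).symm
        have hne2 : ρ ≠ σ := by decide +kernel
        have hA1 : A = 1 := by
          apply hK.ind ρ ρ_mem σ σ_mem hne2 A _ hA
          have h4 : A = C⁻¹ := eq_inv_of_mul_eq_one_left hAC
          rw [h4]; exact inv_mem hC
        have hC1 : C = 1 := by rw [hA1, one_mul] at hAC; exact hAC
        constructor
        · rw [hC1, one_mul] at hpx
          rcases hK.X1nd _ ρ'_mem _ α3_mem b5 (by omega) b9 p hp _ hxi hpx with h3 | h3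
          · exact h3
          · exact absurd (inv_eq_one.1 h3) hx1
        · rw [hA1, one_mul] at hqx
          rcases hK.X1nd _ σ'_mem _ α0_mem b6 (by omega) b10 q hq _ hx' hqx with h3 | h3
          · exact h3
          · exact absurd h3 hx'1
    rw [hp1.1, hp1.2, mul_one, mul_one]
    exact mul_mem (Subgroup.mem_sup_left hz₁) (Subgroup.mem_sup_right hz₂)
  -- `c` commutes with `X ρ`
  have h1 : ∀ x ∈ X ρ, c * x = x * c := by
    intro x hx
    have b1 : B α3 α3 = B ρ' ρ' ∧ B α3 ρ' < 0 ∧ α3 ≠ -ρ' ∧ α3 + ρ' = ρ := by decide +kernel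
    obtain ⟨b1, b2, b3, b4⟩ := b1
    obtain ⟨w, hw, hw1⟩ := hK.Xne ρ' ρ'_mem
    obtain ⟨v, hv, e⟩ := hK.X1surj α3 α3_mem ρ' ρ'_mem b1 b2 b3 w hw hw1 x (by rw [b4]; exact hx)
    rw [← e]
    exact hcc v (hUT (le_Ab α3_mem α3_pos hv)) w (hUT (le_Ab ρ'_mem ρ'_pos hw))
  rcases hout c hc h1 with h2 | h2
  · exact Or.inl (key c h2 hcc)
  · right
    apply key _ h2
    intro a ha b hb
    have h3 := hTt _ (mul_mem (mul_mem (mul_mem ha hb) (inv_mem ha)) (inv_mem hb))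
    calc t * c * (a * b * a⁻¹ * b⁻¹) = t * (c * (a * b * a⁻¹ * b⁻¹)) := by group
      _ = t * (a * b * a⁻¹ * b⁻¹ * c) := by rw [hcc a ha b hb]
      _ = (t * (a * b * a⁻¹ * b⁻¹)) * c := by group
      _ = (a * b * a⁻¹ * b⁻¹ * t) * c := by rw [h3]
      _ = a * b * a⁻¹ * b⁻¹ * (t * c) := by group

/-- `U` is generated by involutions. -/
theorem gen (hK : KF t X) (P : Subgroup G) (h : ∀ u ∈ Ab X 0, u * u = 1 → u ∈ P) : Ab X 0 ≤ P :=
  Ab_le fun a ha ha0 x hx => h x (le_Ab ha ha0 hx) (hK.Xsq a ha x hx)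

end Cfsg.Agent.OddHalf.D7F4.Lead
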