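import Mathlib
import Cfsg.Agent.StdSpSix.TR

/-!
# Transfer at an involution: only the extremal conjugates count (S1765, node D7)

`exists_hom_of_extremal` : `l : H → {± 1}`, `l t = -1`, `T ≤ C(t)` a 2-group, `|C_G(t) : C_H(t)|` odd; if every conjugate
`y = g⁻¹ t g ∈ H` with `l y = -1` **and `g⁻¹ T g ≤ H`** is `H`-conjugate to `t`, then `m t = -1` for some
`m : G →* {± 1}`.
-/

set_option autoImplicit false

namespace Cfsg.Agent.OddHalf.D7F4.Extremal

open Subgroup Cfsg.Agent.StdSpSix.TR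

variable {G : Type*} [Group G] [Finite G] {H : Subgroup G}

theorem exists_hom_of_extremal (l : H →* ℤˣ) {t : G} (ht : t * t = 1) (htH : t ∈ H) (hlt : l ⟨t, htH⟩ = -1)
    (T : Subgroup G) (hT : IsPGroup 2 T) (hTt : ∀ x ∈ T, Commute x t)
    (hcl : ∀ g : G, ∀ h : g⁻¹ * t * g ∈ H, l ⟨g⁻¹ * t * g, h⟩ = -1 → (∀ x ∈ T, g⁻¹ * x * g ∈ H) →
      ∃ k ∈ H, g⁻¹ * t * g = k * t * k⁻¹)
    (hodd : Odd (H.relIndex (centralizer ({t} : Set G)))) : ∃ m : G →* ℤˣ, m t = -1 := by
  classical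
  set C : Subgroup G := centralizer ({t} : Set G) with hC
  have hmem : ∀ g, g ∈ C ↔ g * t = t * g := fun g => mem_centralizer_singleton_iff
  have hTC : ∀ x ∈ T, x ∈ C := fun x hx => (hmem x).2 (hTt x hx).eq
  apply exists_hom_of_fixed l ht T hT hTt
  -- the cosets `c H`, `c ∈ C`
  let O : Type _ := {q : G ⧸ H // ∃ c ∈ C, (c : G ⧸ H) = q}
  have hO : Nat.card O = H.relIndex C := by
    rw [relIndex, index]
    symm
    refine Nat.card_congr (Equiv.ofBijective (fun q : C ⧸ H.subgroupOf C =>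
      (⟨Quotient.liftOn' q (fun c => ((c : G) : G ⧸ H)) ?_, ?_⟩ : O)) ⟨?_, ?_⟩)
    · intro a b hab
      rw [QuotientGroup.leftRel_apply, mem_subgroupOf] at hab
      rw [QuotientGroup.eq]
      exact hab
    · obtain ⟨c, rfl⟩ := QuotientGroup.mk_surjective q
      exact ⟨c, c.2, rfl⟩
    · intro q1 q2 h
      obtain ⟨c1, rfl⟩ := QuotientGroup.mk_surjective q1
      obtain ⟨c2, rfl⟩ := QuotientGroup.mk_surjective q2
      have h1 : ((c1 : G) : G ⧸ H) = ((c2 : G) : G ⧸ H) := congrArg Subtype.val h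
      rw [QuotientGroup.eq] at h1
      rw [QuotientGroup.eq, mem_subgroupOf]
      exact h1
    · rintro ⟨q, c, hc, rfl⟩
      exact ⟨((⟨c, hc⟩ : C) : C ⧸ H.subgroupOf C), rfl⟩
  letI act : MulAction T O :=
    { smul := fun x q => ⟨(x : G) • (q : G ⧸ H), by
        obtain ⟨c, hc, hq⟩ := q.2
        refine ⟨x * c, mul_mem (hTC x x.2) hc, ?_⟩
        rw [← hq, MulAction.Quotient.smul_mk, smul_eq_mul]⟩
      one_smul := fun q => Subtype.ext (one_smul G (q : G ⧸ H))
      mul_smul := fun x y q => Subtype.ext (mul_smul (x : G) (y : G) (q : G ⧸ H)) }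
  have : Fact (Nat.Prime 2) := ⟨Nat.prime_two⟩
  have h1 := hT.card_modEq_card_fixedPoints O
  have h2 : Nat.card (MulAction.fixedPoints T O) =
      Nat.card {q : G ⧸ H // Bad l t q ∧ ∀ x ∈ T, x • q = q} := by
    refine Nat.card_congr ⟨fun q => ⟨q.1.1, ?_, fun x hx => ?_⟩, fun q => ⟨⟨q.1, ?_⟩, fun x => ?_⟩,
      fun q => rfl, fun q => rfl⟩
    · obtain ⟨c, hc, hq⟩ := q.1.2
      have h3 : c⁻¹ * t * c = t := by
        have := (hmem _).1 hc
        rw [mul_assoc, ← this, inv_mul_cancel_left]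
      refine ⟨c, hq, by rw [h3]; exact htH, ?_⟩
      rw [← hlt]
      congr 1
      exact Subtype.ext h3
    · exact congrArg Subtype.val (q.2 ⟨x, hx⟩)
    · obtain ⟨q, ⟨g, rfl, h, hg⟩, hx⟩ := q
      obtain ⟨k, hk, hgk⟩ := hcl g h hg (fun x hxT => by
        have h3 := hx x hxT
        rw [MulAction.Quotient.smul_mk, smul_eq_mul, eq_comm, QuotientGroup.eq, ← mul_assoc] at h3
        exact h3)
      have hc : g * k ∈ C := by
        rw [hmem]
        have : t = g * (k * t * k⁻¹) * g⁻¹ := by rw [← hgk]; group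
        calc g * k * t = g * (k * t * k⁻¹) * g⁻¹ * (g * k) := by group
          _ = t * (g * k) := by rw [← this]
      refine ⟨g * k, hc, ?_⟩
      change ((g * k : G) : G ⧸ H) = (g : G ⧸ H)
      rw [eq_comm, QuotientGroup.eq, inv_mul_cancel_left]
      exact hk
    · exact Subtype.ext (q.2.2 x x.2)
  rw [h2, hO] at h1
  rw [Nat.odd_iff] at hodd ⊢
  unfold Nat.ModEq at h1
  rw [← h1, hodd]

end Cfsg.Agent.OddHalf.D7F4.Extremal
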