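import Cfsg.Agent.OddHalf.D7F4.Levels
import Cfsg.Agent.OddHalf.D7F4.Extremal

/-!
# END of the growth argument when one root length is not moved (S1765, node D7)

`Lvl.exists_hom`. See `Levels.lean`.
-/

set_option autoImplicit false
set_option linter.unusedSectionVars false

namespace Cfsg.Agent.OddHalf.D7F4.Levels

variable {G : Type*} [Group G]

namespace Lvl

variable {t : G} {V X L : ℕ → Subgroup G} {M : ℕ}

/-- The elements of `N V k` commuting with `y`. -/
def Ck (V : ℕ → Subgroup G) (y : G) (k : ℕ) : Subgroup G := N V k ⊓ Subgroup.centralizer {y}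

theorem mem_Ck {V : ℕ → Subgroup G} {y : G} {k : ℕ} {g : G} : g ∈ Ck V y k ↔ g ∈ N V k ∧ g * y = y * g := by
  rw [Ck, Subgroup.mem_inf, Subgroup.mem_centralizer_singleton_iff]

theorem brk' (h : Lvl t V X L M) {k : ℕ} {l g : G} (hl : l ∈ N V 1) (hg : g ∈ N V k)
    (hc : g * (t * l) = (t * l) * g) : g⁻¹ * (t * g * t) ∈ N V (k + 1) := by
  have h1 : t * g * t = l * g * l⁻¹ := by
    have h2 : t * g * t = t * (g * (t * l)) * l⁻¹ := by group
    rw [h2, hc]
    have h3 : t * (t * l * g) * l⁻¹ = (t * t) * l * g * l⁻¹ := by group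
    rw [h3, h.tt, one_mul]
  have h2 := h.filt.comm (inv_mem hg) hl
  have h3 : g⁻¹ * l * g⁻¹⁻¹ * l⁻¹ = g⁻¹ * (t * g * t) := by rw [h1]; group
  rwa [h3] at h2

theorem fix_of_brk (h : Lvl t V X L M) {k : ℕ} {v : G} (hv : v ∈ V k) (hb : v⁻¹ * (t * v * t) ∈ N V (k + 1)) :
    v ∈ X k := by
  have h1 : v⁻¹ * (t * v * t) = 1 := h.eq_one (h.X_le k (h.brk k v hv)) hb
  exact h.cent k v hv (inv_mul_eq_one.1 h1).symm

/-- the leading factor of an element of `C(t l)` is fixed by `t` -/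
theorem lead (h : Lvl t V X L M) {k : ℕ} {v u : G} (hv : v ∈ V k) (hu : u ∈ N V (k + 1))
    (hb : (v * u)⁻¹ * (t * (v * u) * t) ∈ N V (k + 1)) : v ∈ X k := by
  apply h.fix_of_brk hv
  have h1 : v⁻¹ * (t * v * t) = u * ((v * u)⁻¹ * (t * (v * u) * t)) * (t * u * t)⁻¹ := by
    rw [h.conj_mul]; group
  rw [h1]
  exact mul_mem (mul_mem hu hb) (inv_mem (h.conj_N hu))

/-- `x` lifts to an element of `C(y)` -/
def Lift (V : ℕ → Subgroup G) (y : G) (k : ℕ) (x : G) : Prop := ∃ g ∈ Ck V y k, x⁻¹ * g ∈ N V (k + 1)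

theorem uniq (h : Lvl t V X L M) {k : ℕ} {v v' g : G} (hv : v ∈ V k) (hv' : v' ∈ V k)
    (h1 : v⁻¹ * g ∈ N V (k + 1)) (h2 : v'⁻¹ * g ∈ N V (k + 1)) : v = v' := by
  have h3 : v⁻¹ * v' = 1 := h.eq_one (mul_mem (inv_mem hv) hv') (by
    have := mul_mem h1 (inv_mem h2)
    have h4 : v⁻¹ * g * (v'⁻¹ * g)⁻¹ = v⁻¹ * v' := by group
    rwa [h4] at this)
  exact inv_mul_eq_one.1 h3

theorem exists_lead (h : Lvl t V X L M) {k : ℕ} {l g : G} (hl : l ∈ N V 1) (hg : g ∈ Ck V (t * l) k) :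
    ∃ x ∈ X k, x⁻¹ * g ∈ N V (k + 1) := by
  obtain ⟨hg1, hg2⟩ := mem_Ck.1 hg
  obtain ⟨v, hv, u, hu, rfl⟩ := h.filt.split hg1
  exact ⟨v, h.lead hv hu (h.brk' hl hg1 hg2), by rwa [inv_mul_cancel_left]⟩

variable [Finite G]

theorem card_Ck_le (h : Lvl t V X L M) {k : ℕ} {l : G} (hl : l ∈ N V 1) :
    Nat.card (Ck V (t * l) k) ≤ Nat.card {x : X k // Lift V (t * l) k x} * Nat.card (Ck V (t * l) (k + 1)) := by
  classical
  rw [← Nat.card_prod]
  have hx : ∀ g : Ck V (t * l) k, ∃ x : {x : X k // Lift V (t * l) k x}, ((x : X k) : G)⁻¹ * g ∈ N V (k + 1) := by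
    intro g
    obtain ⟨x, hx, hxg⟩ := h.exists_lead hl g.2
    exact ⟨⟨⟨x, hx⟩, g, g.2, hxg⟩, hxg⟩
  choose f hf using hx
  choose r hr hr' using fun x : {x : X k // Lift V (t * l) k x} => x.2
  refine Nat.card_le_card_of_injective (fun g => (f g, ⟨(r (f g))⁻¹ * g, ?_⟩)) ?_
  · refine mem_Ck.2 ⟨?_, ?_⟩
    · have h1 := mul_mem (inv_mem (hr' (f g))) (hf g)
      have h2 : (((f g : X k) : G)⁻¹ * r (f g))⁻¹ * (((f g : X k) : G)⁻¹ * g) = (r (f g))⁻¹ * g := by group
      rwa [h2] at h1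
    · exact (mem_Ck.1 (mul_mem (inv_mem (hr (f g))) g.2)).2
  · intro g g' hgg
    have h1 : f g = f g' := congrArg Prod.fst hgg
    have h2 : (r (f g))⁻¹ * (g : G) = (r (f g'))⁻¹ * g' := congrArg (fun p => ((p.2 : _) : G)) hgg
    rw [h1] at h2
    exact Subtype.ext (mul_left_cancel h2)

theorem card_N_ge (h : Lvl t V X L M) (k : ℕ) :
    Nat.card (X k) * Nat.card (N X (k + 1)) ≤ Nat.card (N X k) := by
  rw [← Nat.card_prod]
  refine Nat.card_le_card_of_injective (fun p => ⟨p.1 * p.2, mul_mem (le_N X le_rfl p.1.2)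
    (N_anti X (Nat.le_succ k) p.2.2)⟩) ?_
  rintro ⟨a, b⟩ ⟨a', b'⟩ hab
  have h1 : (a : G) * b = a' * b' := congrArg Subtype.val hab
  have h2 : a = a' := by
    apply Subtype.ext
    apply h.uniq (h.X_le k a.2) (h.X_le k a'.2) (g := a * b)
    · rw [inv_mul_cancel_left]; exact h.X_le_N _ b.2
    · rw [h1, inv_mul_cancel_left]; exact h.X_le_N _ b'.2
  subst h2
  have h3 : b = b' := Subtype.ext (mul_left_cancel h1)
  rw [h3]

theorem card_le (h : Lvl t V X L M) {l : G} (hl : l ∈ N V 1) : ∀ n k : ℕ, M < n + k →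
    Nat.card (Ck V (t * l) k) ≤ Nat.card (N X k) := by
  intro n
  induction n with
  | zero =>
    intro k hk
    rw [zero_add] at hk
    have h1 : Ck V (t * l) k = ⊥ := by
      rw [eq_bot_iff]
      intro g hg
      have := (mem_Ck.1 hg).1
      rwa [h.N_top hk] at this
    rw [h1, Subgroup.card_bot]
    exact Nat.card_pos
  | succ n ih =>
    intro k hk
    refine (h.card_Ck_le hl).trans (le_trans ?_ (h.card_N_ge k))
    exact Nat.mul_le_mul (Nat.card_le_card_of_injective _ Subtype.val_injective) (ih (k + 1) (by omega))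

/-- if the centraliser of `t l` is large then everything lifts -/
theorem exists_lift (h : Lvl t V X L M) {l : G} (hl : l ∈ N V 1)
    (hcard : Nat.card (N X 1) ≤ Nat.card (Ck V (t * l) 1)) {j : ℕ} (hj : 1 ≤ j) {x : G} (hx : x ∈ X j) :
    Lift V (t * l) j x := by
  by_contra hno
  have key : ∀ n k : ℕ, k + n = j → Nat.card (Ck V (t * l) k) < Nat.card (N X k) := by
    intro n
    induction n with
    | zero =>
      intro k hk
      rw [add_zero] at hk
      subst hk
      refine lt_of_le_of_lt (h.card_Ck_le hl) (lt_of_lt_of_le ?_ (h.card_N_ge k))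
      have h1 : Nat.card {x : X k // Lift V (t * l) k x} < Nat.card (X k) := by
        exact Finite.card_subtype_lt (x := (⟨x, hx⟩ : X k)) hno
      have h2 := h.card_le hl (M + 1) (k + 1) (by omega)
      have h3 : 0 < Nat.card (N X (k + 1)) := Nat.card_pos
      calc Nat.card {x : X k // Lift V (t * l) k x} * Nat.card (Ck V (t * l) (k + 1))
          ≤ Nat.card {x : X k // Lift V (t * l) k x} * Nat.card (N X (k + 1)) := Nat.mul_le_mul_left _ h2
        _ < Nat.card (X k) * Nat.card (N X (k + 1)) := Nat.mul_lt_mul_of_pos_right h1 h3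
    | succ n ih =>
      intro k hk
      refine lt_of_le_of_lt (h.card_Ck_le hl) (lt_of_lt_of_le ?_ (h.card_N_ge k))
      have h1 : Nat.card {x : X k // Lift V (t * l) k x} ≤ Nat.card (X k) :=
        Nat.card_le_card_of_injective _ Subtype.val_injective
      have h2 := ih (k + 1) (by omega)
      have h3 : 0 < Nat.card (X k) := Nat.card_pos
      calc Nat.card {x : X k // Lift V (t * l) k x} * Nat.card (Ck V (t * l) (k + 1))
          ≤ Nat.card (X k) * Nat.card (Ck V (t * l) (k + 1)) := Nat.mul_le_mul_right _ h1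
        _ < Nat.card (X k) * Nat.card (N X (k + 1)) := Nat.mul_lt_mul_of_pos_left h2 h3
  have h1 := key (j - 1) 1 (by omega)
  omega

omit [Finite G] in
/-- `g⁻¹ g^t ∈ N V k` -/
theorem factor (h : Lvl t V X L M) {g : G} (hg : g ∈ N V 1) : ∀ k : ℕ, 1 ≤ k → g⁻¹ * (t * g * t) ∈ N V k →
    ∃ u ∈ N X 1, ∃ w ∈ N V k, g = u * w := by
  intro k hk
  induction k, hk using Nat.le_induction with
  | base => exact fun _ => ⟨1, one_mem _, g, hg, (one_mul g).symm⟩
  | succ k hk ih =>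
    intro hb
    obtain ⟨u, hu, w, hw, he⟩ := ih (N_anti V (Nat.le_succ k) hb)
    obtain ⟨v, hv, w', hw', rfl⟩ := h.filt.split hw
    have h1 : g⁻¹ * (t * g * t) = (v * w')⁻¹ * (t * (v * w') * t) := by
      rw [he, h.conj_mul, h.N_fix hu]
      group
    rw [h1] at hb
    have h2 := h.lead hv hw' hb
    exact ⟨u * v, mul_mem hu (le_N X hk h2), w', hw', by rw [he, mul_assoc]⟩

/-- The condition on the levels which are not moved. -/
def Up (L : ℕ → Subgroup G) (M : ℕ) : Prop :=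
  ∀ j, ∀ x ∈ L j, x ≠ 1 → j = M ∨ ∃ m, 1 ≤ m ∧ ∃ y ∈ L m, y * x * y⁻¹ * x⁻¹ ∈ L (m + j) ∧ y * x * y⁻¹ * x⁻¹ ≠ 1

theorem exists_lead_L (h : Lvl t V X L M) {l : G} (hl : l ∈ N L 1) (hl1 : l ≠ 1) :
    ∃ j, 1 ≤ j ∧ ∃ x ∈ L j, x ≠ 1 ∧ ∃ u ∈ N L (j + 1), l = x * u := by
  have key : ∀ n k : ℕ, M < n + k → 1 ≤ k → l ∈ N L k → ∃ j, 1 ≤ j ∧ ∃ x ∈ L j, x ≠ 1 ∧ ∃ u ∈ N L (j + 1), l = x * u := by
    intro n
    induction n with
    | zero =>
      intro k hk _ hlk
      rw [zero_add] at hk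
      have := h.X_le_N _ (h.L_le_N _ hlk)
      rw [h.N_top hk] at this
      exact absurd (Subgroup.mem_bot.1 this) hl1
    | succ n ih =>
      intro k hk hk1 hlk
      obtain ⟨x, hx, u, hu, he⟩ := h.filtL.split hlk
      by_cases hx1 : x = 1
      · rw [hx1, one_mul] at he
        exact ih (k + 1) (by omega) (by omega) (by rw [he]; exact hu)
      · exact ⟨k, hk1, x, hx, hx1, u, hu, he⟩
  exact key M 1 (by omega) le_rfl hl

/-- The extremal elements `t l` have `l ∈ L M`. -/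
theorem mem_top (h : Lvl t V X L M) (hup : Up L M) {l : G} (hl : l ∈ N L 1)
    (hcard : Nat.card (N X 1) ≤ Nat.card (Ck V (t * l) 1)) : l ∈ L M := by
  by_cases hl1 : l = 1
  · rw [hl1]; exact one_mem _
  have hlV : l ∈ N V 1 := h.X_le_N _ (h.L_le_N _ hl)
  obtain ⟨j, hj, x, hx, hx1, u, hu, he⟩ := h.exists_lead_L hl hl1
  rcases hup j x hx hx1 with rfl | ⟨m, hm, y, hy, hz, hz1⟩
  · -- top level
    have h1 : u ∈ N V (j + 1) := h.X_le_N _ (h.L_le_N _ hu)
    rw [h.N_top (Nat.lt_succ_self j)] at h1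
    rw [he, Subgroup.mem_bot.1 h1, mul_one]
    exact hx
  · exfalso
    have hyX := h.L_le m hy
    have hxX := h.L_le j hx
    obtain ⟨g, hg, hyg⟩ := h.exists_lift hlV hcard hm hyX
    obtain ⟨hg1, hg2⟩ := mem_Ck.1 hg
    set g' := y⁻¹ * g with hg'
    have hgy : g = y * g' := by rw [hg', mul_inv_cancel_left]
    have hgt : t * g * t = l * g * l⁻¹ := by
      have h2 : t * g * t = t * (g * (t * l)) * l⁻¹ := by group
      rw [h2, hg2]
      have h3 : t * (t * l * g) * l⁻¹ = (t * t) * l * g * l⁻¹ := by group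
      rw [h3, h.tt, one_mul]
    -- `g⁻¹ g^t ≡ z mod N V (m + j + 1)`
    set z := y * x * y⁻¹ * x⁻¹ with hzdef
    have hyi : y⁻¹ = y := inv_eq_of_mul_eq_one_left (h.sq m y (h.X_le m hyX))
    have huV : u ∈ N V (j + 1) := h.X_le_N _ (h.L_le_N _ hu)
    have hxV : x ∈ N V j := le_N V le_rfl (h.X_le j hxX)
    have hyV : y ∈ N V m := le_N V le_rfl (h.X_le m hyX)
    have hlj : l ∈ N V j := by rw [he]; exact mul_mem hxV (N_anti V (Nat.le_succ j) huV)
    have hmod : z⁻¹ * (g⁻¹ * (t * g * t)) ∈ N V (m + j + 1) := by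
      rw [hgt]
      -- `g⁻¹ l g l⁻¹ = g'⁻¹ (y⁻¹ l y l⁻¹) (l g' l⁻¹)`
      have e1 : g⁻¹ * (l * g * l⁻¹) = (g'⁻¹ * (y⁻¹ * l * y * l⁻¹) * g'⁻¹⁻¹ * (y⁻¹ * l * y * l⁻¹)⁻¹) *
          ((y⁻¹ * l * y * l⁻¹) * (g'⁻¹ * l * g'⁻¹⁻¹ * l⁻¹) * (y⁻¹ * l * y * l⁻¹)⁻¹) * (y⁻¹ * l * y * l⁻¹) := by
        rw [hgy]; group
      have e2 : y⁻¹ * l * y * l⁻¹ = z * (x * (y⁻¹ * u * y⁻¹⁻¹ * u⁻¹) * x⁻¹) := by
        have hyy : y⁻¹ * y⁻¹ = 1 := by rw [hyi]; exact h.sq m y (h.X_le m hyX)
        rw [he, hzdef]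
        calc y⁻¹ * (x * u) * y * (x * u)⁻¹ = y⁻¹ * (x * u * y * u⁻¹ * x⁻¹) := by group
          _ = y * (x * u * y * u⁻¹ * x⁻¹) := by rw [hyi]
          _ = y * x * (y⁻¹ * y⁻¹) * u * y * u⁻¹ * x⁻¹ := by rw [hyy]; group
          _ = _ := by group
      have hc1 : y⁻¹ * l * y * l⁻¹ ∈ N V (m + j) := by
        have := h.filt.comm (inv_mem hyV) hlj
        rwa [inv_inv] at this
      have hq1 : g'⁻¹ * (y⁻¹ * l * y * l⁻¹) * g'⁻¹⁻¹ * (y⁻¹ * l * y * l⁻¹)⁻¹ ∈ N V (m + j + 1) :=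
        N_anti V (by omega) (h.filt.comm (inv_mem hyg) hc1)
      have hq2 : g'⁻¹ * l * g'⁻¹⁻¹ * l⁻¹ ∈ N V (m + j + 1) :=
        N_anti V (by omega) (h.filt.comm (inv_mem hyg) hlj)
      have hq3 : (y⁻¹ * l * y * l⁻¹) * (g'⁻¹ * l * g'⁻¹⁻¹ * l⁻¹) * (y⁻¹ * l * y * l⁻¹)⁻¹ ∈ N V (m + j + 1) :=
        h.filt.conj hc1 hq2
      have hq4 : y⁻¹ * u * y⁻¹⁻¹ * u⁻¹ ∈ N V (m + j + 1) :=
        N_anti V (by omega) (h.filt.comm (inv_mem hyV) huV)
      have hq5 : x * (y⁻¹ * u * y⁻¹⁻¹ * u⁻¹) * x⁻¹ ∈ N V (m + j + 1) := h.filt.conj hxV hq4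
      have hzV : z ∈ N V (m + j) := le_N V le_rfl (h.X_le _ (h.L_le _ hz))
      rw [e1]
      set P := g'⁻¹ * (y⁻¹ * l * y * l⁻¹) * g'⁻¹⁻¹ * (y⁻¹ * l * y * l⁻¹)⁻¹ with hP
      set Q := (y⁻¹ * l * y * l⁻¹) * (g'⁻¹ * l * g'⁻¹⁻¹ * l⁻¹) * (y⁻¹ * l * y * l⁻¹)⁻¹ with hQ
      rw [e2]
      have e3 : z⁻¹ * (P * Q * (z * (x * (y⁻¹ * u * y⁻¹⁻¹ * u⁻¹) * x⁻¹))) =
          (z⁻¹ * (P * Q) * z⁻¹⁻¹) * (x * (y⁻¹ * u * y⁻¹⁻¹ * u⁻¹) * x⁻¹) := by group
      rw [e3]
      exact mul_mem (h.filt.conj (inv_mem hzV) (mul_mem hq1 hq3)) hq5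
    have hzV : z ∈ V (m + j) := h.X_le _ (h.L_le _ hz)
    have hb : g⁻¹ * (t * g * t) ∈ N V (m + j) := by
      have := mul_mem (le_N V le_rfl hzV : z ∈ N V (m + j)) (N_anti V (Nat.le_succ _) hmod)
      rwa [mul_inv_cancel_left] at this
    obtain ⟨a, ha, w, hw, hgw⟩ := h.factor (N_anti V hm hg1) (m + j) (by omega) hb
    obtain ⟨v, hv, w', hw', rfl⟩ := h.filt.split hw
    have hvX : v ∈ X (m + j) := by
      rcases h.alt (m + j) with h1 | ⟨h1, -⟩
      · exact h.L_le _ (h1 hv)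
      · rw [h1] at hz
        exact absurd (Subgroup.mem_bot.1 hz) hz1
    have e1 : g⁻¹ * (t * g * t) = w'⁻¹ * (t * w' * t) := by
      rw [hgw, h.conj_mul, h.conj_mul, h.N_fix ha, h.X_fix _ v hvX]
      group
    have h1 : g⁻¹ * (t * g * t) ∈ N V (m + j + 1) := by
      rw [e1]; exact mul_mem (inv_mem hw') (h.conj_N hw')
    have h2 := mul_mem h1 (inv_mem hmod)
    have h3 : g⁻¹ * (t * g * t) * (z⁻¹ * (g⁻¹ * (t * g * t)))⁻¹ = z := by group
    rw [h3] at h2
    exact hz1 (h.eq_one hzV h2)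

/-! ### The transfer -/

/-- The group `N V 1 ⟨t⟩`. -/
def H (h : Lvl t V X L M) : Subgroup G where
  carrier := {g | g ∈ N V 1 ∨ t * g ∈ N V 1}
  one_mem' := Or.inl (one_mem _)
  mul_mem' := by
    rintro a b (ha | ha) (hb | hb)
    · exact Or.inl (mul_mem ha hb)
    · right
      have h1 := mul_mem (h.conj_N ha) hb
      have h2 : t * a * t * (t * b) = t * (a * b) := by
        calc t * a * t * (t * b) = t * a * (t * t) * b := by group
          _ = t * (a * b) := by rw [h.tt]; group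
      rwa [h2] at h1
    · right
      have h1 := mul_mem ha hb
      rwa [mul_assoc] at h1
    · left
      have h1 := mul_mem (h.conj_N ha) hb
      have h2 : t * (t * a) * t * (t * b) = a * b := by
        calc t * (t * a) * t * (t * b) = (t * t) * a * (t * t) * b := by group
          _ = a * b := by rw [h.tt]; group
      rwa [h2] at h1
  inv_mem' := by
    rintro a (ha | ha)
    · exact Or.inl (inv_mem ha)
    · right
      have h1 := h.conj_N (inv_mem ha)
      rw [mul_inv_rev, h.t_inv] at h1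
      have h2 : t * (a⁻¹ * t) * t = t * a⁻¹ := by
        calc t * (a⁻¹ * t) * t = t * a⁻¹ * (t * t) := by group
          _ = t * a⁻¹ := by rw [h.tt, mul_one]
      rwa [h2] at h1

omit [Finite G] in
theorem mem_H (h : Lvl t V X L M) {g : G} : g ∈ h.H ↔ g ∈ N V 1 ∨ t * g ∈ N V 1 := Iff.rfl

omit [Finite G] in
theorem t_mem_H (h : Lvl t V X L M) : t ∈ h.H := Or.inr (by rw [h.tt]; exact one_mem _)

omit [Finite G] in
open Classical in
/-- The sign with kernel `N V 1`. -/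
noncomputable def sign (h : Lvl t V X L M) (ht : t ∉ N V 1) : h.H →* ℤˣ where
  toFun g := if (g : G) ∈ N V 1 then 1 else -1
  map_one' := if_pos (one_mem _)
  map_mul' := by
    rintro ⟨a, ha⟩ ⟨b, hb⟩
    have key : ∀ g ∈ h.H, g ∉ N V 1 → t * g ∈ N V 1 := fun g hg hn => hg.resolve_left hn
    have htg : ∀ g, g ∈ N V 1 → t * g ∉ N V 1 := by
      intro g hg hn
      apply ht
      have := mul_mem hn (inv_mem hg)
      rwa [mul_inv_cancel_right] at this
    simp only [MulMemClass.mk_mul_mk]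
    by_cases h1 : a ∈ N V 1 <;> by_cases h2 : b ∈ N V 1
    · rw [if_pos h1, if_pos h2, if_pos (mul_mem h1 h2), one_mul]
    · have h3 : a * b ∉ N V 1 := fun hn => h2 (by
        have := mul_mem (inv_mem h1) hn
        rwa [inv_mul_cancel_left] at this)
      rw [if_pos h1, if_neg h2, if_neg h3, one_mul]
    · have h3 : a * b ∉ N V 1 := fun hn => h1 (by
        have := mul_mem hn (inv_mem h2)
        rwa [mul_inv_cancel_right] at this)
      rw [if_neg h1, if_pos h2, if_neg h3, mul_one]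
    · have h4 := key a ha h1
      have h5 := key b hb h2
      have h6 := mul_mem (h.conj_N h4) h5
      have h7 : t * (t * a) * t * (t * b) = a * b := by
        calc t * (t * a) * t * (t * b) = (t * t) * a * (t * t) * b := by group
          _ = a * b := by rw [h.tt]; group
      rw [h7] at h6
      rw [if_neg h1, if_neg h2, if_pos h6]
      rfl

omit [Finite G] in
theorem sign_apply (h : Lvl t V X L M) (ht : t ∉ N V 1) (g : h.H) :
    h.sign ht g = -1 ↔ (g : G) ∉ N V 1 := by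
  classical
  show (if (g : G) ∈ N V 1 then (1 : ℤˣ) else -1) = -1 ↔ _
  by_cases h1 : (g : G) ∈ N V 1
  · rw [if_pos h1]
    exact ⟨fun h => absurd h (by decide), fun h => absurd h1 h⟩
  · rw [if_neg h1]
    exact ⟨fun _ => h1, fun _ => rfl⟩

omit [Finite G] in
theorem sq_mem (h : Lvl t V X L M) {k : ℕ} {w : G} (hw : w ∈ N V k) : w ^ 2 ∈ N V (k + 1) := by
  obtain ⟨v, hv, u, hu, rfl⟩ := h.filt.split hw
  have h1 : (v * u) ^ 2 = (v * v) * (v⁻¹ * u * v⁻¹⁻¹) * u := by rw [pow_two]; group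
  rw [h1, h.sq k v hv, one_mul]
  exact mul_mem (h.filt.conj_gen (inv_mem hv) hu) hu

omit [Finite G] in
theorem npow_mem (h : Lvl t V X L M) {w : G} (hw : w ∈ N V 1) (n : ℕ) : w ^ (2 ^ n) ∈ N V (n + 1) := by
  induction n with
  | zero => rw [pow_zero, pow_one]; exact hw
  | succ n ih => rw [pow_succ, pow_mul]; exact h.sq_mem ih

omit [Finite G] in
theorem isPGroup (h : Lvl t V X L M) : IsPGroup 2 (N X 1 ⊔ Subgroup.zpowers t : Subgroup G) := by
  have hle : (N X 1 ⊔ Subgroup.zpowers t : Subgroup G) ≤ h.H := by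
    refine sup_le (fun g hg => Or.inl (h.X_le_N _ hg)) ?_
    rw [Subgroup.zpowers_le]
    exact h.t_mem_H
  rintro ⟨g, hg⟩
  have h1 : g ^ 2 ∈ N V 1 := by
    rcases hle hg with h1 | h1
    · exact pow_mem h1 2
    · have h2 := mul_mem (h.conj_N h1) h1
      have h3 : t * (t * g) * t * (t * g) = g ^ 2 := by
        calc t * (t * g) * t * (t * g) = (t * t) * g * (t * t) * g := by group
          _ = g ^ 2 := by rw [h.tt, one_mul, mul_one, pow_two]
      rwa [h3] at h2
  refine ⟨M + 1, Subtype.ext ?_⟩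
  have h2 := h.npow_mem h1 M
  rw [h.N_top (Nat.lt_succ_self M), Subgroup.mem_bot, ← pow_mul, ← pow_succ'] at h2
  exact h2

/-- **END** -/
theorem exists_hom (h : Lvl t V X L M) (hup : Up L M) (ht : t ∉ N X 1)
    (hNM : ∀ x ∈ L M, ∀ g : G, g⁻¹ * t * g = t * x → x = 1)
    (hodd : Odd ((N X 1 ⊔ Subgroup.zpowers t).relIndex (Subgroup.centralizer ({t} : Set G)))) :
    ∃ m : G →* ℤˣ, m t = -1 := by
  classical
  have htt : t * t * t = t := by rw [h.tt, one_mul]
  have ht' : t ∉ N V 1 := fun h1 => ht (h.mem_N_of_fix h1 htt)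
  refine Extremal.exists_hom_of_extremal (h.sign ht') h.tt h.t_mem_H ((h.sign_apply ht' _).2 ht')
    (N X 1 ⊔ Subgroup.zpowers t) h.isPGroup ?_ ?_ ?_
  · intro x hx
    have hle : N X 1 ⊔ Subgroup.zpowers t ≤ Subgroup.centralizer {t} := by
      refine sup_le (fun g hg => ?_) ?_
      · rw [Subgroup.mem_centralizer_singleton_iff]
        have h1 := h.N_fix hg
        calc g * t = t * g * t * t := by rw [h1]
          _ = t * g * (t * t) := by group
          _ = t * g := by rw [h.tt, mul_one]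
      · rw [Subgroup.zpowers_le, Subgroup.mem_centralizer_singleton_iff]
    exact Subgroup.mem_centralizer_singleton_iff.1 (hle hx)
  · intro g hg hs hT
    rw [h.sign_apply] at hs
    set y := g⁻¹ * t * g with hy
    have hyy : y * y = 1 := by
      calc (g⁻¹ * t * g) * (g⁻¹ * t * g) = g⁻¹ * (t * t) * g := by group
        _ = 1 := by rw [h.tt]; group
    have h1 : t * y ∈ N V 1 := hg.resolve_left hs
    have h2 : t * (t * y) = y := by rw [← mul_assoc, h.tt, one_mul]
    obtain ⟨c, hc, l, hl, hcl⟩ := h.exists_conj h1 (by rw [h2]; exact hyy)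
    rw [h2] at hcl
    have hlV : l ∈ N V 1 := h.X_le_N _ (h.L_le_N _ hl)
    -- counting
    have hcard : Nat.card (N X 1) ≤ Nat.card (Ck V (t * l) 1) := by
      have hmem : ∀ x : N X 1, (if g⁻¹ * (x : G) * g ∈ N V 1 then g⁻¹ * (x : G) * g else y * (g⁻¹ * (x : G) * g)) ∈
          Ck V y 1 := by
        intro x
        have hxT : g⁻¹ * (x : G) * g ∈ h.H := hT x (Subgroup.mem_sup_left x.2)
        have hxt : t * x * t = (x : G) := h.N_fix x.2
        have hxt' : (x : G) * t = t * x := by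
          calc (x : G) * t = t * x * t * t := by rw [hxt]
            _ = t * x * (t * t) := by group
            _ = t * x := by rw [h.tt, mul_one]
        have hxy : g⁻¹ * (x : G) * g * y = y * (g⁻¹ * (x : G) * g) := by
          calc g⁻¹ * (x : G) * g * (g⁻¹ * t * g) = g⁻¹ * ((x : G) * t) * g := by group
            _ = g⁻¹ * t * g * (g⁻¹ * (x : G) * g) := by rw [hxt']; group
        split_ifs with h3
        · exact mem_Ck.2 ⟨h3, hxy⟩
        · refine mem_Ck.2 ⟨?_, by rw [mul_assoc, ← hxy]⟩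
          have h4 : t * (g⁻¹ * (x : G) * g) ∈ N V 1 := hxT.resolve_left h3
          have h5 := mul_mem (h.conj_N (k := 1) h1) h4
          have h6 : t * (t * y) * t * (t * (g⁻¹ * (x : G) * g)) = y * (g⁻¹ * (x : G) * g) := by
            calc t * (t * y) * t * (t * (g⁻¹ * (x : G) * g)) = (t * t) * y * (t * t) * (g⁻¹ * (x : G) * g) := by group
              _ = y * (g⁻¹ * (x : G) * g) := by rw [h.tt, one_mul, mul_one]
          rwa [h6] at h5
      have e1 : Nat.card (N X 1) ≤ Nat.card (Ck V y 1) := by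
        refine Nat.card_le_card_of_injective (fun x => ⟨_, hmem x⟩) ?_
        intro a b hab
        have hab' : (if g⁻¹ * (a : G) * g ∈ N V 1 then g⁻¹ * (a : G) * g else y * (g⁻¹ * (a : G) * g)) =
            (if g⁻¹ * (b : G) * g ∈ N V 1 then g⁻¹ * (b : G) * g else y * (g⁻¹ * (b : G) * g)) :=
          congrArg Subtype.val hab
        have hinj : ∀ p q : G, g⁻¹ * p * g = g⁻¹ * q * g → p = q := fun p q hpq =>
          mul_left_cancel (mul_right_cancel hpq)
        have hbad : ∀ p q : N X 1, g⁻¹ * (p : G) * g = y * (g⁻¹ * (q : G) * g) → False := by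
          intro p q hpq
          apply ht
          have h7 : (p : G) = t * q := by
            apply hinj
            rw [hpq, hy]; group
          have h8 : t = p * (q : G)⁻¹ := by rw [h7, mul_inv_cancel_right]
          rw [h8]
          exact mul_mem p.2 (inv_mem q.2)
        apply Subtype.ext
        split_ifs at hab' with h3 h4 h5
        · exact hinj _ _ hab'
        · exact (hbad _ _ hab').elim
        · exact (hbad _ _ hab'.symm).elim
        · exact hinj _ _ (mul_left_cancel hab')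
      refine e1.trans (Nat.card_le_card_of_injective (fun z => ⟨c⁻¹ * z * c, ?_⟩) ?_)
      · obtain ⟨hz1, hz2⟩ := mem_Ck.1 z.2
        refine mem_Ck.2 ⟨mul_mem (mul_mem (inv_mem hc) hz1) hc, ?_⟩
        have h3 : t * l = c⁻¹ * y * c := by rw [hcl]; group
        rw [h3]
        calc c⁻¹ * (z : G) * c * (c⁻¹ * y * c) = c⁻¹ * ((z : G) * y) * c := by group
          _ = c⁻¹ * y * c * (c⁻¹ * z * c) := by rw [hz2]; group
      · intro a b hab
        have h3 : c⁻¹ * (a : G) * c = c⁻¹ * b * c := congrArg Subtype.val hab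
        exact Subtype.ext (mul_left_cancel (mul_right_cancel h3))
    have hlM := h.mem_top hup hl hcard
    have hl1 : l = 1 := by
      apply hNM l hlM (g * c)
      have h3 : t * l = c⁻¹ * y * c := by rw [hcl]; group
      rw [h3, hy]; group
    rw [hl1, mul_one] at hcl
    exact ⟨c, Or.inl hc, hcl⟩
  · have h1 : h.H.relIndex (Subgroup.centralizer ({t} : Set G)) =
        (N X 1 ⊔ Subgroup.zpowers t).relIndex (Subgroup.centralizer ({t} : Set G)) := by
      rw [← Subgroup.inf_relIndex_right, ← Subgroup.inf_relIndex_right (N X 1 ⊔ Subgroup.zpowers t)]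
      congr 1
      apply le_antisymm
      · rintro g ⟨hg, hc⟩
        refine ⟨?_, hc⟩
        have hc' := Subgroup.mem_centralizer_singleton_iff.1 hc
        rcases hg with hg | hg
        · refine Subgroup.mem_sup_left (h.mem_N_of_fix hg ?_)
          rw [mul_assoc, hc', ← mul_assoc, h.tt, one_mul]
        · have h4 : t * g ∈ N X 1 := h.mem_N_of_fix hg (by
            rw [mul_assoc, mul_assoc, hc', ← mul_assoc, ← mul_assoc, h.tt, one_mul])
          have h5 : g = t⁻¹ * (t * g) := by group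
          rw [h5]
          exact mul_mem (Subgroup.mem_sup_right (inv_mem (Subgroup.mem_zpowers t))) (Subgroup.mem_sup_left h4)
      · refine le_inf ?_ inf_le_right
        refine inf_le_left.trans (sup_le ?_ ?_)
        · exact fun g hg => Or.inl (h.X_le_N _ hg)
        · rw [Subgroup.zpowers_le]
          exact h.t_mem_H
    rw [h1]
    exact hodd

end Lvl

end Cfsg.Agent.OddHalf.D7F4.Levels
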