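import Cfsg.Agent.OddHalf.D7F4.Dual
import Cfsg.Agent.OddHalf.F4.EndOut

/-!
# K = F4(q): exactly one length is moved, any outer 2-part of field type (S1765, node D7)

`T` a Sylow 2-subgroup of `C_G(t)`, `U ≤ T` the product of the positive root groups, `T = D U` where `D` normalises the
root groups `X a` and the doubled root groups `W s`, `T / U` abelian; an element of `D` of order 2 modulo `U` outside
`⟨t⟩ U` has at most square-root-many fixed points on every `X a`. Then `t ∉ [G, G]`.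

* `Lvl.card_lt`, `Lvl.fr`, `Lvl.not_mem` : for the structure `Levels.Lvl`;
* `PatA.not_mem` : short roots moved, long roots not moved;
* `not_mem_short`, `not_mem_long` : the two patterns for `F4(q)`.
-/

set_option autoImplicit false

namespace Cfsg.Agent.OddHalf.D7F4

open Subgroup

/-! ### Levels -/

namespace Levels.Lvl

variable {G : Type*} [Group G] {t : G} {V X L : ℕ → Subgroup G} {M : ℕ}

theorem isPGroup_V (h : Lvl t V X L M) : IsPGroup 2 (N V 1) := by
  rintro ⟨w, hw⟩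
  refine ⟨M, Subtype.ext ?_⟩
  have h1 := h.npow_mem hw M
  rw [h.N_top (Nat.lt_succ_self M), mem_bot] at h1
  exact h1

/-- `|V k| ≤ |X k|²` -/
theorem card_V_le [Finite G] (h : Lvl t V X L M) (k : ℕ) : Nat.card (V k) ≤ Nat.card (X k) ^ 2 := by
  classical
  -- choose a representative of each value of `v ↦ v⁻¹ v^t`
  let φ : V k → X k := fun v => ⟨(v : G)⁻¹ * (t * v * t), h.brk k v v.2⟩
  let r : V k → V k := fun v => Function.surjInv (f := Set.rangeFactorization φ)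
    Set.rangeFactorization_surjective (Set.rangeFactorization φ v)
  have hr : ∀ v, φ (r v) = φ v := fun v =>
    congrArg Subtype.val (Function.surjInv_eq (f := Set.rangeFactorization φ) Set.rangeFactorization_surjective
      (Set.rangeFactorization φ v))
  have hm : ∀ v : V k, (r v : G)⁻¹ * v ∈ X k := by
    intro v
    have h1 : ((r v : G))⁻¹ * (t * (r v : G) * t) = (v : G)⁻¹ * (t * v * t) := congrArg Subtype.val (hr v)
    refine h.cent k _ (mul_mem (inv_mem (r v).2) v.2) ?_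
    have h2 : t * ((r v : G)⁻¹ * v) * t = (t * (r v : G) * t)⁻¹ * (t * v * t) := by
      rw [h.conj_mul, h.conj_inv]
    have h3 : t * (r v : G) * t = (r v : G) * ((v : G)⁻¹ * (t * v * t)) := by rw [← h1]; group
    have h4 : t * (v : G) * t = (v : G) * ((v : G)⁻¹ * (t * v * t)) := by group
    rw [h2, h3]
    set d := (v : G)⁻¹ * (t * v * t) with hd
    have hdV : d ∈ V k := h.X_le k (h.brk k v v.2)
    rw [h4, mul_inv_rev]
    have h5 : (r v : G)⁻¹ * (v * d) = d * ((r v : G)⁻¹ * v) := by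
      rw [← mul_assoc]
      exact h.comm_V (mul_mem (inv_mem (r v).2) v.2) hdV
    calc d⁻¹ * (r v : G)⁻¹ * (v * d) = d⁻¹ * ((r v : G)⁻¹ * (v * d)) := by group
      _ = d⁻¹ * (d * ((r v : G)⁻¹ * v)) := by rw [h5]
      _ = (r v : G)⁻¹ * v := by group
  rw [pow_two, ← Nat.card_prod]
  refine Nat.card_le_card_of_injective (fun v => (φ v, (⟨(r v : G)⁻¹ * v, hm v⟩ : X k))) ?_
  intro v w hvw
  have h1 : φ v = φ w := congrArg Prod.fst hvw
  have h2 : (r v : G)⁻¹ * v = (r w : G)⁻¹ * w := congrArg (fun z : X k × X k => (z.2 : G)) hvw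
  have h3 : r v = r w := by
    have : Set.rangeFactorization φ v = Set.rangeFactorization φ w := Subtype.ext h1
    show Function.surjInv _ _ = Function.surjInv _ _
    rw [this]
  rw [h3] at h2
  exact Subtype.ext (mul_left_cancel h2)

theorem card_NV_le [Finite G] (h : Lvl t V X L M) (k : ℕ) :
    Nat.card (N V k) ≤ Nat.card (V k) * Nat.card (N V (k + 1)) := by
  rw [← Nat.card_prod]
  choose! a ha b hb he using fun (w : N V k) => h.filt.split w.2
  refine Nat.card_le_card_of_injective (fun w : N V k => ((⟨a w, ha w⟩ : V k), (⟨b w, hb w⟩ : N V (k + 1)))) ?_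
  intro v w hvw
  have h1 : a v = a w := congrArg (fun z : V k × N V (k + 1) => (z.1 : G)) hvw
  have h2 : b v = b w := congrArg (fun z : V k × N V (k + 1) => (z.2 : G)) hvw
  apply Subtype.ext
  rw [he v, he w, h1, h2]

theorem card_le_sq [Finite G] (h : Lvl t V X L M) : ∀ n k : ℕ, M < n + k →
    Nat.card (N V k) ≤ Nat.card (N X k) ^ 2 := by
  intro n
  induction n with
  | zero =>
    intro k hk
    rw [h.N_top (by omega), card_bot]
    exact Nat.one_le_pow _ _ Nat.card_pos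
  | succ n ih =>
    intro k hk
    calc Nat.card (N V k) ≤ Nat.card (V k) * Nat.card (N V (k + 1)) := h.card_NV_le k
      _ ≤ Nat.card (X k) ^ 2 * Nat.card (N X (k + 1)) ^ 2 :=
        Nat.mul_le_mul (h.card_V_le k) (ih (k + 1) (by omega))
      _ = (Nat.card (X k) * Nat.card (N X (k + 1))) ^ 2 := (mul_pow _ _ _).symm
      _ ≤ Nat.card (N X k) ^ 2 := Nat.pow_le_pow_left (h.card_N_ge k) 2

/-- if some level is not doubled, `|U*| < |U|²` -/
theorem card_lt [Finite G] (h : Lvl t V X L M) {j : ℕ} (hj : V j ≤ X j) {x : G} (hx : x ∈ X j) (hx1 : x ≠ 1) :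
    ∀ n k : ℕ, j = n + k → Nat.card (N V k) < Nat.card (N X k) ^ 2 := by
  intro n
  induction n with
  | zero =>
    intro k hk
    obtain rfl : j = k := by omega
    have h1 : Nat.card (V j) ≤ Nat.card (X j) := card_le_of_le hj
    have h2 : 1 < Nat.card (X j) := by
      have : Nontrivial (X j) := ⟨⟨⟨x, hx⟩, 1, fun h => hx1 (congrArg Subtype.val h)⟩⟩
      exact Finite.one_lt_card
    have h3 : Nat.card (V j) < Nat.card (X j) ^ 2 := by nlinarith
    calc Nat.card (N V j) ≤ Nat.card (V j) * Nat.card (N V (j + 1)) := h.card_NV_le j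
      _ ≤ Nat.card (V j) * Nat.card (N X (j + 1)) ^ 2 :=
        Nat.mul_le_mul_left _ (h.card_le_sq (M + 1) (j + 1) (by omega))
      _ < Nat.card (X j) ^ 2 * Nat.card (N X (j + 1)) ^ 2 :=
        Nat.mul_lt_mul_of_pos_right h3 (Nat.pow_pos Nat.card_pos)
      _ = (Nat.card (X j) * Nat.card (N X (j + 1))) ^ 2 := (mul_pow _ _ _).symm
      _ ≤ Nat.card (N X j) ^ 2 := Nat.pow_le_pow_left (h.card_N_ge j) 2
  | succ n ih =>
    intro k hk
    calc Nat.card (N V k) ≤ Nat.card (V k) * Nat.card (N V (k + 1)) := h.card_NV_le k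
      _ ≤ Nat.card (X k) ^ 2 * Nat.card (N V (k + 1)) :=
        Nat.mul_le_mul_right _ (h.card_V_le k)
      _ < Nat.card (X k) ^ 2 * Nat.card (N X (k + 1)) ^ 2 :=
        Nat.mul_lt_mul_of_pos_left (ih (k + 1) (by omega)) (Nat.pow_pos Nat.card_pos)
      _ = (Nat.card (X k) * Nat.card (N X (k + 1))) ^ 2 := (mul_pow _ _ _).symm
      _ ≤ Nat.card (N X k) ^ 2 := Nat.pow_le_pow_left (h.card_N_ge k) 2

/-- a moved level is doubled -/
theorem dbl [Finite G] (h : Lvl t V X L M) (i : ℕ) : V i ≤ X i ∨ Nat.card (X i) ^ 2 ≤ Nat.card (V i) := by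
  rcases h.alt i with h1 | ⟨-, h1⟩
  · exact Or.inl (h1.trans (h.L_le i))
  · right
    choose! s hs he using h1
    rw [pow_two, ← Nat.card_prod]
    refine Nat.card_le_card_of_injective (fun z : X i × X i =>
      (⟨s z.1 * z.2, mul_mem (hs _ z.1.2) (h.X_le i z.2.2)⟩ : V i)) ?_
    have key : ∀ x ∈ X i, ∀ y ∈ X i, (s x * y)⁻¹ * (t * (s x * y) * t) = x := by
      intro x hx y hy
      have h2 : t * (s x * y) * t = s x * ((s x)⁻¹ * (t * s x * t)) * (t * y * t) := by rw [h.conj_mul]; group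
      rw [h2, he x hx, h.X_fix i y hy]
      have h3 : x * y = y * x := h.comm_V (h.X_le i hx) (h.X_le i hy)
      calc (s x * y)⁻¹ * (s x * x * y) = y⁻¹ * (x * y) := by group
        _ = x := by rw [h3, inv_mul_cancel_left]
    rintro ⟨⟨x, hx⟩, ⟨y, hy⟩⟩ ⟨⟨x', hx'⟩, ⟨y', hy'⟩⟩ hh
    have h2 : s x * y = s x' * y' := congrArg Subtype.val hh
    have h3 := key x hx y hy
    rw [h2, key x' hx' y' hy'] at h3
    subst h3
    have h4 : y = y' := mul_left_cancel h2
    subst h4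
    rfl

/-- The frame. -/
theorem fr (h : Lvl t V X L M) {T : Subgroup G} (T2 : IsPGroup 2 T) (tT : t ∈ T) (Tc : ∀ d ∈ T, d * t = t * d)
    (Tmax : ∀ P : Subgroup G, IsPGroup 2 P → T ≤ P → (∀ x ∈ P, x * t = t * x) → P ≤ T)
    (UT : N X 1 ≤ T) (ab : ∀ a ∈ T, ∀ b ∈ T, a * b * a⁻¹ * b⁻¹ ∈ N X 1)
    (D : Subgroup G) (hTD : ∀ v ∈ T, ∃ y ∈ D, ∃ x ∈ N X 1, v = y * x)
    (hDV : ∀ y ∈ D, ∀ i, ∀ v ∈ V i, y * v * y⁻¹ ∈ V i) : Out.Exclude.Fr t T (N X 1) (N V 1) where
  tt := h.tt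
  T2 := T2
  tT := tT
  Tc := Tc
  Tmax := Tmax
  Us2 := h.isPGroup_V
  norm := by
    intro d hd w hw
    obtain ⟨y, hy, x, hx, rfl⟩ := hTD d hd
    have h1 : x * w * x⁻¹ ∈ N V 1 := mul_mem (mul_mem (h.X_le_N 1 hx) hw) (inv_mem (h.X_le_N 1 hx))
    have h2 : N V 1 ≤ (N V 1).comap (MulAut.conj y).toMonoidHom := by
      refine iSup₂_le fun i hi v hv => ?_
      exact le_N V hi (hDV y hy i v hv)
    have h3 := h2 h1
    have e : (MulAut.conj y).toMonoidHom (x * w * x⁻¹) = y * x * w * (y * x)⁻¹ := by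
      show y * (x * w * x⁻¹) * y⁻¹ = _
      group
    rw [mem_comap, e] at h3
    exact h3
  UT := UT
  hU := by
    intro w
    constructor
    · intro hw
      exact ⟨h.X_le_N 1 hw, Tc w (UT hw)⟩
    · rintro ⟨h1, h2⟩
      refine h.mem_N_of_fix h1 ?_
      rw [← h2, mul_assoc, h.tt, mul_one]
  ab := ab

/-- **END with an outer 2-part** -/
theorem not_mem [Finite G] (h : Lvl t V X L M) (hup : Up L M) {T : Subgroup G} (T2 : IsPGroup 2 T) (tT : t ∈ T)
    (Tc : ∀ d ∈ T, d * t = t * d)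
    (Tmax : ∀ P : Subgroup G, IsPGroup 2 P → T ≤ P → (∀ x ∈ P, x * t = t * x) → P ≤ T)
    (UT : N X 1 ≤ T) (ab : ∀ a ∈ T, ∀ b ∈ T, a * b * a⁻¹ * b⁻¹ ∈ N X 1) (ht : t ∉ N X 1)
    {j : ℕ} (hj1 : 1 ≤ j) (hj : V j ≤ X j) {x₀ : G} (hx₀ : x₀ ∈ X j) (hx₀1 : x₀ ≠ 1)
    (D : Subgroup G) (hDT : D ≤ T) (hTD : ∀ v ∈ T, ∃ y ∈ D, ∃ x ∈ N X 1, v = y * x)
    (hDV : ∀ y ∈ D, ∀ i, ∀ v ∈ V i, y * v * y⁻¹ ∈ V i)
    (hfld : ∀ y ∈ D, y * y ∈ N X 1 → y ∉ N X 1 → t * y ∉ N X 1 → ∀ i, 1 ≤ i →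
      Nat.card (X i ⊓ centralizer {y} : Subgroup G) ^ 2 ≤ Nat.card (X i))
    (hNM : ∀ x ∈ L M, ∀ g : G, g⁻¹ * t * g = t * x → x = 1) : t ∉ _root_.commutator G := by
  have F := h.fr T2 tT Tc Tmax UT ab D hTD hDV
  have hDN : ∀ y ∈ D, ∀ i, 1 ≤ i → ∀ v ∈ N V i, y * v * y⁻¹ ∈ N V i := by
    intro y hy i _ v hv
    have h2 : N V i ≤ (N V i).comap (MulAut.conj y).toMonoidHom := by
      refine iSup₂_le fun k hk v hv => ?_
      exact le_N V hk (hDV y hy k v hv)
    exact h2 hv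
  refine F4.EndOut.lvl_end_out h hup F ht (h.card_lt hj hx₀ hx₀1 (j - 1) 1 (by omega)) D hDT hTD hDN ?_ hNM
  intro y hy hyy hy1 hy2 i hi
  have hyt : y * t = t * y := Tc y (hDT hy)
  -- the fixed points of `y` on `V i`
  refine ⟨V i ⊓ centralizer {y}, ?_, ?_⟩
  · intro v hv h1
    have h2 : v⁻¹ * (y * v * y⁻¹) = 1 := h.eq_one (k := i) (mul_mem (inv_mem hv) (hDV y hy i v hv)) h1
    refine ⟨hv, mem_centralizer_singleton_iff.2 ?_⟩
    have h3 : v = y * v * y⁻¹ := inv_mul_eq_one.1 h2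
    calc v * y = y * v * y⁻¹ * y := by rw [← h3]
      _ = y * v := by group
  · have h0 := hfld y hy hyy hy1 hy2 i hi
    rcases h.dbl i with h1 | h1
    · have h2 : V i = X i := le_antisymm h1 (h.X_le i)
      rw [h2]; exact h0
    · -- `|C_V(y)| ≤ |C_X(y)|²`
      have h3 : Nat.card (V i ⊓ centralizer {y} : Subgroup G) ≤
          Nat.card (X i ⊓ centralizer {y} : Subgroup G) ^ 2 := by
        classical
        set A : Subgroup G := V i ⊓ centralizer {y} with hA
        set B : Subgroup G := X i ⊓ centralizer {y} with hB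
        have mA : ∀ {v}, v ∈ A ↔ v ∈ V i ∧ v * y = y * v := fun {v} =>
          ⟨fun h => ⟨h.1, mem_centralizer_singleton_iff.1 h.2⟩, fun h => ⟨h.1, mem_centralizer_singleton_iff.2 h.2⟩⟩
        have mB : ∀ {v}, v ∈ B ↔ v ∈ X i ∧ v * y = y * v := fun {v} =>
          ⟨fun h => ⟨h.1, mem_centralizer_singleton_iff.1 h.2⟩, fun h => ⟨h.1, mem_centralizer_singleton_iff.2 h.2⟩⟩
        have hφ : ∀ v ∈ A, v⁻¹ * (t * v * t) ∈ B := by
          intro v hv
          rw [mB]
          refine ⟨h.brk i v (mA.1 hv).1, ?_⟩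
          have c1 : Commute v y := (mA.1 hv).2
          have c2 : Commute t y := hyt.symm
          exact (c1.inv_left.mul_left ((c2.mul_left c1).mul_left c2))
        let φ : A → B := fun v => ⟨(v : G)⁻¹ * (t * v * t), hφ v v.2⟩
        let r : A → A := fun v => Function.surjInv (f := Set.rangeFactorization φ)
          Set.rangeFactorization_surjective (Set.rangeFactorization φ v)
        have hr : ∀ v, φ (r v) = φ v := fun v =>
          congrArg Subtype.val (Function.surjInv_eq (f := Set.rangeFactorization φ)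
            Set.rangeFactorization_surjective (Set.rangeFactorization φ v))
        have hm : ∀ v : A, (r v : G)⁻¹ * v ∈ B := by
          intro v
          have hrV : (r v : G) ∈ V i := (r v).2.1
          have hvV : (v : G) ∈ V i := v.2.1
          have h1 : ((r v : G))⁻¹ * (t * (r v : G) * t) = (v : G)⁻¹ * (t * v * t) := congrArg Subtype.val (hr v)
          rw [mB]
          refine ⟨h.cent i _ (mul_mem (inv_mem hrV) hvV) ?_, (mA.1 (mul_mem (inv_mem (r v).2) v.2)).2⟩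
          have h2 : t * ((r v : G)⁻¹ * v) * t = (t * (r v : G) * t)⁻¹ * (t * v * t) := by
            rw [h.conj_mul, h.conj_inv]
          have h3 : t * (r v : G) * t = (r v : G) * ((v : G)⁻¹ * (t * v * t)) := by rw [← h1]; group
          have h4 : t * (v : G) * t = (v : G) * ((v : G)⁻¹ * (t * v * t)) := by group
          rw [h2, h3]
          set d := (v : G)⁻¹ * (t * v * t) with hd
          have hdV : d ∈ V i := h.X_le i (h.brk i v hvV)
          rw [h4, mul_inv_rev]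
          have h5 : (r v : G)⁻¹ * (v * d) = d * ((r v : G)⁻¹ * v) := by
            rw [← mul_assoc]
            exact h.comm_V (mul_mem (inv_mem hrV) hvV) hdV
          calc d⁻¹ * (r v : G)⁻¹ * (v * d) = d⁻¹ * ((r v : G)⁻¹ * (v * d)) := by group
            _ = d⁻¹ * (d * ((r v : G)⁻¹ * v)) := by rw [h5]
            _ = (r v : G)⁻¹ * v := by group
        rw [pow_two, ← Nat.card_prod]
        refine Nat.card_le_card_of_injective (fun v => (φ v, (⟨(r v : G)⁻¹ * v, hm v⟩ : B))) ?_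
        intro v w hvw
        have h1 : φ v = φ w := congrArg Prod.fst hvw
        have h2 : (r v : G)⁻¹ * v = (r w : G)⁻¹ * w := congrArg (fun z : B × B => (z.2 : G)) hvw
        have h3 : r v = r w := by
          have : Set.rangeFactorization φ v = Set.rangeFactorization φ w := Subtype.ext h1
          show Function.surjInv _ _ = Function.surjInv _ _
          rw [this]
        rw [h3] at h2
        exact Subtype.ext (mul_left_cancel h2)
      calc Nat.card (V i ⊓ centralizer {y} : Subgroup G) ^ 2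
          ≤ (Nat.card (X i ⊓ centralizer {y} : Subgroup G) ^ 2) ^ 2 := Nat.pow_le_pow_left h3 2
        _ ≤ Nat.card (X i) ^ 2 := Nat.pow_le_pow_left h0 2
        _ ≤ Nat.card (V i) := h1

end Levels.Lvl

/-! ### Pattern A -/

/-- `U`, the product of the positive root groups. -/
def Up {L G : Type*} [Group G] (Φ : Set L) (lv : L → ℤ) (X : L → Subgroup G) : Subgroup G :=
  ⨆ a : L, ⨆ _ : a ∈ Φ ∧ 0 < lv a, X a

theorem N_Lev_one {L G : Type*} [Group G] {Φ : Set L} {lv : L → ℤ} (X : L → Subgroup G) :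
    Levels.N (Lev Φ lv X) 1 = Up Φ lv X := by
  apply le_antisymm
  · refine iSup₂_le fun i hi => iSup₂_le fun a ha => ?_
    exact le_iSup₂_of_le (f := fun a (_ : a ∈ Φ ∧ 0 < lv a) => X a) a ⟨ha.1, ha.2.1⟩ le_rfl
  · refine iSup₂_le fun a ha => ?_
    have h1 : lv a = ((lv a).toNat : ℤ) := (Int.toNat_of_nonneg ha.2.le).symm
    have h2 : X a ≤ Lev Φ lv X (lv a).toNat :=
      le_iSup₂_of_le (f := fun a' (_ : a' ∈ Φ ∧ 0 < lv a' ∧ lv a' = ((lv a).toNat : ℕ)) => X a') a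
        ⟨ha.1, ha.2, h1⟩ le_rfl
    exact h2.trans (Levels.le_N _ (by have := ha.2; omega))

/-- The Sylow group of `C_G(t)` with its part normalising the frame. -/
structure TD {L G : Type*} [Group G] (t : G) (T D U : Subgroup G) (Φ : Set L) (lv : L → ℤ) (X : L → Subgroup G) :
    Prop where
  T2 : IsPGroup 2 T
  tT : t ∈ T
  Tc : ∀ d ∈ T, d * t = t * d
  Tmax : ∀ P : Subgroup G, IsPGroup 2 P → T ≤ P → (∀ x ∈ P, x * t = t * x) → P ≤ T
  UT : U ≤ T
  ab : ∀ a ∈ T, ∀ b ∈ T, a * b * a⁻¹ * b⁻¹ ∈ U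
  DT : D ≤ T
  fac : ∀ v ∈ T, ∃ y ∈ D, ∃ x ∈ U, v = y * x
  DX : ∀ y ∈ D, ∀ a ∈ Φ, 0 < lv a → ∀ x ∈ X a, y * x * y⁻¹ ∈ X a
  fix : ∀ y ∈ D, y * y ∈ U → y ∉ U → t * y ∉ U → ∀ a ∈ Φ, 0 < lv a →
    Nat.card (X a ⊓ centralizer {y} : Subgroup G) ^ 2 ≤ Nat.card (X a)

namespace PatA

variable {L G : Type*} [AddCommGroup L] [Group G] [Finite G]
variable {t : G} {B : L → L → ℤ} {Φ : Set L} {X W : L → Subgroup G} {lv : L → ℤ} {M : ℕ}

/-- **Pattern A, END with an outer 2-part of field type.** -/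
theorem not_mem (h : PatA t B Φ X W) (h6 : Sixty B Φ W) (hlv : Level B Φ lv M)
    (hind : ∀ a ∈ Φ, 0 < lv a → ∀ x ∈ X a, x ∈ (⨆ b : L, ⨆ _ : b ∈ Φ ∧ lv a < lv b, X b) → x = 1)
    (ht : t ∉ Up Φ lv X) {r : L} (hr : r ∈ Φ) (hr0 : 0 < lv r) (hrr : B r r = 4) {T D : Subgroup G}
    (hT : TD t T D (Up Φ lv X) Φ lv X)
    (hDW : ∀ y ∈ D, ∀ s ∈ Φ, B s s = 2 → 0 < lv s → ∀ w ∈ W s, y * w * y⁻¹ ∈ W s) :
    t ∉ _root_.commutator G := by
  have R := h.roots
  have hL := h.lvl h6 hlv hind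
  have hU : Levels.N (Lev Φ lv X) 1 = Up Φ lv X := N_Lev_one X
  have hrn : lv r = ((lv r).toNat : ℤ) := (Int.toNat_of_nonneg hr0.le).symm
  obtain ⟨x₀, hx₀, hx₀1⟩ := h.Xne r hr
  refine hL.not_mem (h.up hlv) hT.T2 hT.tT hT.Tc hT.Tmax (by rw [hU]; exact hT.UT) (by rw [hU]; exact hT.ab)
    (by rw [hU]; exact ht) (j := (lv r).toNat) (by omega) ?_ (le_Lev X hr hr0 hrn hx₀) hx₀1 D hT.DT
    (by rw [hU]; exact hT.fac) ?_ ?_ ?_
  · intro v hv
    rcases mem_Lev hlv hv with rfl | ⟨a, ha, h0, hi, hv⟩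
    · exact one_mem _
    · have : r = a := hlv.inj r hr a ha hr0 (by rw [hi, ← hrn])
      subst this
      rw [Wt_long hrr] at hv
      exact le_Lev X hr hr0 hrn hv
  · intro y hy i v hv
    rcases mem_Lev hlv hv with rfl | ⟨a, ha, h0, hi, hv⟩
    · rw [mul_one, mul_inv_cancel]; exact one_mem _
    · refine le_Lev _ ha h0 hi ?_
      rcases R.norm a ha with h1 | h1
      · rw [Wt_short h1] at hv ⊢
        exact hDW y hy a ha h1 h0 v hv
      · rw [Wt_long h1] at hv ⊢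
        exact hT.DX y hy a ha h0 v hv
  · intro y hy hyy hy1 hy2 i hi
    rw [hU] at hyy hy1 hy2
    by_cases hex : ∃ a ∈ Φ, 0 < lv a ∧ lv a = i
    · obtain ⟨a, ha, h0, hia⟩ := hex
      have e : Lev Φ lv X i = X a := by
        apply le_antisymm
        · intro v hv
          rcases mem_Lev hlv hv with rfl | ⟨b, hb, hb0, hbi, hv⟩
          · exact one_mem _
          · have : a = b := hlv.inj a ha b hb h0 (hia.trans hbi.symm)
            subst this
            exact hv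
        · exact le_Lev X ha h0 hia
      rw [e]
      exact hT.fix y hy hyy hy1 hy2 a ha h0
    · have e : Lev Φ lv X i = ⊥ := by
        rw [eq_bot_iff]
        intro v hv
        rcases mem_Lev hlv hv with rfl | ⟨b, hb, hb0, hbi, hv⟩
        · exact one_mem _
        · exact absurd ⟨b, hb, hb0, hbi⟩ hex
      rw [e, bot_inf_eq, card_bot, one_pow]
  · intro x hx g hg
    rcases mem_Lev hlv hx with rfl | ⟨a, ha, h0, hi, hx⟩
    · rfl
    rcases h.roots.norm a ha with haa | haa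
    · rw [Xl_short haa] at hx
      exact mem_bot.1 hx
    rw [Xl_long haa] at hx
    exact h.NM a ha haa x hx g hg

end PatA

/-! ### F4(q) -/

section

open Model

variable {G : Type*} [Group G] [Finite G] {t : G} {X W : (Fin 4 → ℤ) → Subgroup G}

namespace Model

theorem exists_long : ∃ r ∈ rts, 0 < lv r ∧ B r r = 4 := by decide +kernel

end Model

/-- **Short moved, long not moved**: `t` is not in the commutator subgroup. -/
theorem not_mem_short (hK : KF t X) (hW : WS t X W)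
    (hNM : ∀ r ∈ rts, B r r = 4 → ∀ x ∈ X r, ∀ g : G, g⁻¹ * t * g = t * x → x = 1)
    (hbig : ∀ s ∈ rts, ∀ x ∈ X s, ∃ y ∈ X s, y ≠ 1 ∧ y ≠ x)
    (hind : ∀ a ∈ rts, 0 < lv a → ∀ x ∈ X a, x ∈ (⨆ b : Fin 4 → ℤ, ⨆ _ : b ∈ Phi ∧ lv a < lv b, X b) → x = 1)
    (ht : t ∉ Up Phi lv X) {T D : Subgroup G} (hT : TD t T D (Up Phi lv X) Phi lv X)
    (hDW : ∀ y ∈ D, ∀ s ∈ rts, B s s = 2 → 0 < lv s → ∀ w ∈ W s, y * w * y⁻¹ ∈ W s) :
    t ∉ _root_.commutator G := by
  have h := hK.patA hW hNM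
  obtain ⟨r, hr, hr0, hrr⟩ := exists_long
  exact h.not_mem (fun s hs s' hs' hss hss' h1 w hw u hu =>
    h.sixty_of_big (fun s hs _ => hbig s hs) hs hs' hss hss' h1 hw hu) level hind ht hr hr0 hrr hT hDW

/-- **Long moved, short not moved**: `t` is not in the commutator subgroup. -/
theorem not_mem_long (hK : KF t X) (hW : WL t X W)
    (hNM : ∀ r ∈ rts, B r r = 2 → ∀ x ∈ X r, ∀ g : G, g⁻¹ * t * g = t * x → x = 1)
    (hbig : ∀ s ∈ rts, ∀ x ∈ X s, ∃ y ∈ X s, y ≠ 1 ∧ y ≠ x)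
    (hind : ∀ a ∈ rts, 0 < lv a → ∀ x ∈ X (dual a),
      x ∈ (⨆ b : Fin 4 → ℤ, ⨆ _ : b ∈ Phi ∧ lv a < lv b, X (dual b)) → x = 1)
    (ht : t ∉ Up Phi lv X) {T D : Subgroup G} (hT : TD t T D (Up Phi lv X) Phi lv X)
    (hDW : ∀ y ∈ D, ∀ s ∈ rts, B s s = 4 → 0 < lv s → ∀ w ∈ W s, y * w * y⁻¹ ∈ W s) :
    t ∉ _root_.commutator G := by
  have h := hK.patA_dual hW hNM
  have hU : Up Phi lv (fun a => X (dual a)) = Up Phi lv X := sup_dual X
  obtain ⟨r, hr, hr0, hrr⟩ := exists_long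
  refine h.not_mem (fun s hs s' hs' hss hss' h1 w hw u hu =>
    h.sixty_of_big (fun s hs _ => hbig _ (dual_mem s hs)) hs hs' hss hss' h1 hw hu) level hind
    (by rw [hU]; exact ht) hr hr0 hrr (T := T) (D := D) ?_ ?_
  · rw [hU]
    exact { hT with
      DX := fun y hy a ha h0 => hT.DX y hy _ (dual_mem a ha) (dpos a ha h0)
      fix := fun y hy h1 h2 h3 a ha h0 => hT.fix y hy h1 h2 h3 _ (dual_mem a ha) (dpos a ha h0) }
  · intro y hy s hs hss h0
    exact hDW y hy _ (dual_mem s hs) (dn2 s hs hss) (dpos s hs h0)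

end

end Cfsg.Agent.OddHalf.D7F4
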