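import Cfsg.Agent.OddHalf.D7F4.RowO
import Cfsg.Agent.OddHalf.D7F4.KInst
import Cfsg.Agent.OddHalf.D7F4.FrOut
import Cfsg.Agent.OddHalf.D7F4Ex.KC
import Cfsg.Agent.OddHalf.D7F4Ex.Wsq

/-!
# K = F₄(q), q ≥ 4 even: exactly one of the two lengths is moved (S1765, node D7)

`O : FrO t f T g`, `D : Dbs ..` the doubled root groups of the moved length, the other length is not moved:
`t ∉ [G, G]` (`row_short`, `row_long`).

* `moved_conj`, `gra_moved` : no element of `C(t)` acts as a graph automorphism;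
* `nm_long`, `nm_short` : no root group of the length which is not moved is moved;
* `eqv_fld` : an element of `C(t)` acting as a field automorphism normalises the doubled root groups;
* `k2e_short`, `k2e_long`, `ws`, `wl` : the structures `WS`, `WL`.
-/

set_option autoImplicit false
set_option Elab.async false
set_option linter.unusedSectionVars false

namespace Cfsg.Agent.OddHalf.D7F4.RowOne

open Subgroup Cfsg.Lie
open Cfsg.Agent.ChevalleyStructure Cfsg.Agent.ChevalleyStructure.Elts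
open Cfsg.Agent.KFacts.ChevTwoTab Cfsg.Agent.KFacts.ChevTwoInst Cfsg.Agent.KFacts.F4Pair
  Cfsg.Agent.KFacts.F4Torus Cfsg.Agent.KFacts.F4Cent
open Cfsg.Agent.OddHalf.D7F4 Cfsg.Agent.OddHalf.D7F4.Model Cfsg.Agent.OddHalf.D7F4.FrOut
  Cfsg.Agent.OddHalf.D7F4.Fusion Cfsg.Agent.OddHalf.D7F4.Adapted Cfsg.Agent.OddHalf.D7F4.KFront
  Cfsg.Agent.OddHalf.D7F4Ex

universe u

/-! ### Groups -/

section Grp

variable {G : Type*} [Group G]

theorem moved_conj {t d : G} {X Y : Subgroup G} (hd : d * t = t * d) (h1 : ∀ x ∈ X, d * x * d⁻¹ ∈ Y)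
    (h2 : ∀ y ∈ Y, d⁻¹ * y * d ∈ X) (h : Moved t X) : Moved t Y := by
  obtain ⟨n, a1, a2, a3, a4⟩ := h
  have e1 : d⁻¹ * t * d = t := by rw [mul_assoc, ← hd, inv_mul_cancel_left]
  refine ⟨d * n * d⁻¹, ?_, ?_, ?_, ?_⟩
  · intro y hy
    have h3 := h1 _ (a1 _ (h2 y hy))
    have e : d * (n * (d⁻¹ * y * d) * n⁻¹) * d⁻¹ = d * n * d⁻¹ * y * (d * n * d⁻¹)⁻¹ := by group
    rwa [e] at h3
  · intro y hy
    have h3 := h1 _ (a2 _ (h2 y hy))
    have e : d * (n⁻¹ * (d⁻¹ * y * d) * n) * d⁻¹ = (d * n * d⁻¹)⁻¹ * y * (d * n * d⁻¹) := by group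
    rwa [e] at h3
  · have h3 := h1 _ a3
    have e : d * (t * (n * t * n⁻¹)) * d⁻¹ = t * (d * n * d⁻¹ * t * (d * n * d⁻¹)⁻¹) := by
      calc d * (t * (n * t * n⁻¹)) * d⁻¹ = (d * t) * (n * t * n⁻¹) * d⁻¹ := by group
        _ = t * (d * n * t * n⁻¹ * d⁻¹) := by rw [hd]; group
        _ = t * (d * n * (d⁻¹ * t * d) * n⁻¹ * d⁻¹) := by rw [e1]
        _ = _ := by group
    rwa [e] at h3
  · intro h3
    apply a4
    calc n * t * n⁻¹ = n * (d⁻¹ * t * d) * n⁻¹ := by rw [e1]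
      _ = d⁻¹ * (d * n * d⁻¹ * t * (d * n * d⁻¹)⁻¹) * d := by group
      _ = d⁻¹ * t * d := by rw [h3]
      _ = t := e1

theorem conj_closure {S : Set G} {k : G} (h1 : ∀ x ∈ S, k * x * k⁻¹ ∈ S) (h2 : ∀ x ∈ S, k⁻¹ * x * k ∈ S) (x : G) :
    x ∈ closure S ↔ k * x * k⁻¹ ∈ closure S := by
  have key : ∀ k : G, (∀ x ∈ S, k * x * k⁻¹ ∈ S) → ∀ x ∈ closure S, k * x * k⁻¹ ∈ closure S := by
    intro k h x hx
    have h3 : closure S ≤ (closure S).comap (MulAut.conj k).toMonoidHom := by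
      rw [closure_le]
      intro y hy
      exact subset_closure (h y hy)
    exact h3 hx
  constructor
  · exact key k h1 x
  · intro h
    have h3 := key k⁻¹ (by rw [inv_inv]; exact h2) _ h
    have e : k⁻¹ * (k * x * k⁻¹) * k⁻¹⁻¹ = x := by group
    rwa [e] at h3

end Grp

variable {G : Type*} [Group G] {F : Type u} [Field F] {f : ↥(chevF4.group F) →* G} {t g : G}

/-! ### Moved root groups -/

section Moved

variable [Finite F] [CharP F 2]

/-- A graph automorphism interchanges the moved lengths. -/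
theorem gra_moved {d : G} {φ : F ≃+* F} (hd : d * t = t * d) (h : Gra f d φ) :
    Moved t (XG f Lead.ρ) ↔ Moved t (XG f Lead.σ) := by
  have tab : B Lead.ρ Lead.ρ = 4 ∧ dual Lead.ρ = Lead.σ := by decide +kernel
  have h1 : ∀ x ∈ XG f Lead.ρ, d * x * d⁻¹ ∈ XG f Lead.σ := by
    intro x hx
    obtain ⟨u, rfl⟩ := (mem_XG Lead.ρ_mem).1 hx
    rw [h.1 _ Lead.ρ_mem tab.1, tab.2]
    exact (mem_XG Lead.σ_mem).2 ⟨_, rfl⟩
  have h2 : ∀ y ∈ XG f Lead.σ, d⁻¹ * y * d ∈ XG f Lead.ρ := by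
    intro y hy
    obtain ⟨u, rfl⟩ := (mem_XG Lead.σ_mem).1 hy
    have h3 := h.1 _ Lead.ρ_mem tab.1 (φ.symm u)
    rw [tab.2, RingEquiv.apply_symm_apply] at h3
    rw [← h3]
    have e : d⁻¹ * (d * f (eF F Lead.ρ (φ.symm u)) * d⁻¹) * d = f (eF F Lead.ρ (φ.symm u)) := by group
    rw [e]
    exact (mem_XG Lead.ρ_mem).2 ⟨_, rfl⟩
  refine ⟨moved_conj hd h1 h2, moved_conj (d := d⁻¹) ?_ (by rw [inv_inv]; exact h2) (by rw [inv_inv]; exact h1)⟩
  rw [inv_mul_eq_iff_eq_mul, ← mul_assoc, hd, mul_inv_cancel_right]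

theorem t_long : ∀ r ∈ rts, B r r = 4 → ∃ a ∈ rts, ∃ b ∈ rts, rfl' b r ∈ rts ∧ rfl' a (rfl' b r) = Lead.ρ := by
  decide +kernel

theorem t_short : ∀ r ∈ rts, B r r = 2 → ∃ a ∈ rts, ∃ b ∈ rts, rfl' b r ∈ rts ∧ rfl' a (rfl' b r) = Lead.σ := by
  decide +kernel

theorem nm_of (hq : ∃ μ : Fˣ, μ ≠ 1) (R : Frame t f) {r r₀ : Fin 4 → ℤ} (hr : r ∈ rts) (hr₀ : r₀ ∈ rts)
    (h : ∃ a ∈ rts, ∃ b ∈ rts, rfl' b r ∈ rts ∧ rfl' a (rfl' b r) = r₀)
    (hNM : ∀ g : G, ∀ x ∈ XG f r₀, g⁻¹ * t * g = t * x → x = 1) :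
    ∀ x ∈ XG f r, ∀ g : G, g⁻¹ * t * g = t * x → x = 1 := by
  intro x hx g hg
  obtain ⟨a, ha, b, hb, hm, h0⟩ := h
  obtain ⟨u, rfl⟩ := (mem_XG hr).1 hx
  have C := chartY (F := F) hq
  obtain ⟨n, hn⟩ : ∃ n : ↥(chevF4.group F), n = nE (eF F) a * nE (eF F) b := ⟨_, rfl⟩
  have e1 : n * eF F r u * n⁻¹ = eF F r₀ u := by
    have e0 : nE (eF F) a * nE (eF F) b * eF F r u * (nE (eF F) a * nE (eF F) b)⁻¹ =
        nE (eF F) a * (nE (eF F) b * eF F r u * (nE (eF F) b)⁻¹) * (nE (eF F) a)⁻¹ := by group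
    rw [hn, e0, C.nrf b hb r hr, C.nrf a ha _ hm, h0]
  have e2 : f n * f (eF F r u) * (f n)⁻¹ = f (eF F r₀ u) := by rw [← e1, map_mul, map_mul, map_inv]
  have h1 := hNM (g * (f n)⁻¹) _ ((mem_XG hr₀).2 ⟨u, rfl⟩) (by
    rw [← e2]
    calc (g * (f n)⁻¹)⁻¹ * t * (g * (f n)⁻¹) = f n * (g⁻¹ * t * g) * (f n)⁻¹ := by group
      _ = (f n * t) * f (eF F r u) * (f n)⁻¹ := by rw [hg]; group
      _ = _ := by rw [R.ft]; group)
  rw [← e2] at h1
  calc f (eF F r u) = (f n)⁻¹ * (f n * f (eF F r u) * (f n)⁻¹) * f n := by group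
    _ = 1 := by rw [h1]; group

theorem v47 : v 47 = Lead.ρ := by rw [KBridge.vv_eq]; decide +kernel
theorem v44 : v 44 = Lead.σ := by rw [KBridge.vv_eq]; decide +kernel

theorem exists_unit (hF : 2 < Nat.card F) : ∃ μ : Fˣ, μ ≠ 1 := by
  classical
  have := Fintype.ofFinite F
  obtain ⟨c, hc⟩ : ∃ c : F, c ∉ ({0, 1} : Finset F) := by
    by_contra hcon
    push Not at hcon
    have h1 : (Finset.univ : Finset F) ⊆ {0, 1} := fun x _ => hcon x
    have h2 := Finset.card_le_card h1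
    rw [Finset.card_univ, ← Nat.card_eq_fintype_card] at h2
    have h3 : ({0, 1} : Finset F).card ≤ 2 := Finset.card_le_two
    omega
  rw [Finset.mem_insert, Finset.mem_singleton, not_or] at hc
  exact ⟨Units.mk0 c hc.1, fun h => hc.2 (by have := congrArg Units.val h; simpa using this)⟩

theorem exists_ne (hF : 2 < Nat.card F) : ∃ c : F, c ≠ 0 ∧ c ≠ 1 := by
  obtain ⟨μ, hμ⟩ := exists_unit hF
  exact ⟨μ, μ.ne_zero, fun h => hμ (Units.ext h)⟩

theorem nm_long [Finite G] (hF : 2 < Nat.card F) (R : Frame t f) (hn : ¬ Moved t (XG f (v 47))) :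
    ∀ r ∈ rts, B r r = 4 → ∀ x ∈ XG f r, ∀ g : G, g⁻¹ * t * g = t * x → x = 1 := by
  intro r hr h
  have h1 := (R.moved_or1 hF).resolve_left hn
  rw [v47] at h1
  exact nm_of (exists_unit hF) R hr Lead.ρ_mem (t_long r hr h) h1

theorem nm_short [Finite G] (hF : 2 < Nat.card F) (R : Frame t f) (hn : ¬ Moved t (XG f (v 44))) :
    ∀ r ∈ rts, B r r = 2 → ∀ x ∈ XG f r, ∀ g : G, g⁻¹ * t * g = t * x → x = 1 := by
  intro r hr h
  have h1 := (R.moved_or2 hF).resolve_left hn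
  rw [v44] at h1
  exact nm_of (exists_unit hF) R hr Lead.σ_mem (t_short r hr h) h1

end Moved

/-! ### Field automorphisms -/

section Fld

variable {E : (Fin 4 → ℤ) → F → ↥(chevF4.group F)} {T : (Fin 4 → Fˣ) →* ↥(chevF4.group F)}

theorem one_of_comm (C : KC E T) {y : ↥(chevF4.group F)} (h : ∀ a ∈ rts, ∀ u, y * E a u = E a u * y) : y = 1 := by
  obtain ⟨m1, b1, b0, -, hne⟩ := Wsq.t_s1
  obtain ⟨u, hu⟩ := C.cent s0 s0_mem b0 y fun a ha _ v => h a ha v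
  obtain ⟨v, hv⟩ := C.cent Wsq.s1 m1 b1 y fun a ha _ v => h a ha v
  have h1 := C.chart.sep _ s0_mem _ m1 hne u v (hu.trans hv.symm)
  rw [← hv, h1, C.chart.zero m1]

/-- the torus element `φ ∘ ν` -/
def mapU (φ : F ≃+* F) (ν : Fin 4 → Fˣ) : Fin 4 → Fˣ := fun i => Units.map (φ : F →* F) (ν i)

theorem chd_mapU (φ : F ≃+* F) (ν : Fin 4 → Fˣ) (a : Fin 4 → ℤ) :
    ((chd (mapU φ ν) a : Fˣ) : F) = φ (chd ν a : Fˣ) := by
  have h : chd (mapU φ ν) a = Units.map (φ : F →* F) (chd ν a) := by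
    unfold chd mapU
    rw [map_prod]
    refine Finset.prod_congr rfl fun i _ => ?_
    rw [map_zpow]
  rw [h]
  rfl

theorem conj_T (C : KC E T) (R : Frame t f) {y : G} (hy : y * t = t * y) {φ : F ≃+* F}
    (h : ∀ a ∈ rts, ∀ u, y * f (E a u) * y⁻¹ = f (E a (φ u))) (ν : Fin 4 → Fˣ) :
    y * f (T ν) * y⁻¹ = f (T (mapU φ ν)) := by
  obtain ⟨y', hy'⟩ := R.nK y hy (T ν)
  have h2 : ∀ a ∈ rts, ∀ u, y' * E a u * y'⁻¹ = E a (((chd (mapU φ ν) a : Fˣ) : F) * u) := by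
    intro a ha u
    apply R.inj
    have h3 := h a ha (φ.symm u)
    rw [RingEquiv.apply_symm_apply] at h3
    rw [map_mul, map_mul, map_inv, ← hy', ← h3]
    calc y * f (T ν) * y⁻¹ * (y * f (E a (φ.symm u)) * y⁻¹) * (y * f (T ν) * y⁻¹)⁻¹
        = y * (f (T ν) * f (E a (φ.symm u)) * (f (T ν))⁻¹) * y⁻¹ := by group
      _ = y * f (T ν * E a (φ.symm u) * (T ν)⁻¹) * y⁻¹ := by rw [map_mul, map_mul, map_inv]
      _ = f (E a (((chd (mapU φ ν) a : Fˣ) : F) * u)) := by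
        rw [C.chart.tor a ha, h a ha, map_mul, RingEquiv.apply_symm_apply, chd_mapU]
  have h4 : (T (mapU φ ν))⁻¹ * y' = 1 := one_of_comm C fun a ha u => by
    have h5 := h2 a ha u
    rw [← C.chart.tor a ha] at h5
    have h6 : y' * E a u = T (mapU φ ν) * E a u * (T (mapU φ ν))⁻¹ * y' := by rw [← h5]; group
    rw [mul_assoc, h6]; group
  rw [hy', ← inv_mul_eq_one.1 h4]

/-- **An element of `C(t)` acting as a field automorphism normalises the doubled root groups.** -/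
theorem eqv_fld (C : KC E T) (R : Frame t f) {W : (Fin 4 → ℤ) → Subgroup G} {κ c0 : F}
    (D : Dbs t (fun a u => f (E a u)) (f.comp T) W κ c0) {y : G} (hy : y * t = t * y) {φ : F ≃+* F}
    (h : ∀ a ∈ rts, ∀ u, y * f (E a u) * y⁻¹ = f (E a (φ u))) :
    ∀ s ∈ rts, B s s = 2 → ∀ w ∈ W s, y * w * y⁻¹ ∈ W s := by
  intro s hs hB w hw
  have hy' : y⁻¹ * t = t * y⁻¹ := by rw [inv_mul_eq_iff_eq_mul, ← mul_assoc, hy, mul_inv_cancel_right]
  have h' : ∀ a ∈ rts, ∀ u, y⁻¹ * f (E a u) * y⁻¹⁻¹ = f (E a (φ.symm u)) := by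
    intro a ha u
    have h3 := h a ha (φ.symm u)
    rw [RingEquiv.apply_symm_apply] at h3
    rw [← h3]; group
  have hT := conj_T C R hy h
  have hT' := conj_T C R hy' h'
  have e1 : ∀ u : Fˣ, ((u : Fˣ) : F) = 1 → u = 1 := fun u hu => Units.ext hu
  refine D.eqv s hs hB s hs hB y hy (fun ν => ⟨mapU φ ν, hT ν⟩) ?_ ?_ w hw
  · intro x
    refine conj_closure ?_ ?_ x
    · rintro _ ⟨u, rfl⟩
      exact ⟨φ u, (h s hs u).symm⟩
    · rintro _ ⟨u, rfl⟩
      refine ⟨φ.symm u, ?_⟩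
      have h3 := h' s hs u
      rw [inv_inv] at h3
      exact h3.symm
  · intro x
    refine conj_closure ?_ ?_ x
    · rintro _ (⟨a, ha, hc, u, rfl⟩ | ⟨ν, hc, rfl⟩)
      · exact Or.inl ⟨a, ha, hc, φ u, (h a ha u).symm⟩
      · refine Or.inr ⟨mapU φ ν, ?_, (hT ν).symm⟩
        apply e1
        rw [chd_mapU, hc, Units.val_one, map_one]
    · rintro _ (⟨a, ha, hc, u, rfl⟩ | ⟨ν, hc, rfl⟩)
      · refine Or.inl ⟨a, ha, hc, φ.symm u, ?_⟩
        have h3 := h' a ha u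
        rw [inv_inv] at h3
        exact h3.symm
      · refine Or.inr ⟨mapU φ.symm ν, ?_, ?_⟩
        · apply e1
          rw [chd_mapU, hc, Units.val_one, map_one]
        · have h3 := hT' ν
          rw [inv_inv] at h3
          exact h3.symm

end Fld

/-! ### The rows -/

section Rows

variable [Finite F] [CharP F 2] {T : Subgroup G}

/-- an element of `D` acts as a field automorphism if exactly one length is moved -/
theorem fld_of [Finite G] (O : FrO t f T g) (hne : ¬ (Moved t (XG f Lead.ρ) ↔ Moved t (XG f Lead.σ))) {y : G}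
    (hy : y ∈ O.D) : ∃ φ, Fld f y φ := by
  rcases O.acts_D hy with h | ⟨φ, h⟩
  · exact h
  · exact absurd (gra_moved (O.Tc y (O.D_le hy)) h) hne

theorem closure_le_D (O : FrO t f T g) : closure ({t, g} : Set G) ≤ O.D := by
  rw [closure_le]
  rintro y (rfl | rfl)
  · exact O.t_mem_D
  · exact ⟨1, Or.inl (zpow_one _).symm⟩

theorem D_le_closure (O : FrO t f T g) {y : G} (hy : y ∈ O.D) : y ∈ closure ({t, g} : Set G) := by
  have ht : t ∈ closure ({t, g} : Set G) := subset_closure (Or.inl rfl)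
  have hg : g ∈ closure ({t, g} : Set G) := subset_closure (Or.inr rfl)
  obtain ⟨n, rfl | rfl⟩ := hy
  · exact zpow_mem hg n
  · exact mul_mem ht (zpow_mem hg n)

theorem td [Finite G] (O : FrO t f T g) (hne : ¬ (Moved t (XG f Lead.ρ) ↔ Moved t (XG f Lead.σ))) :
    TD t T (closure ({t, g} : Set G)) (Up Phi lv (XG f)) Phi lv (XG f) := by
  obtain ⟨φ, hφ⟩ := fld_of O hne (y := g) ⟨1, Or.inl (zpow_one _).symm⟩
  have hU : (UK F).map f = Up Phi lv (XG f) := FrO.map_UK f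
  refine O.R.td O.T2 O.tT O.Tc O.Tmax (by rw [← hU]; exact O.UT) O.gT φ (fun _ => 1) (fun _ _ => one_ne_zero) ?_ ?_
  · intro a ha c
    rw [one_mul, one_mul]
    exact hφ a ha c
  · intro x hx
    obtain ⟨d, hd, u, hu, e⟩ := O.fac x hx
    exact ⟨d, D_le_closure O hd, u, by rw [← hU]; exact hu, e⟩

/-- **Short moved, long not moved.** -/
theorem row_short [Finite G] (hF : 2 < Nat.card F) (O : FrO t f T g) {W : (Fin 4 → ℤ) → Subgroup G} {κ c0 : F}
    (D : Dbs t (fun a u => f (eF F a u)) (f.comp TH) W κ c0) (hW : WS t (XG f) W)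
    (hm : Moved t (XG f (v 44))) (hn : ¬ Moved t (XG f (v 47))) : t ∉ _root_.commutator G := by
  have hne : ¬ (Moved t (XG f Lead.ρ) ↔ Moved t (XG f Lead.σ)) := by
    rw [← v47, ← v44]
    exact fun h => hn (h.2 hm)
  have C := kc_short (F := F) (exists_unit hF)
  refine O.R.not_mem_short (exists_ne hF) (KInst.kf O.R KInst.innerX hF) hW (nm_long hF O.R hn) (td O hne) ?_
  intro y hy s hs h2 _ w hw
  have hyD := closure_le_D O hy
  obtain ⟨φ, hφ⟩ := fld_of O hne hyD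
  exact eqv_fld C O.R D (O.Tc y (O.D_le hyD)) hφ s hs h2 w hw

/-- **Long moved, short not moved.** -/
theorem row_long [Finite G] (hF : 2 < Nat.card F) (O : FrO t f T g) (rt : F ≃+* F) (hrt : ∀ u, rt u ^ 2 = u)
    {W : (Fin 4 → ℤ) → Subgroup G} {κ c0 : F}
    (D : Dbs t (fun a u => f (dualE rt (eF F) a u)) (f.comp (TH.comp (dualH rt))) W κ c0)
    (hW : WL t (XG f) (fun a => W (dual a)))
    (hm : Moved t (XG f (v 47))) (hn : ¬ Moved t (XG f (v 44))) : t ∉ _root_.commutator G := by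
  have hne : ¬ (Moved t (XG f Lead.ρ) ↔ Moved t (XG f Lead.σ)) := by
    rw [← v47, ← v44]
    exact fun h => hn (h.1 hm)
  have C := kc_long (F := F) (exists_unit hF) rt hrt
  refine O.R.not_mem_long (exists_ne hF) (KInst.kf O.R KInst.innerX hF) hW (nm_short hF O.R hn) (td O hne) ?_
  intro y hy s hs h4 _ w hw
  have hyD := closure_le_D O hy
  obtain ⟨φ, hφ⟩ := fld_of O hne hyD
  refine eqv_fld C O.R D (O.Tc y (O.D_le hyD)) (φ := φ) ?_ _ (dual_mem s hs) (dn4 s hs h4) w hw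
  intro a ha u
  have hc : φ (rt u) = rt (φ u) := by
    rw [← rt_sq rt hrt (φ (rt u)), ← map_pow, hrt]
  rcases k_norm a ha with ⟨h, -⟩ | ⟨h, -⟩
  · rw [dualE_short rt h, dualE_short rt h]
    exact hφ _ (dual_mem a ha) u
  · rw [dualE_long rt h, dualE_long rt h, ← hc]
    exact hφ _ (dual_mem a ha) _

end Rows

end Cfsg.Agent.OddHalf.D7F4.RowOne
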