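import Cfsg.Agent.OddHalf.D7F4.FrontF4
import Cfsg.Agent.KFacts.RgdGraphF4
import Cfsg.Agent.Schreier.Chev
import Cfsg.Agent.OddHalf.Front.FE
import Cfsg.Agent.OddHalf.D7.Cases

/-!
# `K = F₄(q)`, `q ≥ 4` even: the starting position (ODD D7; helper588)

`exists_start` : `Ctx G`, `Std G K`, `Cyc K`, `K ≅ F₄(F)`, `|F| > 2` even, give `Start t f T`: a frame `f : F₄(F) →* G`
with image `K`, a Sylow 2-subgroup `T` of `C_G(t)` with `T ∩ K = f U`, `T = ⟨g, t⟩ f U` for some `g` inducing a frame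
automorphism `β` of `F₄(F)`, and `X_ρ` or `X_σ` is moved.
-/

set_option autoImplicit false
set_option Elab.async false
set_option linter.unusedSectionVars false

namespace Cfsg.Agent.OddHalf.D7F4.StartF4

open CoxeterSystem Cfsg.Agent.ChevalleyStructure.CoxeterGeom Cfsg.Agent.Tits.Roots Cfsg.Agent.Tits.Core
open Cfsg.Lie Cfsg.Agent.ChevalleyStructure Cfsg.Agent.ChevalleyStructure.Elts
  Cfsg.Agent.ChevalleyStructure.RootVec Cfsg.Agent.ChevalleyStructure.CoxeterGeomTypes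
open Cfsg.Agent.Nodes Cfsg.Agent.Nodes.Reps Cfsg.Agent.Nodes.BNOf Cfsg.Agent.Nodes.RGDChev Cfsg.Agent.Nodes.Coroot
  Cfsg.Agent.Nodes.KindF Cfsg.Agent.KFacts.F4Star Cfsg.Agent.KFacts.F4Cent Cfsg.Agent.KFacts.F4Pair
open Cfsg.Agent.OddHalf.D7F4.KFront Cfsg.Agent.OddHalf.D7F4.Fusion Cfsg.Agent.OddHalf.Iface
open Cfsg.Agent.OddHalf.D7.Cases
open scoped commutatorElement

universe u v

variable {G : Type u} [Group G] {F : Type v} [Field F] [Finite F] [CharP F 2]

/-- The starting position. -/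
structure Start (t : G) (f : ↥(chevF4.group F) →* G) (T : Subgroup G) : Prop where
  frame : Frame t f
  fr : D7Out.Defs.Fr t t f.range ((UK F).map f) ((ZK F).map f) T
  /-- the outer part of `T` -/
  gen : ∃ g ∈ T, ∃ β ∈ KFacts.RgdRigid.Frame c4 isType.isCartan (XF F), (∀ y, f (β y) = g * f y * g⁻¹) ∧
    (∃ k : ℕ, β ^ 2 ^ k = 1) ∧ ∀ s ∈ T, ∃ m : ℤ, ∃ u ∈ UK F, s = f u * g ^ m ∨ s = t * (f u * g ^ m)
  swap : ∃ n ∈ Subgroup.normalizer (T : Set G), ∃ z ∈ ZK F, z ≠ 1 ∧ (∀ x ∈ T, x * f z = f z * x) ∧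
    n * t * n⁻¹ = t * f z
  moved : Moved t (XG f (v 47)) ∨ Moved t (XG f (v 44))

theorem mem_normalizer_of {G : Type u} [Group G] {T P : Subgroup G} (h : ∀ x ∈ T, ∀ p ∈ P, x * p * x⁻¹ ∈ P) :
    T ≤ Subgroup.normalizer (P : Set G) := by
  intro x hx
  have hx' : x⁻¹ ∈ T := T.inv_mem hx
  rw [Subgroup.mem_normalizer_iff]
  intro p
  refine ⟨h x hx p, fun hp => ?_⟩
  have h1 := h x⁻¹ hx' _ hp
  have e : x⁻¹ * (x * p * x⁻¹) * x⁻¹⁻¹ = p := by group
  rwa [e] at h1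

/-- the outer part, for any cyclic `C(K) ∩ C(t) = ⟨v⟩` -/
theorem exists_gen [Finite G] {K : Subgroup G} {t w : G} {f : ↥(chevF4.group F) →* G} (hf : Function.Injective f)
    (hfK : f.range = K) {Z T : Subgroup G} (E : D7Out.Defs.Fr t w K ((UK F).map f) Z T) :
    ∃ g ∈ T, ∃ β ∈ KFacts.RgdRigid.Frame c4 isType.isCartan (XF F), (∀ y, f (β y) = g * f y * g⁻¹) ∧
      (∃ k : ℕ, β ^ 2 ^ k = 1) ∧
      ∀ s ∈ T, ∃ m : ℤ, ∃ u ∈ UK F, ∃ r ∈ Subgroup.zpowers w, s = f u * r * g ^ m := by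
  have hKn : ∀ x ∈ T, ∀ p ∈ K, x * p * x⁻¹ ∈ K := fun x hx p hp =>
    (Subgroup.mem_normalizer_iff.1 (E.nK x (E.tc x hx)) p).1 hp
  have hUT : (UK F).map f ≤ T := by
    rw [E.U_eq]; exact inf_le_left
  obtain ⟨g, hg, β, hβ, h1, h2, h3⟩ := KFacts.RgdGraphF4.gen_F4 (K := F) c4 f hf (S := T) E.pT
    (by rw [hfK]; exact mem_normalizer_of hKn)
    (mem_normalizer_of fun x hx p hp => by
      have hp' := hp
      rw [E.U_eq] at hp' ⊢
      exact ⟨T.mul_mem (T.mul_mem hx hp'.1) (T.inv_mem hx), hKn x hx p hp'.2⟩)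
    hUT
  refine ⟨g, hg, β, hβ, h1, h2, fun s hs => ?_⟩
  obtain ⟨m, u, hu, c, hc, hcK, e⟩ := h3 s hs
  refine ⟨m, u, hu, c, E.cK c (E.tc c hc) fun x hx => ?_, e⟩
  rw [← hfK] at hx
  obtain ⟨y, rfl⟩ := hx
  exact (hcK y).symm

theorem hcyc [Finite G] {K : Subgroup G} {t w : G} {f : ↥(chevF4.group F) →* G} (hf : Function.Injective f)
    (hfK : f.range = K) {Z T : Subgroup G} (E : D7Out.Defs.Fr t w K ((UK F).map f) Z T) :
    ∃ s ∈ T, ∀ x ∈ T, ∃ k : ℤ, ∃ r ∈ Subgroup.zpowers w, ∃ u ∈ (UK F).map f, x = s ^ k * r * u := by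
  obtain ⟨g, hg, -, -, -, -, h3⟩ := exists_gen hf hfK E
  refine ⟨g, hg, fun x hx => ?_⟩
  obtain ⟨m, u, hu, r, hr, e⟩ := h3 x⁻¹ (inv_mem hx)
  refine ⟨-m, r⁻¹, inv_mem hr, (f u)⁻¹, inv_mem ⟨u, hu, rfl⟩, ?_⟩
  rw [← inv_inv x, e]; group

/-- **The start**, from the starting position of the nodes. -/
theorem start_of [Finite G] (hG : commutator G = ⊤) {K : Subgroup G} {t w : G} (S : Front.FE.Start K t w)
    (e : ↥(chevF4.group F) ≃* ↥K) (hF : 2 < Nat.card F) :
    ∃ (f : ↥(chevF4.group F) →* G) (T : Subgroup G), f.range = K ∧ Start t f T := by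
  have hsK := S.simple
  have hsF : IsSimpleGroup ↥(chevF4.group F) := e.isSimpleGroup
  have hs : Schreier.Basic.Sch ↥K := Schreier.Chev.sch_of_equiv (Schreier.Chev.sch_f4 F) ⟨e.symm⟩
  have F0 := (kf0 (K := F) hF).map e
  obtain ⟨T, E⟩ := D7Out.FrGen.fr0 S F0 hs
  set f : ↥(chevF4.group F) →* G := K.subtype.comp e.toMonoidHom with hf
  have hfi : Function.Injective f := K.subtype_injective.comp e.injective
  have hfK : f.range = K := by
    rw [hf, MonoidHom.range_comp, MonoidHom.range_eq_top.2 e.surjective, ← MonoidHom.range_eq_map, Subgroup.range_subtype]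
  rw [Subgroup.map_map, Subgroup.map_map] at E
  obtain ⟨hm, hR⟩ := FusionOut.front hG E (hcyc hfi hfK E)
  have hft : ∀ y, f y * t = t * f y := fun y => S.toStart0.Kt (f y) (by rw [← hfK]; exact ⟨y, rfl⟩)
  have hwt : w = t ∨ w = 1 := (hR w (Subgroup.mem_zpowers w)).symm
  have hwt' : w = t := by
    rcases hwt with h | h
    · exact h
    · exfalso
      have h1 := S.tQ
      rw [h, Subgroup.zpowers_one_eq_bot, Subgroup.mem_bot] at h1
      exact S.t1 h1
  subst hwt'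
  have hframe : Frame w f :=
    { tt := S.tt
      t1 := S.t1
      inj := hfi
      ft := hft
      nK := by
        intro g hg y
        have h1 := (Subgroup.mem_normalizer_iff.1 (S.nK g hg) (f y)).1 (by rw [← hfK]; exact ⟨y, rfl⟩)
        rw [← hfK] at h1
        obtain ⟨y', hy'⟩ := h1
        exact ⟨y', hy'.symm⟩
      cK := by
        intro g hg hgy
        refine hR g (S.cK g hg fun x hx => ?_)
        rw [← hfK] at hx
        obtain ⟨y, rfl⟩ := hx
        exact (hgy y).symm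
      perf := by
        intro L hLt hL
        rw [hfK]
        exact D7Out.FrGen.perf_le S.toStart0 hs hLt hL }
  obtain ⟨n, hn, z, hz, hz1, hzT, hnz⟩ := hm
  obtain ⟨z, hzZ, rfl⟩ := hz
  have hz1' : z ≠ 1 := fun h => hz1 (by rw [h, map_one])
  refine ⟨f, T, hfK, hframe, ?_, ?_, ⟨n, hn, z, hzZ, hz1', hzT, hnz⟩, ?_⟩
  · rw [hfK]; exact E
  · obtain ⟨g, hg, β, hβ, h1, h2, h3⟩ := exists_gen hfi hfK E
    refine ⟨g, hg, β, hβ, h1, h2, fun s hs => ?_⟩
    obtain ⟨m, u, hu, r, hr, e⟩ := h3 s hs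
    refine ⟨m, u, hu, ?_⟩
    rcases hR r hr with rfl | rfl
    · left; rw [e, mul_one]
    · right; rw [e, hft, mul_assoc]
  · exact hframe.exists_moved hF (g := n⁻¹) hzZ hz1' (by rw [inv_inv]; exact hnz)

/-- **The start**, from the interface of the nodes. -/
theorem exists_start (C : Ctx G) {K : Subgroup G} (S : Std G K) (hcyc : Cyc K)
    (e : Nonempty (↥K ≃* ↥(chevF4.group F))) (hF : 2 < Nat.card F) :
    ∃ (t : G) (f : ↥(chevF4.group F) →* G) (T : Subgroup G), f.range = K ∧ Front.FE.Start K t t ∧ Start t f T := by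
  have := C.fin
  obtain ⟨e⟩ := e
  have hc : Subgroup.center ↥(chevF4.group F) = ⊥ := S1077.center_group_eq_bot isType.inList
  have hcen : Subgroup.center ↥K = ⊥ := by
    rw [Subgroup.eq_bot_iff_forall] at hc ⊢
    intro x hx
    have h1 := hc (e x) (Subgroup.mem_center_iff.2 fun y => by
      obtain ⟨y, rfl⟩ := e.surjective y
      rw [← map_mul, ← map_mul, Subgroup.mem_center_iff.1 hx y])
    exact e.injective (by rw [h1, map_one])
  obtain ⟨t, w, hS⟩ := Front.FE.exists_start C S hcyc hcen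
  obtain ⟨f, T, hfK, h⟩ := start_of (Front.FE.commutator_eq_top C) hS e.symm hF
  refine ⟨t, f, T, hfK, ?_, h⟩
  have hwt : w = t := by
    have h1 := h.frame.cK w (hS.Qt w (Subgroup.mem_zpowers w)) fun y =>
      (hS.qK (f y) (by rw [← hfK]; exact ⟨y, rfl⟩)).symm
    rcases h1 with h1 | h1
    · exfalso
      have h2 := hS.tQ
      rw [h1, Subgroup.zpowers_one_eq_bot, Subgroup.mem_bot] at h2
      exact hS.t1 h2
    · exact h1
  rw [hwt] at hS
  exact hS

/-- **The row K = F₄(q)**, reduced to the starting position. -/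
theorem node_of (h : ∀ (G : Type u) [Group G] [Finite G] (F : Type) [Field F] [Finite F] [CharP F 2],
      2 < Nat.card F → commutator G = ⊤ → Ctx G → ∀ (t : G) (f : ↥(chevF4.group F) →* G) (T : Subgroup G),
      Front.FE.Start f.range t t → Start t f T → False) :
    Node.{u} @FamF4'.{u} := by
  intro G _ C K S c hK
  obtain ⟨F, _, _, a, ha, hF, e⟩ := hK
  have hch : CharP F 2 := by
    obtain ⟨p, hp⟩ := CharP.exists F
    have : Fact p.Prime := ⟨CharP.char_is_prime F p⟩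
    obtain ⟨n, hn, hc⟩ := FiniteField.card F p
    have h1 : p ∣ 2 ^ a := by
      rw [← hF, hc]
      exact dvd_pow_self p n.ne_zero
    have h2 : p = 2 := (Nat.prime_dvd_prime_iff_eq hn Nat.prime_two).1 (hn.dvd_of_dvd_pow h1)
    rwa [h2] at hp
  have h2 : 2 < Nat.card F := by
    rw [Nat.card_eq_fintype_card, hF]
    calc 2 < 2 ^ 2 := by norm_num
      _ ≤ 2 ^ a := Nat.pow_le_pow_right (by norm_num) ha
  have := C.fin
  obtain ⟨t, f, T, hfK, hS, hT⟩ := exists_start C S c e h2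
  subst hfK
  exact h G F h2 (Front.FE.commutator_eq_top C) C t f T hS hT

end Cfsg.Agent.OddHalf.D7F4.StartF4
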