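import Cfsg.Agent.OddHalf.D7F4.TypeCModel
import Cfsg.Agent.OddHalf.D7F4.FrontF4
import Cfsg.Agent.OddHalf.D7F4.KBridge
import Cfsg.Agent.KFacts.F4Aut
import Cfsg.Agent.KFacts.F4Model
import Cfsg.Agent.KFacts.F4Torus

/-!
# K = F4(q), `q ≥ 4`: the K-facts `TypeCModel.KT` (S1765, node D7; helper588)

* `exists_f` : `g ∈ C(t)` commuting with one root group is `f y` or `t * f y`;
* `mem_sup` : the centraliser in `F₄(F)` of the root groups of a mask;
* `kt` : `KT t (XG f) ((TF F).map f)` for a frame `f`, `|F| > 2`.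
-/

set_option autoImplicit false
set_option Elab.async false
set_option linter.unusedSectionVars false

namespace Cfsg.Agent.OddHalf.D7F4.TypeCInst

open CoxeterSystem Cfsg.Agent.ChevalleyStructure.CoxeterGeom Cfsg.Agent.Tits.Roots Cfsg.Agent.Tits.Core
open Cfsg.Lie Cfsg.Agent.ChevalleyStructure Cfsg.Agent.ChevalleyStructure.Elts
  Cfsg.Agent.ChevalleyStructure.RootVec Cfsg.Agent.ChevalleyStructure.CoxeterGeomTypes
open Cfsg.Agent.Nodes Cfsg.Agent.Nodes.Reps Cfsg.Agent.Nodes.BNOf Cfsg.Agent.Nodes.RGDChev Cfsg.Agent.Nodes.Coroot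
  Cfsg.Agent.Nodes.KindF Cfsg.Agent.KFacts.ChevTwo Cfsg.Agent.KFacts.ChevTwoTab Cfsg.Agent.KFacts.ChevTwoInst
  Cfsg.Agent.KFacts.F4Cent Cfsg.Agent.KFacts.F4Pair Cfsg.Agent.KFacts.F4Torus
open Cfsg.Agent.KFacts.F4Star hiding sb
open Cfsg.Agent.OddHalf.D7F4 Cfsg.Agent.OddHalf.D7F4.Model Cfsg.Agent.OddHalf.D7F4.TypeCModel
  Cfsg.Agent.OddHalf.D7F4.KFront Cfsg.Agent.OddHalf.D7F4.KBridge
open scoped commutatorElement

universe u v

variable {F : Type v} [Field F] [Finite F] [CharP F 2]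

/-! ### In `F₄(F)` -/

theorem rt_of {a : Fin 4 → ℤ} (ha : a ∈ rts) : IsRoot c4 isType.isCartan a := (isRoot_iff' c4).2 ha

theorem eF_inj {a : Fin 4 → ℤ} (ha : a ∈ rts) {t u : F} (h : eF F a t = eF F a u) : t = u := by
  have D := dat (K := F)
  have h1 : eF F a (t + u) = 1 := by
    rw [D.add a (rt_of ha), h, ← D.add a (rt_of ha), CharTwo.add_self_eq_zero, D.zero (rt_of ha)]
  have h2 := D.inj a (rt_of ha) _ h1
  exact CharTwo.add_eq_zero.1 h2

theorem eF_one_ne {a : Fin 4 → ℤ} (ha : a ∈ rts) : eF F a 1 ≠ 1 := fun h =>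
  one_ne_zero ((dat (K := F)).inj a (rt_of ha) _ h)

/-- The centraliser of the root groups of a mask. -/
theorem mem_mask {P : ℕ} (hP : spanM P = true) {y : ↥(chevF4.group F)}
    (hy : ∀ r ∈ List.range 48, P.testBit r = true → ∀ x ∈ XF F (vv r), y * x = x * y) :
    y ∈ RGD.Sup (XF F) (SetOf (starM P)) := by
  refine cent_mask hP ?_
  rintro _ ⟨r, hr, hb, rfl⟩
  have hm : vv r ∈ rts := vv_mem r (List.mem_range.2 hr)
  refine ⟨eF F (v r) 1, e_mem_X (rv hr) 1, ?_, ?_⟩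
  · rw [vv_eq]; exact eF_one_ne hm
  · refine hy r (List.mem_range.2 hr) hb _ ?_
    rw [← vv_eq]; exact e_mem_X (rv hr) 1

theorem sup_le3 {M : ℕ} {a b c : Fin 4 → ℤ}
    (hM : ∀ r ∈ List.range 48, M.testBit r = true → vv r = a ∨ vv r = b ∨ vv r = c) :
    RGD.Sup (XF F) (SetOf M) ≤ XF F a ⊔ XF F b ⊔ XF F c := by
  refine RGD.Sup_le ?_
  rintro _ ⟨r, hr, hb, rfl⟩
  rcases hM r (List.mem_range.2 hr) hb with h | h | h
  · rw [vv_eq, h]; exact le_sup_of_le_left le_sup_left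
  · rw [vv_eq, h]; exact le_sup_of_le_left le_sup_right
  · rw [vv_eq, h]; exact le_sup_right

theorem x0 {a b : Fin 4 → ℤ} (ha : a ∈ rts) (hb : b ∈ rts) (h : 0 ≤ B a b) : ∀ x ∈ XF F a, ∀ y ∈ XF F b, x * y = y * x :=
  KFacts.F4Model.X0 ha hb h

theorem split3 {a b c : Fin 4 → ℤ} (ha : a ∈ rts) (hb : b ∈ rts) (hc : c ∈ rts) (hab : 0 ≤ B a b) (hac : 0 ≤ B a c)
    (hbc : 0 ≤ B b c) {y : ↥(chevF4.group F)} (hy : y ∈ XF F a ⊔ XF F b ⊔ XF F c) :
    ∃ p ∈ XF F a, ∃ q ∈ XF F b, ∃ r ∈ XF F c, y = p * q * r := by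
  refine KFacts.F4Model.mem_sup3 (x0 ha hc hac) (x0 hb hc hbc) (fun p hp q hq => ⟨1, one_mem _, ?_⟩) hy
  rw [mul_one]
  exact (x0 ha hb hab p hp q hq).symm

/-- the mask of the family of `c1s` -/
def PS : ℕ := 279077262458880
/-- the mask of the family of `c1l` -/
def PL : ℕ := 281467498397696
/-- the mask of the family of `c2` -/
def PO : ℕ := 277205864677376

theorem span_s : spanM PS = true := by decide +kernel
theorem span_l : spanM PL = true := by decide +kernel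
theorem span_o : spanM PO = true := by decide +kernel

theorem cond_s : ∀ r ∈ List.range 48, PS.testBit r = true → 0 ≤ B (vv r) sa ∧ 0 ≤ B (vv r) sb ∧
    ¬ (B (vv r) (vv r) = 4 ∧ B (vv r) sa = 0 ∧ B (vv r) sb = 0) := by decide +kernel
theorem cond_l : ∀ r ∈ List.range 48, PL.testBit r = true → 0 ≤ B (vv r) la ∧ 0 ≤ B (vv r) lb ∧
    ¬ (B (vv r) (vv r) = 2 ∧ B (vv r) la = 0 ∧ B (vv r) lb = 0) := by decide +kernel
theorem cond_o : ∀ r ∈ List.range 48, PO.testBit r = true →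
    (B (vv r) (vv r) = 4 ∧ 0 ≤ B (vv r) oa ∧ 0 < B (vv r) la ∨
      B (vv r) (vv r) = 2 ∧ 0 < B (vv r) oa ∧ 0 ≤ B (vv r) la) := by decide +kernel

theorem star_s : ∀ r ∈ List.range 48, (starM PS).testBit r = true → vv r = sa ∨ vv r = sb ∨ vv r = la := by
  decide +kernel
theorem star_l : ∀ r ∈ List.range 48, (starM PL).testBit r = true → vv r = la ∨ vv r = lb ∨ vv r = sa := by
  decide +kernel
/-- the functional of the torus element -/
def phi : (Fin 4 → ℤ) →+ ℤ where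
  toFun x := 2 * x 2 - 3 * x 3
  map_zero' := by simp
  map_add' x y := by simp only [Pi.add_apply]; ring

def phi0 (x : Fin 4 → ℤ) : ℤ := 2 * x 2 - 3 * x 3

theorem star_o : ∀ r ∈ List.range 48, (starM PO).testBit r = true → vv r = oa ∨ vv r = la ∨ phi0 (vv r) = 1 ∨
    phi0 (vv r) = -1 := by decide +kernel
theorem star_o' : ∀ r ∈ List.range 48, (starM PO).testBit r = true → 0 < vv r 0 + vv r 1 + vv r 2 + vv r 3 := by
  decide +kernel

theorem k_s {y : ↥(chevF4.group F)} (hy : ∀ a ∈ rts, 0 ≤ B a sa → 0 ≤ B a sb →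
    ¬ (B a a = 4 ∧ B a sa = 0 ∧ B a sb = 0) → ∀ x ∈ XF F a, y * x = x * y) :
    ∃ a ∈ XF F sa, ∃ b ∈ XF F sb, ∃ c ∈ XF F la, y = a * b * c := by
  refine split3 m_sa m_sb m_la (by decide) (by decide) (by decide) (sup_le3 star_s (mem_mask span_s ?_))
  intro r hr hb
  obtain ⟨h1, h2, h3⟩ := cond_s r hr hb
  exact hy _ (vv_mem r hr) h1 h2 h3

theorem k_l {y : ↥(chevF4.group F)} (hy : ∀ a ∈ rts, 0 ≤ B a la → 0 ≤ B a lb →
    ¬ (B a a = 2 ∧ B a la = 0 ∧ B a lb = 0) → ∀ x ∈ XF F a, y * x = x * y) :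
    ∃ a ∈ XF F la, ∃ b ∈ XF F lb, ∃ c ∈ XF F sa, y = a * b * c := by
  refine split3 m_la m_lb m_sa (by decide) (by decide) (by decide) (sup_le3 star_l (mem_mask span_l ?_))
  intro r hr hb
  obtain ⟨h1, h2, h3⟩ := cond_l r hr hb
  exact hy _ (vv_mem r hr) h1 h2 h3

/-- `star Ψ` is closed. -/
theorem closed_star {Ψ : Set (Fin 4 → ℤ)} (hΨ : ∀ a ∈ Ψ, IsRoot c4 isType.isCartan a) :
    Unique.Closed c4 isType.isCartan (star c4 isType.isCartan Ψ) := by
  intro x hx y hy z hz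
  refine ⟨hz.1, fun a ha => ?_⟩
  obtain ⟨-, m, p, q, hm, hp, hq, e⟩ := hz
  have h1 := cpr_smul c4 isType.isCartan m z (hΨ a ha)
  rw [e, cpr_add c4 isType.isCartan _ _ (hΨ a ha), cpr_smul c4 isType.isCartan p x (hΨ a ha),
    cpr_smul c4 isType.isCartan q y (hΨ a ha)] at h1
  have h2 := mul_nonneg hp.le (hx.2 a ha)
  have h3 := mul_nonneg hq.le (hy.2 a ha)
  by_contra h4
  have h5 : m * cpr c4 isType.isCartan z a < 0 := mul_neg_of_pos_of_neg hm (not_le.1 h4)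
  omega

theorem exists_unit_ne (hF : 2 < Nat.card F) : ∃ c : Fˣ, c ≠ 1 := by
  obtain ⟨c, hc, h1⟩ := exists_zpow_ne (K := F) hF
  refine ⟨Units.mk0 c hc, fun h => h1 1 one_ne_zero (by norm_num) (by norm_num) ?_⟩
  rw [zpow_one]
  have := congrArg (fun u : Fˣ => (u : F)) h
  exact this

theorem fix_of_ne {a : Fin 4 → ℤ} (ha : a ∈ rts) {d : Fˣ} (hd : d ≠ 1) {h : ↥(chevF4.group F)}
    (hh : ∀ u, h * eF F a u * h⁻¹ = eF F a (d * u)) : ∀ x ∈ XF F a, h * x = x * h → x = 1 := by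
  intro x hx hc
  obtain ⟨u, rfl⟩ := (mem_XF (rt_of ha)).1 hx
  have h1 : eF F a (d * u) = eF F a u := by
    rw [← hh, hc, mul_inv_cancel_right]
  have h2 := eF_inj ha h1
  have h3 : ((d : F) - 1) * u = 0 := by rw [sub_mul, one_mul, h2, sub_self]
  rcases mul_eq_zero.1 h3 with h4 | h4
  · exact absurd (Units.ext (sub_eq_zero.1 h4)) hd
  · rw [h4]; exact (dat (K := F)).zero (rt_of ha)

theorem k_o (hF : 2 < Nat.card F) : ∃ h ∈ TF F, (∀ x ∈ XF F oa, h * x = x * h) ∧ (∀ x ∈ XF F la, h * x = x * h) ∧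
    ∀ y : ↥(chevF4.group F), y * h = h * y →
    (∀ f ∈ rts, (B f f = 4 ∧ 0 ≤ B f oa ∧ 0 < B f la ∨ B f f = 2 ∧ 0 < B f oa ∧ 0 ≤ B f la) →
      ∀ x ∈ XF F f, y * x = x * y) → ∃ a ∈ XF F oa, ∃ b ∈ XF F la, y = a * b := by
  obtain ⟨g, hg⟩ := exists_unit_ne hF
  obtain ⟨h, hh, hc⟩ := exists_torus (K := F) c4 ((zmultiplesHom (Additive Fˣ) (Additive.ofMul g)).comp phi)
  have hval : ∀ x, (((zmultiplesHom (Additive Fˣ) (Additive.ofMul g)).comp phi) x).toMul = g ^ phi0 x := by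
    intro x
    rw [AddMonoidHom.comp_apply, zmultiplesHom_apply]
    rfl
  have hfix : ∀ a ∈ rts, phi0 a = 0 → ∀ x ∈ XF F a, h * x = x * h := by
    intro a ha h0 x hx
    obtain ⟨u, rfl⟩ := (mem_XF (rt_of ha)).1 hx
    have h1 := hc a (rt_of ha) u
    rw [hval, h0, zpow_zero, Units.val_one, one_mul] at h1
    calc h * eF F a u = h * eF F a u * h⁻¹ * h := by group
      _ = eF F a u * h := by rw [h1]
  refine ⟨h, hh, hfix oa m_oa (by decide), hfix la m_la (by decide), fun y hyh hy => ?_⟩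
  have h1 : y ∈ RGD.Sup (XF F) (SetOf (starM PO)) := mem_mask span_o fun r hr hb =>
    hy _ (vv_mem r hr) (cond_o r hr hb)
  have h2 := KFacts.RgdInd.cent_closed (rgd (K := F) isType c4 2)
    (((AddMonoidHom.mk' (fun x : Fin 4 → ℤ => x 0 + x 1 + x 2 + x 3) fun x y => by
      simp only [Pi.add_apply]; ring))) (S := SetOf (starM PO)) (by
      rintro _ ⟨r, hr, hb, rfl⟩
      refine ⟨rv hr, ?_⟩
      have := star_o' r (List.mem_range.2 hr) hb
      rw [vv_eq]; exact this)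
    (by
      rw [← star_SetOf c4]
      exact closed_star fun a ha => isRoot_of_mem_SetOf _ ha) (C := {h}) (by rintro _ rfl; exact hh) h1
    (Subgroup.mem_centralizer_singleton_iff.2 hyh)
  have h3 : RGD.Sup (fun x => XF F x ⊓ Subgroup.centralizer ({h} : Set ↥(chevF4.group F))) (SetOf (starM PO)) ≤
      XF F oa ⊔ XF F la := by
    refine RGD.Sup_le ?_
    rintro _ ⟨r, hr, hb, rfl⟩ x ⟨hx, hxh⟩
    have hm := vv_mem r (List.mem_range.2 hr)
    rw [vv_eq] at hx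
    rcases star_o r (List.mem_range.2 hr) hb with h4 | h4 | h4 | h4
    · rw [h4] at hx; exact Subgroup.mem_sup_left hx
    · rw [h4] at hx; exact Subgroup.mem_sup_right hx
    · have h5 := fix_of_ne hm (d := g ^ phi0 (vv r)) (by rw [h4, zpow_one]; exact hg)
        (fun u => by rw [hc _ (rt_of hm), hval]) x hx (Subgroup.mem_centralizer_singleton_iff.1 hxh).symm
      rw [h5]; exact one_mem _
    · have h5 := fix_of_ne hm (d := g ^ phi0 (vv r)) (by
          rw [h4, zpow_neg, zpow_one]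
          intro h6
          exact hg (inv_eq_one.1 h6))
        (fun u => by rw [hc _ (rt_of hm), hval]) x hx (Subgroup.mem_centralizer_singleton_iff.1 hxh).symm
      rw [h5]; exact one_mem _
  exact (KFacts.RgdAutCent.mem_sup_comm (x0 m_oa m_la (by decide))).1 (h3 h2)

/-! ### In `G` -/

variable {G : Type u} [Group G] {t : G} {f : ↥(chevF4.group F) →* G}

/-- `g ∈ C(t)` commuting with one root group. -/
theorem exists_f (R : Frame t f) {a : Fin 4 → ℤ} (ha : a ∈ rts) {g : G} (hg : g * t = t * g)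
    (h : ∀ x ∈ XG f a, g * x = x * g) : ∃ y, g = f y ∨ g = t * f y := by
  obtain ⟨α, hα⟩ := R.exists_aut hg
  obtain ⟨y, -, rfl⟩ := KFacts.F4Aut.inner_of_fix_X (K := F) c4 (rt_of ha) (α := α) (fun z hz => by
    apply R.inj
    rw [← hα, h _ ⟨z, hz, rfl⟩, mul_inv_cancel_right])
  exact ⟨y, R.mem_of_conj hg fun x => by rw [hα, MulAut.conj_apply]⟩

theorem comm_of (R : Frame t f) {g : G} {y : ↥(chevF4.group F)} (h : g = f y ∨ g = t * f y) {x : ↥(chevF4.group F)}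
    (hx : g * f x = f x * g) : y * x = x * y := by
  apply R.inj
  rw [map_mul, map_mul]
  rcases h with rfl | rfl
  · exact hx
  · have h1 : t * (f y * f x) = t * (f x * f y) := by
      calc t * (f y * f x) = t * f y * f x := by group
        _ = f x * t * f y := by rw [hx]; group
        _ = t * (f x * f y) := by rw [R.ft x]; group
    exact mul_left_cancel h1

/-- From `F₄(F)` to `C(t)`. -/
theorem transfer (R : Frame t f) {P : (Fin 4 → ℤ) → Prop} {a : Fin 4 → ℤ} (ha : a ∈ rts) (hPa : P a) {g : G}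
    (hg : g * t = t * g) (h : ∀ a ∈ rts, P a → ∀ x ∈ XG f a, g * x = x * g) :
    ∃ y, (g = f y ∨ g = t * f y) ∧ ∀ a ∈ rts, P a → ∀ x ∈ XF F a, y * x = x * y := by
  obtain ⟨y, hy⟩ := exists_f R ha hg (h a ha hPa)
  exact ⟨y, hy, fun b hb hPb x hx => comm_of R hy (h b hb hPb _ ⟨x, hx, rfl⟩)⟩

theorem map3 {A B' C : Subgroup ↥(chevF4.group F)} {y : ↥(chevF4.group F)}
    (h : ∃ a ∈ A, ∃ b ∈ B', ∃ c ∈ C, y = a * b * c) {g : G} (hg : g = f y ∨ g = t * f y) :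
    ∃ a ∈ A.map f, ∃ b ∈ B'.map f, ∃ c ∈ C.map f, g = a * b * c ∨ g = t * (a * b * c) := by
  obtain ⟨a, ha, b, hb, c, hc, rfl⟩ := h
  rw [map_mul, map_mul] at hg
  exact ⟨_, ⟨a, ha, rfl⟩, _, ⟨b, hb, rfl⟩, _, ⟨c, hc, rfl⟩, hg⟩

/-- **The K-facts.** -/
theorem kt (R : Frame t f) (hF : 2 < Nat.card F) : KT t (XG f) ((TF F).map f) where
  c1s k hk h := by
    obtain ⟨y, hy, hc⟩ := transfer R (P := fun a => 0 ≤ B a sa ∧ 0 ≤ B a sb ∧ ¬ (B a a = 4 ∧ B a sa = 0 ∧ B a sb = 0))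
      m_la (by decide) hk fun a ha hP => h a ha hP.1 hP.2.1 hP.2.2
    exact map3 (k_s fun a ha h1 h2 h3 => hc a ha ⟨h1, h2, h3⟩) hy
  c1l k hk h := by
    obtain ⟨y, hy, hc⟩ := transfer R (P := fun a => 0 ≤ B a la ∧ 0 ≤ B a lb ∧ ¬ (B a a = 2 ∧ B a la = 0 ∧ B a lb = 0))
      m_la (by decide) hk fun a ha hP => h a ha hP.1 hP.2.1 hP.2.2
    exact map3 (k_l fun a ha h1 h2 h3 => hc a ha ⟨h1, h2, h3⟩) hy
  c2 := by
    obtain ⟨h, hh, h1, h2, h3⟩ := k_o hF
    refine ⟨f h, ⟨h, hh, rfl⟩, ?_, ?_, fun k hk hkh hk2 => ?_⟩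
    · rintro _ ⟨x, hx, rfl⟩
      rw [← map_mul, h1 x hx, map_mul]
    · rintro _ ⟨x, hx, rfl⟩
      rw [← map_mul, h2 x hx, map_mul]
    · obtain ⟨y, hy, hc⟩ := transfer R (P := fun f => B f f = 4 ∧ 0 ≤ B f oa ∧ 0 < B f la ∨
        B f f = 2 ∧ 0 < B f oa ∧ 0 ≤ B f la) m_la (by decide) hk hk2
      obtain ⟨a, ha, b, hb, rfl⟩ := h3 y (comm_of R hy hkh) hc
      rw [map_mul] at hy
      exact ⟨_, ⟨a, ha, rfl⟩, _, ⟨b, hb, rfl⟩, hy⟩
  nds := by
    rintro _ ⟨x, hx, rfl⟩ _ ⟨y, hy, rfl⟩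
    obtain ⟨a, rfl⟩ := (mem_XF (rt_of m_sr)).1 hx
    obtain ⟨b, rfl⟩ := (mem_XF (rt_of m_sa)).1 hy
    have h1 := KFacts.F4Model.comm2 (K := F) m_sr m_sa (by decide) (by decide) (by decide) a b
    have e1 : sr + sa = sb := by decide +kernel
    have e2 : sb + sa = la := by decide +kernel
    rw [e1, e2, commutatorElement_def] at h1
    refine ⟨_, ⟨_, e_mem_X (rt_of m_sb) (a * b), rfl⟩, _, ⟨_, e_mem_X (rt_of m_la) (a * b ^ 2), rfl⟩, ?_, fun h2 => ?_⟩
    · have h2 := congrArg f h1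
      rw [map_mul, map_mul, map_mul, map_mul, map_inv, map_inv] at h2
      exact h2
    · have h3 : eF F la (a * b ^ 2) = 1 := R.inj (by rw [h2, map_one])
      rcases mul_eq_zero.1 ((dat (K := F)).inj _ (rt_of m_la) _ h3) with h4 | h4
      · left; rw [h4, (dat (K := F)).zero (rt_of m_sr), map_one]
      · right
        rw [pow_eq_zero_iff (two_ne_zero)] at h4
        rw [h4, (dat (K := F)).zero (rt_of m_sa), map_one]
  ndl := by
    rintro _ ⟨x, hx, rfl⟩ _ ⟨y, hy, rfl⟩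
    obtain ⟨a, rfl⟩ := (mem_XF (rt_of m_la)).1 hx
    obtain ⟨b, rfl⟩ := (mem_XF (rt_of m_lr)).1 hy
    have h1 := KFacts.F4Model.comm2 (K := F) m_la m_lr (by decide) (by decide) (by decide) a b
    have e1 : la + lr = sa := by decide +kernel
    have e2 : sa + lr = lb := by decide +kernel
    rw [e1, e2, commutatorElement_def] at h1
    refine ⟨_, ⟨_, e_mem_X (rt_of m_sa) (a * b), rfl⟩, _, ⟨_, e_mem_X (rt_of m_lb) (a * b ^ 2), rfl⟩, ?_, fun h2 => ?_⟩
    · have h2 := congrArg f h1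
      rw [map_mul, map_mul, map_mul, map_mul, map_inv, map_inv] at h2
      exact h2
    · have h3 : eF F sa (a * b) = 1 := R.inj (by rw [h2, map_one])
      rcases mul_eq_zero.1 ((dat (K := F)).inj _ (rt_of m_sa) _ h3) with h4 | h4
      · left; rw [h4, (dat (K := F)).zero (rt_of m_la), map_one]
      · right; rw [h4, (dat (K := F)).zero (rt_of m_lr), map_one]
  Ht := by
    rintro _ ⟨h, -, rfl⟩
    exact (R.ft h).symm
  tor a ha b hb hab hab' := by
    obtain ⟨d, hd⟩ := exists_unit_ne hF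
    obtain ⟨h, hh, h1, h2⟩ := torus_fix (K := F) c4 (rt_of hb) (rt_of ha) hab hab' d
    refine ⟨f h, ⟨h, hh, rfl⟩, ?_, ?_⟩
    · rintro _ ⟨x, hx, rfl⟩
      obtain ⟨u, rfl⟩ := (mem_XF (rt_of ha)).1 hx
      rw [← map_mul, ← map_mul]
      congr 1
      have h3 := h2 u
      calc h * eF F a u = h * eF F a u * h⁻¹ * h := by group
        _ = eF F a u * h := by rw [h3]
    · rintro _ ⟨x, hx, rfl⟩ hc
      rw [fix_of_ne hb hd h1 x hx (R.inj (by rw [map_mul, map_mul]; exact hc)), map_one]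

end Cfsg.Agent.OddHalf.D7F4.TypeCInst
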