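import Cfsg.Agent.OddHalf.D7F4.Extremal

/-!
# Start of fusion for `F4(q)`, `q ≥ 4` even (ODD D7, text #8532 (1); helper588)

`t` an involution, `T` a Sylow 2-subgroup of `C_G(t)`, `Z(T) = ⟨t⟩ X₁ X₂` (`X₁` long, `X₂` short root group), the torus is
transitive on `X₁#`, `X₂#` and on the mixed elements, `N_G(T)` permutes `X₁` and `X₂` (`Ctx`).

* `exists_moved` : either there is a homomorphism `m : G → {±1}`, `m t = -1`, or `X₁` or `X₂` is moved;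
* `moved_or` : `Moved t X₁` or `t` is not conjugate to `t x`, `1 ≠ x ∈ X₁`; the same for `X₂` by `Ctx.symm`.
-/

set_option autoImplicit false

namespace Cfsg.Agent.OddHalf.D7F4.Fusion

open Subgroup

variable {G : Type*} [Group G]

/-- `X` is moved: some element normalising `X` moves `t` inside `t X`. -/
def Moved (t : G) (X : Subgroup G) : Prop :=
  ∃ n : G, (∀ x ∈ X, n * x * n⁻¹ ∈ X) ∧ (∀ x ∈ X, n⁻¹ * x * n ∈ X) ∧ t * (n * t * n⁻¹) ∈ X ∧ n * t * n⁻¹ ≠ t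

/-- `n⁻¹ X n = Y` -/
def Maps (n : G) (X Y : Subgroup G) : Prop := ∀ x, x ∈ X ↔ n⁻¹ * x * n ∈ Y

theorem Maps.inv {n : G} {X Y : Subgroup G} (h : Maps n X Y) : Maps n⁻¹ Y X := by
  intro y
  rw [h (n⁻¹⁻¹ * y * n⁻¹)]
  have e : n⁻¹ * (n⁻¹⁻¹ * y * n⁻¹) * n = y := by group
  rw [e]

theorem Maps.mul {m n : G} {X Y Z : Subgroup G} (h : Maps m X Y) (h' : Maps n Y Z) : Maps (m * n) X Z := by
  intro x
  rw [h x, h' _]
  have e : n⁻¹ * (m⁻¹ * x * m) * n = (m * n)⁻¹ * x * (m * n) := by group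
  rw [e]

/-- The hypotheses. -/
structure Ctx (t : G) (T X₁ X₂ H : Subgroup G) : Prop where
  tt : t * t = 1
  pT : IsPGroup 2 T
  tT : t ∈ T
  Tt : ∀ x ∈ T, x * t = t * x
  odd : Odd (T.relIndex (centralizer ({t} : Set G)))
  X₁T : X₁ ≤ T
  X₂T : X₂ ≤ T
  c₁ : ∀ x ∈ X₁, ∀ y ∈ T, x * y = y * x
  c₂ : ∀ x ∈ X₂, ∀ y ∈ T, x * y = y * x
  sq₁ : ∀ x ∈ X₁, x * x = 1
  sq₂ : ∀ x ∈ X₂, x * x = 1
  dis : ∀ x, x ∈ X₁ → x ∈ X₂ → x = 1
  Z : ∀ z ∈ T, (∀ y ∈ T, z * y = y * z) → ∃ a ∈ X₁, ∃ b ∈ X₂, z = a * b ∨ z = t * (a * b)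
  /-- `t` is not conjugate to an element of `X₁ X₂` -/
  nc : ∀ g : G, ∀ a ∈ X₁, ∀ b ∈ X₂, g⁻¹ * t * g ≠ a * b
  Ht : ∀ h ∈ H, h * t = t * h
  HT : ∀ h ∈ H, Maps h T T
  H₁ : ∀ h ∈ H, Maps h X₁ X₁
  H₂ : ∀ h ∈ H, Maps h X₂ X₂
  Htr : ∀ a ∈ X₁, ∀ b ∈ X₂, ∀ a' ∈ X₁, ∀ b' ∈ X₂, a ≠ 1 → b ≠ 1 → a' ≠ 1 → b' ≠ 1 →
    ∃ h ∈ H, h⁻¹ * a * h = a' ∧ h⁻¹ * b * h = b'
  big₁ : ∀ a ∈ X₁, ∃ a' ∈ X₁, a' ≠ 1 ∧ a' ≠ a
  big₂ : ∀ a ∈ X₂, ∃ a' ∈ X₂, a' ≠ 1 ∧ a' ≠ a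
  perm : ∀ n : G, Maps n T T → (Maps n X₁ X₁ ∧ Maps n X₂ X₂) ∨ (Maps n X₁ X₂ ∧ Maps n X₂ X₁)

namespace Ctx

variable {t : G} {T X₁ X₂ H : Subgroup G}

theorem comm12 (C : Ctx t T X₁ X₂ H) {a b : G} (ha : a ∈ X₁) (hb : b ∈ X₂) : a * b = b * a :=
  C.c₁ a ha b (C.X₂T hb)

theorem symm (C : Ctx t T X₁ X₂ H) : Ctx t T X₂ X₁ H where
  tt := C.tt
  pT := C.pT
  tT := C.tT
  Tt := C.Tt
  odd := C.odd
  X₁T := C.X₂T
  X₂T := C.X₁T
  c₁ := C.c₂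
  c₂ := C.c₁
  sq₁ := C.sq₂
  sq₂ := C.sq₁
  dis := fun x h1 h2 => C.dis x h2 h1
  Z := by
    intro z hz hc
    obtain ⟨a, ha, b, hb, h⟩ := C.Z z hz hc
    refine ⟨b, hb, a, ha, ?_⟩
    rwa [← C.comm12 ha hb]
  nc := by
    intro g a ha b hb h
    exact C.nc g b hb a ha (by rw [h, C.comm12 hb ha])
  Ht := C.Ht
  HT := C.HT
  H₁ := C.H₂
  H₂ := C.H₁
  Htr := by
    intro a ha b hb a' ha' b' hb' h1 h2 h3 h4
    obtain ⟨h, hh, e1, e2⟩ := C.Htr b hb a ha b' hb' a' ha' h2 h1 h4 h3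
    exact ⟨h, hh, e2, e1⟩
  big₁ := C.big₂
  big₂ := C.big₁
  perm := by
    intro n hn
    rcases C.perm n hn with ⟨h1, h2⟩ | ⟨h1, h2⟩
    · exact Or.inl ⟨h2, h1⟩
    · exact Or.inr ⟨h2, h1⟩

/-- transitivity on `X₁#` -/
theorem tr1 (C : Ctx t T X₁ X₂ H) {a a' : G} (ha : a ∈ X₁) (ha' : a' ∈ X₁) (h : a ≠ 1) (h' : a' ≠ 1) :
    ∃ h ∈ H, h⁻¹ * a * h = a' := by
  obtain ⟨b, hb, hb1, -⟩ := C.big₂ 1 (one_mem _)
  obtain ⟨k, hk, e, -⟩ := C.Htr a ha b hb a' ha' b hb h hb1 h' hb1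
  exact ⟨k, hk, e⟩

theorem t_inv (C : Ctx t T X₁ X₂ H) : t⁻¹ = t := inv_eq_of_mul_eq_one_left C.tt

/-- `h⁻¹ t h = t` -/
theorem conj_H (C : Ctx t T X₁ X₂ H) {h : G} (hh : h ∈ H) : h⁻¹ * t * h = t := by
  rw [mul_assoc, ← C.Ht h hh, inv_mul_cancel_left]

/-- A swapping `n` with `t ^ n ∈ t X₁#` gives a non-swapping one. -/
theorem exists_stay (C : Ctx t T X₁ X₂ H) {n x : G} (hn₁ : Maps n X₁ X₂) (hn₂ : Maps n X₂ X₁) (hx : x ∈ X₁)
    (hx1 : x ≠ 1) (hnx : n⁻¹ * t * n = t * x) : ∃ m, Maps m X₁ X₁ ∧ Maps m X₂ X₂ ∧ m⁻¹ * t * m = t * x := by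
  -- `n_z` for `z ∈ X₁#`
  have nz : ∀ z ∈ X₁, z ≠ 1 → ∃ k, Maps k X₁ X₂ ∧ Maps k X₂ X₁ ∧ k⁻¹ * t * k = t * z := by
    intro z hz hz1
    obtain ⟨h, hh, e⟩ := C.tr1 hx hz hx1 hz1
    refine ⟨n * h, hn₁.mul (C.H₂ h hh), hn₂.mul (C.H₁ h hh), ?_⟩
    calc (n * h)⁻¹ * t * (n * h) = h⁻¹ * (n⁻¹ * t * n) * h := by group
      _ = (h⁻¹ * t * h) * (h⁻¹ * x * h) := by rw [hnx]; group
      _ = t * z := by rw [C.conj_H hh, e]
  have conj : ∀ {p k u v : G}, p⁻¹ * t * p = t * u → k⁻¹ * t * k = t * v →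
      (k * p)⁻¹ * t * (k * p) = t * (u * (p⁻¹ * v * p)) := by
    intro p k u v h1 h2
    calc (k * p)⁻¹ * t * (k * p) = p⁻¹ * (k⁻¹ * t * k) * p := by group
      _ = (p⁻¹ * t * p) * (p⁻¹ * v * p) := by rw [h2]; group
      _ = t * (u * (p⁻¹ * v * p)) := by rw [h1, mul_assoc]
  have ne1 : ∀ {p v : G}, v ≠ 1 → p⁻¹ * v * p ≠ 1 := by
    intro p v hv h
    apply hv
    calc v = p * (p⁻¹ * v * p) * p⁻¹ := by group
      _ = 1 := by rw [h]; group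
  -- `p` : non-swapping with `t ^ p = t x y`
  set y := n⁻¹ * x * n with hy
  have hyX : y ∈ X₂ := (hn₁ x).1 hx
  have hp := conj hnx hnx
  rw [← hy] at hp
  set p := n * n with hpd
  have hp₁ : Maps p X₁ X₁ := hn₁.mul hn₂
  have hp₂ : Maps p X₂ X₂ := hn₂.mul hn₁
  -- `a' ≠ x`
  obtain ⟨a', ha', ha'1, ha'x⟩ := C.big₁ x hx
  have hz0 : p * a' * p⁻¹ ∈ X₁ := by
    have := (hp₁.inv a').1 ha'
    rwa [inv_inv] at this
  have hz01 : p * a' * p⁻¹ ≠ 1 := by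
    have := ne1 (p := p⁻¹) ha'1
    rwa [inv_inv] at this
  obtain ⟨k, hk₁, hk₂, hkt⟩ := nz _ hz0 hz01
  have hs := conj hp hkt
  have e1 : p⁻¹ * (p * a' * p⁻¹) * p = a' := by group
  rw [e1] at hs
  have e2 : x * y * a' = (x * a') * y := by
    have e3 : y * a' = a' * y := (C.comm12 ha' hyX).symm
    calc x * y * a' = x * (y * a') := by group
      _ = x * (a' * y) := by rw [e3]
      _ = (x * a') * y := by group
  rw [e2] at hs
  -- torus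
  have hxa : x * a' ≠ 1 := by
    intro h
    apply ha'x
    have h1 : x⁻¹ = a' := inv_eq_of_mul_eq_one_right h
    rw [← h1]
    exact inv_eq_of_mul_eq_one_left (C.sq₁ x hx)
  obtain ⟨h, hh, h1, h2⟩ := C.Htr (x * a') (mul_mem hx ha') y hyX x hx y hyX hxa (ne1 hx1) hx1 (ne1 hx1)
  have hsh : (k * p * h)⁻¹ * t * (k * p * h) = t * (x * y) := by
    calc (k * p * h)⁻¹ * t * (k * p * h) = h⁻¹ * ((k * p)⁻¹ * t * (k * p)) * h := by group
      _ = (h⁻¹ * t * h) * ((h⁻¹ * (x * a') * h) * (h⁻¹ * y * h)) := by rw [hs]; group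
      _ = t * (x * y) := by rw [C.conj_H hh, h1, h2]
  -- `c₀ = k p h p⁻¹` centralises `t` and swaps
  set c := k * p * h * p⁻¹ with hc
  have hct : c⁻¹ * t * c = t := by
    calc c⁻¹ * t * c = p * ((k * p * h)⁻¹ * t * (k * p * h)) * p⁻¹ := by rw [hc]; group
      _ = p * (t * (x * y)) * p⁻¹ := by rw [hsh]
      _ = p * (p⁻¹ * t * p) * p⁻¹ := by rw [hp]
      _ = t := by group
  have hc₁ : Maps c X₁ X₂ := ((hk₁.mul hp₂).mul (C.H₂ h hh)).mul hp₂.inv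
  have hc₂ : Maps c X₂ X₁ := ((hk₂.mul hp₁).mul (C.H₁ h hh)).mul hp₁.inv
  refine ⟨c * n, hc₁.mul hn₂, hc₂.mul hn₁, ?_⟩
  calc (c * n)⁻¹ * t * (c * n) = n⁻¹ * (c⁻¹ * t * c) * n := by group
    _ = t * x := by rw [hct, hnx]

/-- `n ∈ N(T)` with `t ^ n ∈ t X₁#` : `X₁` is moved. -/
theorem moved_of_norm (C : Ctx t T X₁ X₂ H) {n x : G} (hn : Maps n T T) (hx : x ∈ X₁) (hx1 : x ≠ 1)
    (hnx : n⁻¹ * t * n = t * x) : Moved t X₁ := by
  obtain ⟨m, hm, hmt⟩ : ∃ m, Maps m X₁ X₁ ∧ m⁻¹ * t * m = t * x := by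
    rcases C.perm n hn with ⟨h1, h2⟩ | ⟨h1, h2⟩
    · exact ⟨n, h1, hnx⟩
    · obtain ⟨m, h3, -, h5⟩ := C.exists_stay h1 h2 hx hx1 hnx
      exact ⟨m, h3, h5⟩
  refine ⟨m⁻¹, fun y hy => ?_, fun y hy => ?_, ?_, ?_⟩
  · have := (hm y).1 hy
    rwa [inv_inv]
  · exact (hm.inv y).1 hy
  · rw [inv_inv, hmt, ← mul_assoc, C.tt, one_mul]; exact hx
  · rw [inv_inv, hmt]
    intro h
    exact hx1 (mul_eq_left.1 h)

/-- A conjugate of `t` in `Z(T)` is a conjugate under `N(T)`. -/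
theorem exists_norm [Finite G] (C : Ctx t T X₁ X₂ H) {g z : G} (hz : ∀ y ∈ T, z * y = y * z)
    (hg : g⁻¹ * t * g = z) : ∃ n, Maps n T T ∧ n⁻¹ * t * n = z := by
  classical
  have : Fact (Nat.Prime 2) := ⟨Nat.prime_two⟩
  -- `T` and `g⁻¹ T g` are Sylow subgroups of `C(z)`
  set K : Subgroup G := centralizer ({z} : Set G) with hK
  have hTK : T ≤ K := fun y hy => mem_centralizer_singleton_iff.2 (hz y hy).symm
  set T' : Subgroup G := T.map (MulAut.conj g⁻¹).toMonoidHom with hT'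
  have memT' : ∀ y, y ∈ T' ↔ g * y * g⁻¹ ∈ T := by
    intro y
    rw [hT', mem_map]
    constructor
    · rintro ⟨w, hw, rfl⟩
      have e : g * ((MulAut.conj g⁻¹).toMonoidHom w) * g⁻¹ = w := by
        show g * (g⁻¹ * w * g⁻¹⁻¹) * g⁻¹ = w
        group
      rwa [e]
    · intro h
      refine ⟨_, h, ?_⟩
      show g⁻¹ * (g * y * g⁻¹) * g⁻¹⁻¹ = y
      group
  have hT'K : T' ≤ K := by
    intro y hy
    have h1 := C.Tt _ ((memT' y).1 hy)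
    rw [hK, mem_centralizer_singleton_iff, ← hg]
    calc y * (g⁻¹ * t * g) = g⁻¹ * ((g * y * g⁻¹) * t) * g := by group
      _ = g⁻¹ * (t * (g * y * g⁻¹)) * g := by rw [h1]
      _ = g⁻¹ * t * g * y := by group
  have hcard : Nat.card T' = Nat.card T :=
    (Nat.card_congr (T.equivMapOfInjective _ (MulAut.conj g⁻¹).injective).toEquiv).symm
  have hcardK : Nat.card K = Nat.card (centralizer ({t} : Set G)) := by
    have e : K = (centralizer ({t} : Set G)).map (MulAut.conj g⁻¹).toMonoidHom := by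
      ext y
      rw [mem_map]
      constructor
      · intro hy
        refine ⟨g * y * g⁻¹, ?_, by show g⁻¹ * (g * y * g⁻¹) * g⁻¹⁻¹ = y; group⟩
        rw [hK, mem_centralizer_singleton_iff, ← hg] at hy
        rw [mem_centralizer_singleton_iff]
        calc g * y * g⁻¹ * t = g * (y * (g⁻¹ * t * g)) * g⁻¹ := by group
          _ = g * (g⁻¹ * t * g * y) * g⁻¹ := by rw [hy]
          _ = t * (g * y * g⁻¹) := by group
      · rintro ⟨w, hw, rfl⟩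
        rw [mem_centralizer_singleton_iff] at hw
        rw [hK, mem_centralizer_singleton_iff, ← hg]
        show g⁻¹ * w * g⁻¹⁻¹ * (g⁻¹ * t * g) = g⁻¹ * t * g * (g⁻¹ * w * g⁻¹⁻¹)
        calc g⁻¹ * w * g⁻¹⁻¹ * (g⁻¹ * t * g) = g⁻¹ * (w * t) * g := by group
          _ = g⁻¹ * (t * w) * g := by rw [hw]
          _ = g⁻¹ * t * g * (g⁻¹ * w * g⁻¹⁻¹) := by group
    rw [e]
    exact (Nat.card_congr ((centralizer ({t} : Set G)).equivMapOfInjective _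
      (MulAut.conj g⁻¹).injective).toEquiv).symm
  have hTle : T ≤ centralizer ({t} : Set G) := fun y hy => mem_centralizer_singleton_iff.2 (C.Tt y hy)
  have hodd : ∀ S : Subgroup G, S ≤ K → Nat.card S = Nat.card T → ¬ 2 ∣ (S.subgroupOf K).index := by
    intro S hS hc h2
    have cmr : ∀ A B : Subgroup G, A ≤ B → Nat.card A * A.relIndex B = Nat.card B := by
      intro A B hAB
      have h0 := card_mul_index (A.subgroupOf B)
      rwa [Nat.card_congr (subgroupOfEquivOfLe hAB).toEquiv] at h0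
    have h3 : Nat.card S * S.relIndex K = Nat.card K := cmr _ _ hS
    have h4 : Nat.card T * T.relIndex (centralizer ({t} : Set G)) = Nat.card (centralizer ({t} : Set G)) :=
      cmr _ _ hTle
    rw [hc, hcardK, ← h4] at h3
    have h5 := Nat.eq_of_mul_eq_mul_left Nat.card_pos h3
    have h6 := C.odd
    rw [← h5] at h6
    exact (Nat.not_even_iff_odd.2 h6) (even_iff_two_dvd.2 h2)
  have pS : ∀ S : Subgroup G, IsPGroup 2 S → IsPGroup 2 (S.subgroupOf K) := fun S hS => by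
    exact hS.comap_of_injective K.subtype K.subtype_injective
  have pT' : IsPGroup 2 T' := C.pT.map _
  let P : Sylow 2 K := (pS T C.pT).toSylow (hodd T hTK rfl)
  let Q : Sylow 2 K := (pS T' pT').toSylow (hodd T' hT'K hcard)
  obtain ⟨c, hc⟩ := MulAction.exists_smul_eq K P Q
  have hcmem : ∀ y : G, y ∈ T' ↔ (c : G)⁻¹ * y * c ∈ T := by
    intro y
    have hQ : (Q : Subgroup K) = T'.subgroupOf K := rfl
    have hP : (P : Subgroup K) = T.subgroupOf K := rfl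
    have h1 : ∀ k : K, k ∈ (Q : Subgroup K) ↔ c⁻¹ * k * c ∈ (P : Subgroup K) := by
      intro k
      rw [← hc, Sylow.coe_subgroup_smul, mem_pointwise_smul_iff_inv_smul_mem]
      have : (MulAut.conj c)⁻¹ • k = c⁻¹ * k * c := by
        rw [MulAut.smul_def, ← map_inv, MulAut.conj_apply, inv_inv]
      rw [this]
    constructor
    · intro hy
      have h2 := (h1 ⟨y, hT'K hy⟩).1 (by rw [hQ, mem_subgroupOf]; exact hy)
      rw [hP, mem_subgroupOf] at h2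
      exact h2
    · intro hy
      have hyK : y ∈ K := by
        have h3 : (c : G) * ((c : G)⁻¹ * y * c) * (c : G)⁻¹ ∈ K := mul_mem (mul_mem c.2 (hTK hy)) (inv_mem c.2)
        have e : (c : G) * ((c : G)⁻¹ * y * c) * (c : G)⁻¹ = y := by group
        rwa [e] at h3
      have h2 := (h1 ⟨y, hyK⟩).2 (by rw [hP, mem_subgroupOf]; exact hy)
      rw [hQ, mem_subgroupOf] at h2
      exact h2
  refine ⟨g * c, ?_, ?_⟩
  · intro y
    have e1 : (g * (c : G))⁻¹ * y * (g * c) = (c : G)⁻¹ * (g⁻¹ * y * g) * c := by group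
    have e2 : g * (g⁻¹ * y * g) * g⁻¹ = y := by group
    rw [e1, ← hcmem, memT', e2]
  · have hcz : (c : G) * z = z * c := mem_centralizer_singleton_iff.1 c.2
    calc (g * (c : G))⁻¹ * t * (g * c) = (c : G)⁻¹ * (g⁻¹ * t * g) * c := by group
      _ = (c : G)⁻¹ * (z * c) := by rw [hg, mul_assoc]
      _ = z := by rw [← hcz, inv_mul_cancel_left]

theorem tx_central (C : Ctx t T X₁ X₂ H) {a b : G} (ha : a ∈ X₁) (hb : b ∈ X₂) :
    ∀ y ∈ T, t * (a * b) * y = y * (t * (a * b)) := by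
  intro y hy
  have ct : Commute t y := (C.Tt y hy).symm
  have ca : Commute a y := C.c₁ a ha y hy
  have cb : Commute b y := C.c₂ b hb y hy
  exact ct.mul_left (ca.mul_left cb)

/-- **Moved or not moved.** -/
theorem moved_or [Finite G] (C : Ctx t T X₁ X₂ H) :
    Moved t X₁ ∨ ∀ g : G, ∀ x ∈ X₁, g⁻¹ * t * g = t * x → x = 1 := by
  by_contra hcon
  push Not at hcon
  obtain ⟨h1, g, x, hx, hg, hx1⟩ := hcon
  apply h1
  obtain ⟨n, hn, hnt⟩ := C.exists_norm (g := g) (z := t * x) (by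
    have := C.tx_central hx (one_mem X₂)
    rwa [mul_one] at this) hg
  exact C.moved_of_norm hn hx hx1 hnt

/-- **Start of fusion.** -/
theorem exists_moved [Finite G] (C : Ctx t T X₁ X₂ H) (l : T →* ℤˣ) (hl : l ⟨t, C.tT⟩ = -1) :
    (∃ m : G →* ℤˣ, m t = -1) ∨ Moved t X₁ ∨ Moved t X₂ := by
  classical
  by_cases hD : ∃ n z, Maps n T T ∧ n⁻¹ * t * n = t * z ∧ z ≠ 1 ∧ ∃ a ∈ X₁, ∃ b ∈ X₂, z = a * b
  · right
    obtain ⟨n, z, hn, hnt, hz1, a, ha, b, hb, rfl⟩ := hD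
    by_cases ha1 : a = 1
    · right
      rw [ha1, one_mul] at hnt hz1
      exact C.symm.moved_of_norm hn hb hz1 hnt
    by_cases hb1 : b = 1
    · left
      rw [hb1, mul_one] at hnt hz1
      exact C.moved_of_norm hn ha hz1 hnt
    left
    -- mixed: `a₁ ≠ a`
    obtain ⟨a₁, ha₁, ha₁1, ha₁a⟩ := C.big₁ a ha
    have haa : a * a₁ ≠ 1 := by
      intro h
      apply ha₁a
      have h1 : a⁻¹ = a₁ := inv_eq_of_mul_eq_one_right h
      rw [← h1]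
      exact inv_eq_of_mul_eq_one_left (C.sq₁ a ha)
    have ne1 : ∀ {v : G}, v ≠ 1 → n * v * n⁻¹ ≠ 1 := by
      intro v hv h
      apply hv
      calc v = n⁻¹ * (n * v * n⁻¹) * n := by group
        _ = 1 := by rw [h]; group
    -- `h` with `(a b)^h = n (a a₁ b) n⁻¹`
    obtain ⟨h, hh, e⟩ : ∃ h ∈ H, h⁻¹ * (a * b) * h = n * (a * a₁ * b) * n⁻¹ := by
      rcases C.perm n hn with ⟨h1, h2⟩ | ⟨h1, h2⟩
      · have k1 := (h1.inv _).1 (mul_mem ha ha₁)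
        have k2 := (h2.inv _).1 hb
        rw [inv_inv] at k1 k2
        obtain ⟨h, hh, e1, e2⟩ := C.Htr a ha b hb _ k1 _ k2 ha1 hb1 (ne1 haa) (ne1 hb1)
        refine ⟨h, hh, ?_⟩
        calc h⁻¹ * (a * b) * h = (h⁻¹ * a * h) * (h⁻¹ * b * h) := by group
          _ = _ := by rw [e1, e2]; group
      · have k1 := (h2.inv _).1 (mul_mem ha ha₁)
        have k2 := (h1.inv _).1 hb
        rw [inv_inv] at k1 k2
        obtain ⟨h, hh, e1, e2⟩ := C.Htr a ha b hb _ k2 _ k1 ha1 hb1 (ne1 hb1) (ne1 haa)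
        refine ⟨h, hh, ?_⟩
        calc h⁻¹ * (a * b) * h = (h⁻¹ * a * h) * (h⁻¹ * b * h) := by group
          _ = (n * b * n⁻¹) * (n * (a * a₁) * n⁻¹) := by rw [e1, e2]
          _ = n * (b * (a * a₁)) * n⁻¹ := by group
          _ = n * (a * a₁ * b) * n⁻¹ := by rw [C.comm12 (mul_mem ha ha₁) hb]
    -- `n h n` maps `t` to `t a₁`
    refine C.moved_of_norm (n := n * h * n) (x := a₁) ?_ ha₁ ha₁1 ?_
    · exact (hn.mul (C.HT h hh)).mul hn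
    · calc (n * h * n)⁻¹ * t * (n * h * n) = n⁻¹ * (h⁻¹ * (n⁻¹ * t * n) * h) * n := by group
        _ = n⁻¹ * ((h⁻¹ * t * h) * (h⁻¹ * (a * b) * h)) * n := by rw [hnt]; group
        _ = (n⁻¹ * t * n) * (a * a₁ * b) := by rw [C.conj_H hh, e]; group
        _ = t * ((a * b) * (a * a₁ * b)) := by rw [hnt, mul_assoc]
        _ = t * a₁ := by
          congr 1
          calc a * b * (a * a₁ * b) = a * (b * (a * a₁)) * b := by group
            _ = a * ((a * a₁) * b) * b := by rw [C.comm12 (mul_mem ha ha₁) hb]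
            _ = (a * a) * a₁ * (b * b) := by group
            _ = a₁ := by rw [C.sq₁ a ha, C.sq₂ b hb, one_mul, mul_one]
  · left
    push Not at hD
    refine Extremal.exists_hom_of_extremal l C.tt C.tT hl T C.pT (fun x hx => C.Tt x hx) ?_ C.odd
    intro g hgT _ hT
    have hmaps : Maps g T T := by
      let f : T → T := fun x => ⟨g⁻¹ * x * g, hT x x.2⟩
      have hf : Function.Injective f := by
        rintro ⟨a, ha⟩ ⟨b, hb⟩ hab
        have h1 : g⁻¹ * a * g = g⁻¹ * b * g := congrArg Subtype.val hab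
        exact Subtype.ext (mul_left_cancel (mul_right_cancel h1))
      intro x
      refine ⟨hT x, fun hx => ?_⟩
      obtain ⟨⟨y, hy⟩, hfy⟩ := Finite.surjective_of_injective hf ⟨g⁻¹ * x * g, hx⟩
      have h1 : g⁻¹ * y * g = g⁻¹ * x * g := congrArg Subtype.val hfy
      rw [← mul_left_cancel (mul_right_cancel h1)]
      exact hy
    have hcen : ∀ y ∈ T, g⁻¹ * t * g * y = y * (g⁻¹ * t * g) := by
      intro y hy
      have h1 : g * y * g⁻¹ ∈ T := by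
        rw [hmaps]
        have e : g⁻¹ * (g * y * g⁻¹) * g = y := by group
        rwa [e]
      have h2 := C.Tt _ h1
      calc g⁻¹ * t * g * y = g⁻¹ * (t * (g * y * g⁻¹)) * g := by group
        _ = g⁻¹ * ((g * y * g⁻¹) * t) * g := by rw [h2]
        _ = y * (g⁻¹ * t * g) := by group
    obtain ⟨a, ha, b, hb, h | h⟩ := C.Z _ hgT hcen
    · exact absurd h (C.nc g a ha b hb)
    · refine ⟨1, one_mem _, ?_⟩
      rw [h]
      by_cases h1 : a * b = 1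
      · rw [h1]; group
      · exact absurd rfl (hD g (a * b) hmaps h h1 a ha b hb)

end Ctx

theorem maps_of_le [Finite G] {n : G} {X Y : Subgroup G} (h : ∀ x ∈ X, n⁻¹ * x * n ∈ Y)
    (hc : Nat.card X = Nat.card Y) : Maps n X Y := by
  let f : X → Y := fun x => ⟨n⁻¹ * x * n, h x x.2⟩
  have hf : Function.Injective f := by
    rintro ⟨a, ha⟩ ⟨b, hb⟩ hab
    have h1 : n⁻¹ * a * n = n⁻¹ * b * n := congrArg Subtype.val hab
    exact Subtype.ext (mul_left_cancel (mul_right_cancel h1))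
  have hb : Function.Bijective f := (Nat.bijective_iff_injective_and_card f).2 ⟨hf, hc⟩
  intro x
  refine ⟨h x, fun hx => ?_⟩
  obtain ⟨⟨y, hy⟩, hfy⟩ := hb.2 ⟨n⁻¹ * x * n, hx⟩
  have h1 : n⁻¹ * y * n = n⁻¹ * x * n := congrArg Subtype.val hfy
  rw [← mul_left_cancel (mul_right_cancel h1)]
  exact hy

open scoped commutatorElement in
/-- **`N(T)` permutes `X₁, X₂`**, from the commutators `[g, T]` of the elements of the second centre. -/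
theorem perm_of [Finite G] {T X₁ X₂ : Subgroup G} (c₁ : ∀ x ∈ X₁, ∀ y ∈ T, x * y = y * x)
    (c₂ : ∀ x ∈ X₂, ∀ y ∈ T, x * y = y * x) (dis : ∀ x, x ∈ X₁ → x ∈ X₂ → x = 1)
    (card : Nat.card X₁ = Nat.card X₂) (ne : ∃ x ∈ X₁, x ≠ 1)
    (com₁ : X₁ ≤ ⁅T, T⁆) (com₂ : X₂ ≤ ⁅T, T⁆)
    (hZ : ∀ z ∈ ⁅T, T⁆, (∀ y ∈ T, z * y = y * z) → ∃ a ∈ X₁, ∃ b ∈ X₂, z = a * b)
    (g₁ : ∃ g ∈ T, (∀ x ∈ T, ⁅g, x⁆ ∈ X₁) ∧ ∀ y ∈ X₁, ∃ x ∈ T, ⁅g, x⁆ = y)
    (g₂ : ∃ g ∈ T, (∀ x ∈ T, ⁅g, x⁆ ∈ X₂) ∧ ∀ y ∈ X₂, ∃ x ∈ T, ⁅g, x⁆ = y)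
    (h₂ : ∀ g ∈ T, (∀ x ∈ T, ∃ a ∈ X₁, ∃ b ∈ X₂, ⁅g, x⁆ = a * b) → (∀ x ∈ T, ⁅g, x⁆ ∈ X₁) ∨
      (∀ x ∈ T, ⁅g, x⁆ ∈ X₂) ∨ ∀ a ∈ X₁, ∀ b ∈ X₂, ∃ x ∈ T, ⁅g, x⁆ = a * b)
    (n : G) (hn : Maps n T T) : (Maps n X₁ X₁ ∧ Maps n X₂ X₂) ∨ (Maps n X₁ X₂ ∧ Maps n X₂ X₁) := by
  classical
  have ne₂ : ∃ x ∈ X₂, x ≠ 1 := by
    by_contra hcon
    push Not at hcon
    obtain ⟨x, hx, hx1⟩ := ne
    have h1 : X₂ = ⊥ := (Subgroup.eq_bot_iff_forall _).2 hcon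
    rw [h1, Subgroup.card_bot, Subgroup.card_eq_one] at card
    rw [card] at hx
    exact hx1 hx
  have ccom : ∀ a b : G, n⁻¹ * ⁅a, b⁆ * n = ⁅n⁻¹ * a * n, n⁻¹ * b * n⁆ := by
    intro a b
    rw [commutatorElement_def, commutatorElement_def]; group
  have hTT : ∀ z ∈ ⁅T, T⁆, n⁻¹ * z * n ∈ ⁅T, T⁆ := by
    intro z hz
    have h1 : ⁅T, T⁆ ≤ (⁅T, T⁆ : Subgroup G).comap (MulAut.conj n⁻¹).toMonoidHom := by
      rw [commutator_le]
      intro a ha b hb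
      rw [mem_comap]
      have e : (MulAut.conj n⁻¹).toMonoidHom ⁅a, b⁆ = ⁅n⁻¹ * a * n, n⁻¹ * b * n⁆ := by
        show n⁻¹ * ⁅a, b⁆ * n⁻¹⁻¹ = _
        rw [inv_inv, ccom]
      rw [e]
      exact commutator_mem_commutator ((hn a).1 ha) ((hn b).1 hb)
    have h2 := h1 hz
    rw [mem_comap] at h2
    have e : (MulAut.conj n⁻¹).toMonoidHom z = n⁻¹ * z * n := by
      show n⁻¹ * z * n⁻¹⁻¹ = _
      rw [inv_inv]
    rwa [e] at h2
  have hcen : ∀ z, (∀ y ∈ T, z * y = y * z) → ∀ y ∈ T, n⁻¹ * z * n * y = y * (n⁻¹ * z * n) := by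
    intro z hz y hy
    have h1 : n * y * n⁻¹ ∈ T := by
      rw [hn]
      have e : n⁻¹ * (n * y * n⁻¹) * n = y := by group
      rwa [e]
    have h2 := hz _ h1
    calc n⁻¹ * z * n * y = n⁻¹ * (z * (n * y * n⁻¹)) * n := by group
      _ = n⁻¹ * ((n * y * n⁻¹) * z) * n := by rw [h2]
      _ = y * (n⁻¹ * z * n) := by group
  have hT' : ∀ x ∈ T, n * x * n⁻¹ ∈ T := by
    intro x hx
    rw [hn]
    have e : n⁻¹ * (n * x * n⁻¹) * n = x := by group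
    rwa [e]
  -- each `X` (with a witness `g`) is mapped into `X₁` or `X₂`
  have key : ∀ X : Subgroup G, X ≤ ⁅T, T⁆ → (∀ x ∈ X, ∀ y ∈ T, x * y = y * x) → Nat.card X = Nat.card X₁ →
      (∃ g ∈ T, (∀ x ∈ T, ⁅g, x⁆ ∈ X) ∧ ∀ y ∈ X, ∃ x ∈ T, ⁅g, x⁆ = y) →
      (∀ x ∈ X, n⁻¹ * x * n ∈ X₁) ∨ (∀ x ∈ X, n⁻¹ * x * n ∈ X₂) := by
    rintro X hX hXc hXcard ⟨g, hg, hg1, hg2⟩
    have hgn : ∀ x ∈ T, ⁅n⁻¹ * g * n, x⁆ = n⁻¹ * ⁅g, n * x * n⁻¹⁆ * n := by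
      intro x _
      rw [ccom]
      congr 1
      group
    rcases h₂ (n⁻¹ * g * n) ((hn g).1 hg) (fun x hx => by
      rw [hgn x hx]
      have h1 := hg1 _ (hT' x hx)
      exact hZ _ (hTT _ (hX h1)) (hcen _ (hXc _ h1))) with h | h | h
    · left
      intro y hy
      obtain ⟨x, hx, rfl⟩ := hg2 y hy
      rw [ccom]
      exact h _ ((hn x).1 hx)
    · right
      intro y hy
      obtain ⟨x, hx, rfl⟩ := hg2 y hy
      rw [ccom]
      exact h _ ((hn x).1 hx)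
    · exfalso
      have hmem : ∀ a ∈ X₁, ∀ b ∈ X₂, n * (a * b) * n⁻¹ ∈ X := by
        intro a ha b hb
        obtain ⟨x, hx, hxe⟩ := h a ha b hb
        rw [← hxe, hgn x hx]
        have e : n * (n⁻¹ * ⁅g, n * x * n⁻¹⁆ * n) * n⁻¹ = ⁅g, n * x * n⁻¹⁆ := by group
        rw [e]
        exact hg1 _ (hT' x hx)
      let f : X₁ × X₂ → X := fun p => ⟨n * (p.1 * p.2) * n⁻¹, hmem _ p.1.2 _ p.2.2⟩
      have hf : Function.Injective f := by
        rintro ⟨⟨a, ha⟩, ⟨b, hb⟩⟩ ⟨⟨a', ha'⟩, ⟨b', hb'⟩⟩ hab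
        have h1 : n * (a * b) * n⁻¹ = n * (a' * b') * n⁻¹ := congrArg Subtype.val hab
        have h2 : a * b = a' * b' := mul_left_cancel (mul_right_cancel h1)
        have h3 : a'⁻¹ * a = b' * b⁻¹ := by
          calc a'⁻¹ * a = a'⁻¹ * (a * b) * b⁻¹ := by group
            _ = b' * b⁻¹ := by rw [h2]; group
        have h4 : a'⁻¹ * a = 1 := dis _ (mul_mem (inv_mem ha') ha) (by
          rw [h3]; exact mul_mem hb' (inv_mem hb))
        have h5 : b' * b⁻¹ = 1 := by rw [← h3, h4]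
        have h6 : a = a' := (inv_mul_eq_one.1 h4).symm
        have h7 : b = b' := (mul_inv_eq_one.1 h5).symm
        subst h6 h7
        rfl
      have h1 := Nat.card_le_card_of_injective f hf
      rw [Nat.card_prod, hXcard] at h1
      have h2 : 1 < Nat.card X₂ := by
        obtain ⟨x, hx, hx1⟩ := ne₂
        have : Nontrivial X₂ := ⟨⟨x, hx⟩, 1, fun h => hx1 (congrArg Subtype.val h)⟩
        exact Finite.one_lt_card
      have h3 : 0 < Nat.card X₁ := Nat.card_pos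
      nlinarith
  have no : ∀ Y : Subgroup G, (∀ x ∈ X₁, n⁻¹ * x * n ∈ Y) → (∀ x ∈ X₂, n⁻¹ * x * n ∈ Y) →
      Nat.card Y = Nat.card X₁ → False := by
    intro Y h1 h2 hY
    have m1 := maps_of_le h1 hY.symm
    have m2 := maps_of_le h2 (card.symm.trans hY.symm)
    obtain ⟨x, hx, hx1⟩ := ne
    exact hx1 (dis x hx ((m2 x).2 ((m1 x).1 hx)))
  rcases key X₁ com₁ c₁ rfl g₁ with h1 | h1 <;> rcases key X₂ com₂ c₂ card.symm g₂ with h2 | h2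
  · exact absurd (no X₁ h1 h2 rfl) not_false
  · exact Or.inl ⟨maps_of_le h1 rfl, maps_of_le h2 rfl⟩
  · exact Or.inr ⟨maps_of_le h1 card, maps_of_le h2 card.symm⟩
  · exact absurd (no X₂ h1 h2 card.symm) not_false

end Cfsg.Agent.OddHalf.D7F4.Fusion
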