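import Cfsg.Agent.OddHalf.D7F4.TypeC
import Cfsg.Agent.OddHalf.D7F4.CCModel

/-!
# K = F4(q), `q ≥ 4`: if both lengths are moved, both are of type C (S1765, node D7; helper588)

`KT t X H` : the K-facts, `H` a torus; `TorW` : the torus acts on the doubled root groups; `TyC`, `TyO` : the types of the
doubled root groups of one length.

* `wc` : `WS t X W`, `WL t X W`, `TorW t X W H`, one type for each length give `CCModel.WC t X W`;
* `comb` : two families `W₁` (short), `W₂` (long) as one family.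
-/

set_option autoImplicit false

namespace Cfsg.Agent.OddHalf.D7F4.TypeCModel

open Model TypeC

/-- the highest short root -/
abbrev sa : Fin 4 → ℤ := ![2, 3, 2, 1]
/-- short, orthogonal to `sa`, `sa + sb = la` -/
abbrev sb : Fin 4 → ℤ := ![0, 1, 1, 1]
/-- long, `sr + sa = sb` -/
abbrev sr : Fin 4 → ℤ := ![-2, -2, -1, 0]
/-- long, orthogonal to `sa`, `sb` -/
abbrev sd : Fin 4 → ℤ := ![0, 0, 1, 0]
/-- the highest root -/
abbrev la : Fin 4 → ℤ := ![2, 4, 3, 2]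
/-- long, orthogonal to `la`, `la + lb = 2 sa` -/
abbrev lb : Fin 4 → ℤ := ![2, 2, 1, 0]
/-- short, `la + lr = sa` -/
abbrev lr : Fin 4 → ℤ := ![0, -1, -1, -1]
/-- short, orthogonal to `la`, `lb` -/
abbrev ld : Fin 4 → ℤ := ![0, 1, 0, 0]
/-- short, orthogonal to `la` -/
abbrev oa : Fin 4 → ℤ := ![1, 0, 0, 0]
/-- short, `la + sd = 2 om` -/
abbrev om : Fin 4 → ℤ := ![1, 2, 2, 1]

/-- The K-facts. -/
structure KT {G : Type*} [Group G] (t : G) (X : (Fin 4 → ℤ) → Subgroup G) (H : Subgroup G) : Prop where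
  c1s : ∀ k, k * t = t * k → (∀ a ∈ rts, 0 ≤ B a sa → 0 ≤ B a sb → ¬ (B a a = 4 ∧ B a sa = 0 ∧ B a sb = 0) →
    ∀ x ∈ X a, k * x = x * k) → ∃ a ∈ X sa, ∃ b ∈ X sb, ∃ c ∈ X la, k = a * b * c ∨ k = t * (a * b * c)
  c1l : ∀ k, k * t = t * k → (∀ a ∈ rts, 0 ≤ B a la → 0 ≤ B a lb → ¬ (B a a = 2 ∧ B a la = 0 ∧ B a lb = 0) →
    ∀ x ∈ X a, k * x = x * k) → ∃ a ∈ X la, ∃ b ∈ X lb, ∃ c ∈ X sa, k = a * b * c ∨ k = t * (a * b * c)
  c2 : ∃ h ∈ H, (∀ x ∈ X oa, h * x = x * h) ∧ (∀ x ∈ X la, h * x = x * h) ∧ ∀ k, k * t = t * k → k * h = h * k →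
    (∀ f ∈ rts, (B f f = 4 ∧ 0 ≤ B f oa ∧ 0 < B f la ∨ B f f = 2 ∧ 0 < B f oa ∧ 0 ≤ B f la) →
      ∀ x ∈ X f, k * x = x * k) → ∃ a ∈ X oa, ∃ b ∈ X la, k = a * b ∨ k = t * (a * b)
  nds : ∀ x ∈ X sr, ∀ y ∈ X sa, ∃ z ∈ X sb, ∃ w ∈ X la, x * y * x⁻¹ * y⁻¹ = z * w ∧ (w = 1 → x = 1 ∨ y = 1)
  ndl : ∀ x ∈ X la, ∀ y ∈ X lr, ∃ z ∈ X sa, ∃ w ∈ X lb, x * y * x⁻¹ * y⁻¹ = z * w ∧ (z = 1 → x = 1 ∨ y = 1)
  Ht : ∀ h ∈ H, t * h = h * t
  tor : ∀ a ∈ rts, ∀ b ∈ rts, a ≠ b → a ≠ -b → ∃ h ∈ H, (∀ x ∈ X a, h * x = x * h) ∧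
    ∀ x ∈ X b, h * x = x * h → x = 1

/-- The torus acts on the doubled root groups. -/
structure TorW {G : Type*} [Group G] (X W : (Fin 4 → ℤ) → Subgroup G) (H : Subgroup G) : Prop where
  HW : ∀ h ∈ H, ∀ a ∈ rts, ∀ w ∈ W a, h * w * h⁻¹ ∈ W a
  HX : ∀ h ∈ H, ∀ a ∈ rts, (∀ x ∈ X a, h * x = x * h) → ∀ w ∈ W a, h * w = w * h

/-- The doubled root groups of norm `n` are of type C. -/
def TyC {G : Type*} [Group G] (X W : (Fin 4 → ℤ) → Subgroup G) (n : ℤ) : Prop :=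
  ∀ a ∈ rts, ∀ d ∈ rts, B a a = n → B d d = n → B a d = 0 → ∀ w ∈ W a, ∀ x ∈ X d, w * x = x * w

/-- The doubled root groups of norm `n` are of type O. -/
def TyO {G : Type*} [Group G] (X W : (Fin 4 → ℤ) → Subgroup G) (n : ℤ) : Prop :=
  ∀ a ∈ rts, ∀ d ∈ rts, B a a = n → B d d = n → B a d = 0 → ∀ w ∈ W a, w ∉ X a → ∀ x ∈ X d, x ≠ 1 → w * x ≠ x * w

/-- The doubled root groups of all roots. -/
structure WB {G : Type*} [Group G] (t : G) (X W : (Fin 4 → ℤ) → Subgroup G) : Prop where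
  isW : ∀ a ∈ rts, IsW t (X a) (W a)
  WXd : ∀ a ∈ rts, ∀ d ∈ rts, B a a ≠ B d d → 0 ≤ B a d → ∀ w ∈ W a, ∀ x ∈ X d, w * x = x * w
  WXs : ∀ a ∈ rts, ∀ d ∈ rts, B a a = B d d → 0 < B a d → ∀ w ∈ W a, ∀ x ∈ X d, w * x = x * w

section

variable {G : Type*} [Group G] {t : G} {X W : (Fin 4 → ℤ) → Subgroup G} {H : Subgroup G}

theorem wb (hK : KF t X) (hS : WS t X W) (hL : WL t X W) : WB t X W where
  isW a ha := by
    rcases norm a ha with h | h
    · exact ⟨fun x hx => hK.tX a ha x hx, hS.XW a ha h, hS.Wsq a ha h, hS.brk a ha h, hS.cent a ha h, hS.surj a ha h⟩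
    · exact ⟨fun x hx => hK.tX a ha x hx, hL.XW a ha h, hL.Wsq a ha h, hL.brk a ha h, hL.cent a ha h, hL.surj a ha h⟩
  WXd a ha d hd h1 h2 := by
    have h3 := B_symm a d
    rcases norm a ha with h | h <;> rcases norm d hd with h' | h'
    · omega
    · exact hS.WX a ha h d hd (Or.inl ⟨h', by omega⟩)
    · exact hL.WX a ha h d hd (Or.inl ⟨h', by omega⟩)
    · omega
  WXs a ha d hd h1 h2 := by
    have h3 := B_symm a d
    rcases norm a ha with h | h <;> rcases norm d hd with h' | h'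
    · exact hS.WX a ha h d hd (Or.inr ⟨h', by omega⟩)
    · omega
    · omega
    · exact hL.WX a ha h d hd (Or.inr ⟨h', by omega⟩)

/-! ### Root combinatorics -/

theorem m_sa : sa ∈ rts := by decide +kernel
theorem m_sb : sb ∈ rts := by decide +kernel
theorem m_sr : sr ∈ rts := by decide +kernel
theorem m_sd : sd ∈ rts := by decide +kernel
theorem m_la : la ∈ rts := by decide +kernel
theorem m_lb : lb ∈ rts := by decide +kernel
theorem m_lr : lr ∈ rts := by decide +kernel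
theorem m_ld : ld ∈ rts := by decide +kernel
theorem m_oa : oa ∈ rts := by decide +kernel
theorem m_om : om ∈ rts := by decide +kernel

/-- the families of `false_of_C_O` -/
theorem fam_s : ∀ a ∈ rts, 0 ≤ B a sa → 0 ≤ B a sb → ¬ (B a a = 4 ∧ B a sa = 0 ∧ B a sb = 0) →
    (B la la = B a a → 0 < B la a) ∧ 0 ≤ B la a ∧ (0 ≤ B sr a ∨ (B a a = 4 ∧ B sr a < 0 ∧ sr ≠ -a ∧ sr + a ∈ rts ∧
      0 ≤ B sa (sr + a) ∧ B (sr + a) (sr + a) = 4) ∨ a = sa) := by decide +kernel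
theorem fam_l : ∀ a ∈ rts, 0 ≤ B a la → 0 ≤ B a lb → ¬ (B a a = 2 ∧ B a la = 0 ∧ B a lb = 0) →
    (B sa sa = B a a → 0 < B sa a) ∧ 0 ≤ B sa a ∧ (0 ≤ B lr a ∨ (B a a = 2 ∧ B lr a < 0 ∧ lr ≠ -a ∧ lr + a ∈ rts ∧
      0 ≤ B la (lr + a) ∧ B (lr + a) (lr + a) = 2) ∨ a = la) := by decide +kernel
theorem fam_o : ∀ f ∈ rts, (B f f = 4 ∧ 0 ≤ B f oa ∧ 0 < B f la ∨ B f f = 2 ∧ 0 < B f oa ∧ 0 ≤ B f la) →
    (B f f = 4 ∧ 0 ≤ B oa f ∧ 0 < B la f ∨ B f f = 2 ∧ 0 < B oa f ∧ 0 ≤ B la f) := by decide +kernel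

/-- `W a` commutes with `X d`, `B a d ≥ 0`, type C -/
theorem WB.all (hW : WB t X W) {a : Fin 4 → ℤ} (ha : a ∈ rts) (hC : TyC X W (B a a)) {d : Fin 4 → ℤ} (hd : d ∈ rts)
    (h : 0 ≤ B a d) {w x : G} (hw : w ∈ W a) (hx : x ∈ X d) : w * x = x * w := by
  by_cases h1 : B a a = B d d
  · rcases h.lt_or_eq with h2 | h2
    · exact hW.WXs a ha d hd h1 h2 w hw x hx
    · exact hC a ha d hd rfl h1.symm h2.symm w hw x hx
  · exact hW.WXd a ha d hd h1 h w hw x hx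

theorem WB.mix (hW : WB t X W) {a : Fin 4 → ℤ} (ha : a ∈ rts) {d : Fin 4 → ℤ} (hd : d ∈ rts)
    (h : 0 ≤ B a d) (h' : B a a = B d d → 0 < B a d) {w x : G} (hw : w ∈ W a) (hx : x ∈ X d) : w * x = x * w := by
  by_cases h1 : B a a = B d d
  · exact hW.WXs a ha d hd h1 (h' h1) w hw x hx
  · exact hW.WXd a ha d hd h1 h w hw x hx

theorem TyO.mem {n : ℤ} (hO : TyO X W n) (hK : KF t X) {a d : Fin 4 → ℤ} (ha : a ∈ rts) (hd : d ∈ rts) (h1 : B a a = n)
    (h2 : B d d = n) (h3 : B a d = 0) {w : G} (hw : w ∈ W a) (hc : ∀ x ∈ X d, w * x = x * w) : w ∈ X a := by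
  by_contra h
  obtain ⟨x, hx, hx1⟩ := hK.Xne d hd
  exact hO a ha d hd h1 h2 h3 w hw h x hx hx1 (hc x hx)

/-- **Type C for the short roots, type O for the long roots: impossible.** -/
theorem false_C_O (hK : KF t X) (hT : KT t X H) (hW : WB t X W) (hC : TyC X W 2) (hO : TyO X W 4) : False := by
  have cs : ∀ d ∈ rts, 0 ≤ B sa d → ∀ w ∈ W sa, ∀ x ∈ X d, w * x = x * w := fun d hd h w hw x hx =>
    hW.all m_sa hC hd h hw hx
  have cs1 : ∀ d ∈ rts, 0 ≤ B sb d → ∀ w ∈ W sb, ∀ x ∈ X d, w * x = x * w := fun d hd h w hw x hx =>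
    hW.all m_sb hC hd h hw hx
  refine false_of_C_O (Xs := X sa) (Xs1 := X sb) (Xr := X sr) (Xp := X la) (Xd := X sd) hK.tt (hW.isW sa m_sa)
    (hW.isW sb m_sb) (hW.isW la m_la) (hK.tX sr m_sr) (hK.Xne sa m_sa) (hK.Xne sr m_sr)
    (cs la m_la (by decide)) (cs1 la m_la (by decide)) (cs1 sa m_sa (by decide)) ?_ (hK.tX sd m_sd)
    (cs sd m_sd (by decide)) (cs1 sd m_sd (by decide)) (hK.X0 la m_la sd m_sd (by decide))
    (hK.X0 sr m_sr sd m_sd (by decide))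
    (fun z hz hc => hO.mem hK m_la m_sd (by decide) (by decide) (by decide) hz hc)
    {v | ∃ a ∈ rts, 0 ≤ B a sa ∧ 0 ≤ B a sb ∧ ¬ (B a a = 4 ∧ B a sa = 0 ∧ B a sb = 0) ∧ v ∈ X a} ?_ ?_ ?_ ?_ ?_
  · intro u hu x hx
    obtain ⟨z, hz, w, hw, e, hw1⟩ := hT.nds x⁻¹ (inv_mem hx) u hu
    refine ⟨z, hz, w, hw, ?_, fun h1 h2 h3 => ?_⟩
    · have e1 : u * z = z * u := hK.X0 sa m_sa sb m_sb (by decide) u hu z hz
      have e2 : u * w = w * u := hK.X0 sa m_sa la m_la (by decide) u hu w hw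
      calc x⁻¹ * u * x = x⁻¹ * u * x⁻¹⁻¹ * u⁻¹ * u := by group
        _ = z * w * u := by rw [e]
        _ = z * (w * u) := by group
        _ = z * u * w := by rw [← e2]; group
        _ = u * z * w := by rw [e1]
    · rcases hw1 h3 with h4 | h4
      · exact h2 (inv_eq_one.1 h4)
      · exact h1 h4
  · rintro y hy v ⟨a, ha, h1, h2, h3, hv⟩
    exact cs a ha (by rw [B_symm]; exact h1) y hy v hv
  · rintro y hy x hx v ⟨a, ha, h1, h2, h3, hv⟩
    obtain ⟨-, -, h4⟩ := fam_s a ha h1 h2 h3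
    have hyv : y * v = v * y := cs a ha (by rw [B_symm]; exact h1) y hy v hv
    -- `y` commutes with `x v x⁻¹ v⁻¹`
    have key : Commute y (x * v * x⁻¹ * v⁻¹) := by
      rcases h4 with h4 | ⟨h4, h5, h6, h7, h8, h9⟩ | h4
      · have e1 : x * v * x⁻¹ * v⁻¹ = 1 := by
          rw [hK.X0 sr m_sr a ha h4 x hx v hv]; group
        rw [e1]; exact Commute.one_right y
      · exact cs (sr + a) h7 h8 y hy _ (hK.X1 sr m_sr a ha (by rw [h4]; decide) h5 h6 x hx v hv)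
      · subst h4
        obtain ⟨z, hz, w, hw, e⟩ := hK.X2 sr m_sr sa m_sa (by decide) (by decide) (by decide) x hx v hv
        rw [e]
        have c1 : Commute y z := cs (sr + sa) (by decide +kernel) (by decide) y hy z hz
        have c2 : Commute y w := cs (sr + sa + sa) (by decide +kernel) (by decide) y hy w hw
        exact c1.mul_right c2
    have c1 : Commute y (x * v * x⁻¹) := by
      have h5 : x * v * x⁻¹ = x * v * x⁻¹ * v⁻¹ * v := by group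
      rw [h5]
      exact key.mul_right hyv
    calc x⁻¹ * y * x * v = x⁻¹ * (y * (x * v * x⁻¹)) * x := by group
      _ = x⁻¹ * (x * v * x⁻¹ * y) * x := by rw [c1.eq]
      _ = v * (x⁻¹ * y * x) := by group
  · rintro y hy v ⟨a, ha, h1, h2, h3, hv⟩
    exact cs1 a ha (by rw [B_symm]; exact h2) y hy v hv
  · rintro z hz v ⟨a, ha, h1, h2, h3, hv⟩
    obtain ⟨h4, h5, -⟩ := fam_s a ha h1 h2 h3
    exact hW.mix m_la ha h5 h4 hz hv
  · intro k hk hF
    exact hT.c1s k hk fun a ha h1 h2 h3 x hx => hF x ⟨a, ha, h1, h2, h3, hx⟩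

/-- **Type O for the short roots, type C for the long roots: impossible.** -/
theorem false_O_C (hK : KF t X) (hT : KT t X H) (hW : WB t X W) (hO : TyO X W 2) (hC : TyC X W 4) : False := by
  have cs : ∀ d ∈ rts, 0 ≤ B la d → ∀ w ∈ W la, ∀ x ∈ X d, w * x = x * w := fun d hd h w hw x hx =>
    hW.all m_la hC hd h hw hx
  have cs1 : ∀ d ∈ rts, 0 ≤ B lb d → ∀ w ∈ W lb, ∀ x ∈ X d, w * x = x * w := fun d hd h w hw x hx =>
    hW.all m_lb hC hd h hw hx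
  refine false_of_C_O (Xs := X la) (Xs1 := X lb) (Xr := X lr) (Xp := X sa) (Xd := X ld) hK.tt (hW.isW la m_la)
    (hW.isW lb m_lb) (hW.isW sa m_sa) (hK.tX lr m_lr) (hK.Xne la m_la) (hK.Xne lr m_lr)
    (cs sa m_sa (by decide)) (cs1 sa m_sa (by decide)) (cs1 la m_la (by decide)) ?_ (hK.tX ld m_ld)
    (cs ld m_ld (by decide)) (cs1 ld m_ld (by decide)) (hK.X0 sa m_sa ld m_ld (by decide))
    (hK.X0 lr m_lr ld m_ld (by decide))
    (fun z hz hc => hO.mem hK m_sa m_ld (by decide) (by decide) (by decide) hz hc)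
    {v | ∃ a ∈ rts, 0 ≤ B a la ∧ 0 ≤ B a lb ∧ ¬ (B a a = 2 ∧ B a la = 0 ∧ B a lb = 0) ∧ v ∈ X a} ?_ ?_ ?_ ?_ ?_
  · intro u hu x hx
    obtain ⟨z, hz, w, hw, e, hz1⟩ := hT.ndl u⁻¹ (inv_mem hu) x⁻¹ (inv_mem hx)
    refine ⟨w, hw, z, hz, ?_, fun h1 h2 h3 => ?_⟩
    · have e1 : z * w = w * z := hK.X0 sa m_sa lb m_lb (by decide) z hz w hw
      calc x⁻¹ * u * x = u * (u⁻¹ * x⁻¹ * u⁻¹⁻¹ * x⁻¹⁻¹) := by group
        _ = u * w * z := by rw [e, e1]; group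
    · rcases hz1 h3 with h4 | h4
      · exact h1 (inv_eq_one.1 h4)
      · exact h2 (inv_eq_one.1 h4)
  · rintro y hy v ⟨a, ha, h1, h2, h3, hv⟩
    exact cs a ha (by rw [B_symm]; exact h1) y hy v hv
  · rintro y hy x hx v ⟨a, ha, h1, h2, h3, hv⟩
    obtain ⟨-, -, h4⟩ := fam_l a ha h1 h2 h3
    have hyv : y * v = v * y := cs a ha (by rw [B_symm]; exact h1) y hy v hv
    have key : Commute y (x * v * x⁻¹ * v⁻¹) := by
      rcases h4 with h4 | ⟨h4, h5, h6, h7, h8, h9⟩ | h4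
      · have e1 : x * v * x⁻¹ * v⁻¹ = 1 := by
          rw [hK.X0 lr m_lr a ha h4 x hx v hv]; group
        rw [e1]; exact Commute.one_right y
      · exact cs (lr + a) h7 h8 y hy _ (hK.X1 lr m_lr a ha (by rw [h4]; decide) h5 h6 x hx v hv)
      · subst h4
        obtain ⟨z, hz, w, hw, e⟩ := hK.X2 la m_la lr m_lr (by decide) (by decide) (by decide) v hv x hx
        have e1 : x * v * x⁻¹ * v⁻¹ = (z * w)⁻¹ := by rw [← e]; group
        rw [e1]
        have c1 : Commute y z := cs (la + lr) (by decide +kernel) (by decide) y hy z hz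
        have c2 : Commute y w := cs (la + lr + lr) (by decide +kernel) (by decide) y hy w hw
        exact (c1.mul_right c2).inv_right
    have c1 : Commute y (x * v * x⁻¹) := by
      have h5 : x * v * x⁻¹ = x * v * x⁻¹ * v⁻¹ * v := by group
      rw [h5]
      exact key.mul_right hyv
    calc x⁻¹ * y * x * v = x⁻¹ * (y * (x * v * x⁻¹)) * x := by group
      _ = x⁻¹ * (x * v * x⁻¹ * y) * x := by rw [c1.eq]
      _ = v * (x⁻¹ * y * x) := by group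
  · rintro y hy v ⟨a, ha, h1, h2, h3, hv⟩
    exact cs1 a ha (by rw [B_symm]; exact h2) y hy v hv
  · rintro z hz v ⟨a, ha, h1, h2, h3, hv⟩
    obtain ⟨h4, h5, -⟩ := fam_l a ha h1 h2 h3
    exact hW.mix m_sa ha h5 h4 hz hv
  · intro k hk hF
    exact hT.c1l k hk fun a ha h1 h2 h3 x hx => hF x ⟨a, ha, h1, h2, h3, hx⟩

/-- **Type O for both lengths: impossible.** -/
theorem false_O_O [Finite G] (hK : KF t X) (hT : KT t X H) (hW : WB t X W) (hL : WL t X W) (hH : TorW X W H)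
    (hO : TyO X W 2) (hO' : TyO X W 4) : False := by
  obtain ⟨h, hhH, hha, hhl, hc2⟩ := hT.c2
  obtain ⟨δ, hδ, d1, d2⟩ := hT.tor oa m_oa la m_la (by decide) (by decide)
  obtain ⟨δ', hδ', d1', d2'⟩ := hT.tor la m_la oa m_oa (by decide) (by decide)
  refine false_of_O_O (Xa := X oa) (Xp := X la) (Xr := X sd) (Xm := X om) hK.tt (hW.isW oa m_oa) (hW.isW la m_la)
    (hK.Xne oa m_oa) (hK.Xne la m_la) (hW.WXd oa m_oa la m_la (by decide) (by decide))
    (hW.WXd la m_la oa m_oa (by decide) (by decide)) (hW.WXd oa m_oa sd m_sd (by decide) (by decide)) ?_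
    (fun z hz hc => hO'.mem hK m_la m_sd (by decide) (by decide) (by decide) hz hc) ?_
    (fun x hx hx' => hK.ind oa m_oa la m_la (by decide) x hx hx')
    ({v | ∃ f ∈ rts, (B f f = 4 ∧ 0 ≤ B f oa ∧ 0 < B f la ∨ B f f = 2 ∧ 0 < B f oa ∧ 0 ≤ B f la) ∧ v ∈ X f} ∪ {h})
    ?_ ?_ ?_ (hT.Ht δ hδ) (hH.HX δ hδ oa m_oa d1) (hH.HW δ hδ la m_la) d2 (hT.Ht δ' hδ')
    (hH.HX δ' hδ' la m_la d1') (hH.HW δ' hδ' oa m_oa) d2'
  · intro z hz x hx
    have h1 := hL.WX0 la m_la (by decide) sd m_sd (by decide) (by decide) om m_om (by decide) z⁻¹ (inv_mem hz)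
      x⁻¹ (inv_mem hx)
    have e : z⁻¹ * (x⁻¹ * z * x) = z⁻¹ * x⁻¹ * z⁻¹⁻¹ * x⁻¹⁻¹ := by group
    rw [e]; exact h1
  · intro y hy u hu hu1 hyu
    by_contra hn
    exact hO oa m_oa om m_om (by decide) (by decide) (by decide) y hy hn u hu hu1 hyu
  · rintro y hy v (⟨f, hf, h1, hv⟩ | rfl)
    · have h2 := fam_o f hf h1
      refine hW.mix m_oa hf ?_ (fun h3 => ?_) hy hv
      · rcases h2 with h2 | h2 <;> omega
      · have h4 : B oa oa = 2 := by decide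
        rcases h2 with h2 | h2 <;> omega
    · exact (hH.HX _ hhH oa m_oa hha y hy).symm
  · rintro z hz v (⟨f, hf, h1, hv⟩ | rfl)
    · have h2 := fam_o f hf h1
      refine hW.mix m_la hf ?_ (fun h3 => ?_) hz hv
      · rcases h2 with h2 | h2 <;> omega
      · have h4 : B la la = 4 := by decide
        rcases h2 with h2 | h2 <;> omega
    · exact (hH.HX _ hhH la m_la hhl z hz).symm
  · intro k hk hF
    exact hc2 k hk (hF h (Or.inr rfl)) fun f hf h1 x hx => hF x (Or.inl ⟨f, hf, h1, hx⟩)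

/-- **Both lengths moved: both of type C.** -/
theorem both_C [Finite G] (hK : KF t X) (hT : KT t X H) (hS : WS t X W) (hL : WL t X W) (hH : TorW X W H)
    (h2 : TyC X W 2 ∨ TyO X W 2) (h4 : TyC X W 4 ∨ TyO X W 4) : TyC X W 2 ∧ TyC X W 4 := by
  have hW := wb hK hS hL
  rcases h2 with h2 | h2 <;> rcases h4 with h4 | h4
  · exact ⟨h2, h4⟩
  · exact (false_C_O hK hT hW h2 h4).elim
  · exact (false_O_C hK hT hW h2 h4).elim
  · exact (false_O_O hK hT hW hL hH h2 h4).elim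

/-- **Both lengths moved**: the doubled root groups of `CCModel`. -/
theorem wc [Finite G] (hK : KF t X) (hT : KT t X H) (hS : WS t X W) (hL : WL t X W) (hH : TorW X W H)
    (h2 : TyC X W 2 ∨ TyO X W 2) (h4 : TyC X W 4 ∨ TyO X W 4) : CCModel.WC t X W := by
  have hW := wb hK hS hL
  obtain ⟨h2, h4⟩ := both_C hK hT hS hL hH h2 h4
  refine ⟨hW.isW, fun a ha d hd h w hw x hx => ?_, fun a ha b hb h1 h3 => ?_⟩
  · have hC : TyC X W (B a a) := by
      rcases norm a ha with h1 | h1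
      · rw [h1]; exact h2
      · rw [h1]; exact h4
    exact hW.all ha hC hd h hw hx
  · obtain ⟨δ, hδ, d1, d2⟩ := hT.tor a ha b hb h1 h3
    exact ⟨δ, hT.Ht δ hδ, hH.HX δ hδ a ha d1, fun c hc w hw => hH.HW δ hδ c hc w hw, d2⟩

/-! ### Two families -/

open Classical in
/-- `W₁` for the short, `W₂` for the long roots -/
noncomputable def comb (W₁ W₂ : (Fin 4 → ℤ) → Subgroup G) (a : Fin 4 → ℤ) : Subgroup G :=
  if B a a = 2 then W₁ a else W₂ a

theorem comb_short (W₁ W₂ : (Fin 4 → ℤ) → Subgroup G) {a : Fin 4 → ℤ} (h : B a a = 2) : comb W₁ W₂ a = W₁ a :=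
  if_pos h

theorem comb_long (W₁ W₂ : (Fin 4 → ℤ) → Subgroup G) {a : Fin 4 → ℤ} (h : B a a = 4) : comb W₁ W₂ a = W₂ a :=
  if_neg (by omega)

theorem WS.comb {W₁ : (Fin 4 → ℤ) → Subgroup G} (h : WS t X W₁) (W₂ : (Fin 4 → ℤ) → Subgroup G) :
    WS t X (comb W₁ W₂) where
  XW s hs hss := by rw [comb_short W₁ W₂ hss]; exact h.XW s hs hss
  Wsq s hs hss := by rw [comb_short W₁ W₂ hss]; exact h.Wsq s hs hss
  brk s hs hss := by rw [comb_short W₁ W₂ hss]; exact h.brk s hs hss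
  cent s hs hss := by rw [comb_short W₁ W₂ hss]; exact h.cent s hs hss
  surj s hs hss := by rw [comb_short W₁ W₂ hss]; exact h.surj s hs hss
  WX s hs hss := by rw [comb_short W₁ W₂ hss]; exact h.WX s hs hss
  WX0 s hs hss := by rw [comb_short W₁ W₂ hss]; exact h.WX0 s hs hss

theorem WL.comb {W₂ : (Fin 4 → ℤ) → Subgroup G} (h : WL t X W₂) (W₁ : (Fin 4 → ℤ) → Subgroup G) :
    WL t X (comb W₁ W₂) where
  XW s hs hss := by rw [comb_long W₁ W₂ hss]; exact h.XW s hs hss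
  Wsq s hs hss := by rw [comb_long W₁ W₂ hss]; exact h.Wsq s hs hss
  brk s hs hss := by rw [comb_long W₁ W₂ hss]; exact h.brk s hs hss
  cent s hs hss := by rw [comb_long W₁ W₂ hss]; exact h.cent s hs hss
  surj s hs hss := by rw [comb_long W₁ W₂ hss]; exact h.surj s hs hss
  WX s hs hss := by rw [comb_long W₁ W₂ hss]; exact h.WX s hs hss
  WX0 s hs hss := by rw [comb_long W₁ W₂ hss]; exact h.WX0 s hs hss

/-- The torus acts on the doubled root groups of norm `n`. -/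
structure TorN {G : Type*} [Group G] (X W : (Fin 4 → ℤ) → Subgroup G) (H : Subgroup G) (n : ℤ) : Prop where
  HW : ∀ h ∈ H, ∀ a ∈ rts, B a a = n → ∀ w ∈ W a, h * w * h⁻¹ ∈ W a
  HX : ∀ h ∈ H, ∀ a ∈ rts, B a a = n → (∀ x ∈ X a, h * x = x * h) → ∀ w ∈ W a, h * w = w * h

variable {W₁ W₂ : (Fin 4 → ℤ) → Subgroup G}

theorem TorW.comb (h1 : TorN X W₁ H 2) (h2 : TorN X W₂ H 4) : TorW X (comb W₁ W₂) H where
  HW h hh a ha := by
    rcases norm a ha with hn | hn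
    · rw [comb_short W₁ W₂ hn]; exact h1.HW h hh a ha hn
    · rw [comb_long W₁ W₂ hn]; exact h2.HW h hh a ha hn
  HX h hh a ha hx := by
    rcases norm a ha with hn | hn
    · rw [comb_short W₁ W₂ hn]; exact h1.HX h hh a ha hn hx
    · rw [comb_long W₁ W₂ hn]; exact h2.HX h hh a ha hn hx

theorem TyC.comb_short (h : TyC X W₁ 2) : TyC X (comb W₁ W₂) 2 := fun a ha d hd h1 h2 h3 => by
  rw [TypeCModel.comb_short W₁ W₂ h1]; exact h a ha d hd h1 h2 h3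

theorem TyC.comb_long (h : TyC X W₂ 4) : TyC X (comb W₁ W₂) 4 := fun a ha d hd h1 h2 h3 => by
  rw [TypeCModel.comb_long W₁ W₂ h1]; exact h a ha d hd h1 h2 h3

theorem TyO.comb_short (h : TyO X W₁ 2) : TyO X (comb W₁ W₂) 2 := fun a ha d hd h1 h2 h3 => by
  rw [TypeCModel.comb_short W₁ W₂ h1]; exact h a ha d hd h1 h2 h3

theorem TyO.comb_long (h : TyO X W₂ 4) : TyO X (comb W₁ W₂) 4 := fun a ha d hd h1 h2 h3 => by
  rw [TypeCModel.comb_long W₁ W₂ h1]; exact h a ha d hd h1 h2 h3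

/-- **Both lengths moved**, with a family for each length. -/
theorem wc_comb [Finite G] (hK : KF t X) (hT : KT t X H) (hS : WS t X W₁) (hL : WL t X W₂) (h1 : TorN X W₁ H 2)
    (h2 : TorN X W₂ H 4) (t2 : TyC X W₁ 2 ∨ TyO X W₁ 2) (t4 : TyC X W₂ 4 ∨ TyO X W₂ 4) :
    CCModel.WC t X (comb W₁ W₂) :=
  wc hK hT (WS.comb hS W₂) (WL.comb hL W₁) (TorW.comb h1 h2) (t2.imp TyC.comb_short TyO.comb_short)
    (t4.imp TyC.comb_long TyO.comb_long)

end

end Cfsg.Agent.OddHalf.D7F4.TypeCModel
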