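import Cfsg.Agent.OddHalf.D7F4.RowCC
import Cfsg.Agent.OddHalf.D7F4.RowOne
import Cfsg.Agent.OddHalf.D7F4.StartF4
import Cfsg.Agent.OddHalf.D7F4.TypeCInst
import Cfsg.Agent.OddHalf.D7F4.KInst
import Cfsg.Agent.OddHalf.D7F4Ex.DbsEx
import Cfsg.Agent.OddHalf.D7F4Ex.DbsOut
import Cfsg.Agent.OddHalf.D7F4Ex.DbsTy

/-!
# K = F4(q), q ≥ 4 even: the row of the node D7 (S1765; helper84)

`Row.node : Node @FamF4'`.
-/

set_option autoImplicit false
set_option Elab.async false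
set_option linter.unusedSectionVars false

namespace Cfsg.Agent.OddHalf.D7F4.Row

open Subgroup Cfsg.Lie
open Cfsg.Agent.ChevalleyStructure Cfsg.Agent.ChevalleyStructure.Elts
open Cfsg.Agent.KFacts.ChevTwoTab Cfsg.Agent.KFacts.ChevTwoInst Cfsg.Agent.KFacts.F4Pair
  Cfsg.Agent.KFacts.F4Torus Cfsg.Agent.KFacts.F4Cent
open Cfsg.Agent.OddHalf.D7F4 Cfsg.Agent.OddHalf.D7F4.Model Cfsg.Agent.OddHalf.D7F4.FrOut
  Cfsg.Agent.OddHalf.D7F4.Fusion Cfsg.Agent.OddHalf.D7F4.Adapted Cfsg.Agent.OddHalf.D7F4.KFront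
  Cfsg.Agent.OddHalf.D7F4Ex Cfsg.Agent.OddHalf.D7F4.TypeCModel Cfsg.Agent.OddHalf.D7.Cases
  Cfsg.Agent.OddHalf.Iface

universe u v

/-- the square root -/
theorem exists_rt (F : Type v) [Field F] [Finite F] [CharP F 2] : ∃ rt : F ≃+* F, ∀ u, rt u ^ 2 = u := by
  have : Fact (Nat.Prime 2) := ⟨Nat.prime_two⟩
  have : ExpChar F 2 := inferInstance
  have : PerfectRing F 2 := inferInstance
  exact ⟨(frobeniusEquiv F 2).symm, fun u => frobeniusEquiv_symm_pow_p F 2 u⟩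

variable {G : Type u} [Group G] {F : Type v} [Field F] [Finite F] [CharP F 2] {f : ↥(chevF4.group F) →* G} {t g : G}
  {T : Subgroup G}

/-! ### The centraliser of the common part of two parabolic subgroups -/

theorem tabK1 : ∀ s ∈ rts, ∀ s' ∈ rts, B s s = 2 → B s' s' = 2 → B s s' = 1 →
    B (dual s) (dual s') = 2 := by decide +kernel

theorem tabK2 : ∀ s ∈ rts, ∀ b ∈ rts, B s s = 2 → (B b b = 2 ∧ 0 ≤ B b (dual s) ∨ B b b = 4 ∧ 0 < B b (dual s)) →
    B (dual b) (dual b) = 4 ∧ 0 ≤ B (dual b) s ∨ B (dual b) (dual b) = 2 ∧ 0 < B (dual b) s := by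
  decide +kernel

theorem k2e_short (hK : KF t (XG f)) : K2E t (fun a u => f (eF F a u)) := by
  intro s hs s' hs' h2 h2' h1 c hc h
  obtain ⟨x, hx, y, hy, z, hz, e⟩ := hK.K2s s hs s' hs' h2 h2' (by omega) (by omega) c hc (fun a ha hP x hx => by
    obtain ⟨u, rfl⟩ := (mem_XG ha).1 hx
    refine h a ha ?_ ?_ u
    · rcases hP with ⟨a1, a2, -⟩ | ⟨a1, a2, -⟩
      · exact Or.inl ⟨a1, a2⟩
      · exact Or.inr ⟨a1, a2⟩
    · rcases hP with ⟨a1, -, a2⟩ | ⟨a1, -, a2⟩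
      · exact Or.inl ⟨a1, a2⟩
      · exact Or.inr ⟨a1, a2⟩)
  obtain ⟨u, rfl⟩ := (mem_XG hs).1 hx
  obtain ⟨u', rfl⟩ := (mem_XG hs').1 hy
  rcases hz with ⟨-, rfl⟩ | ⟨h3, -⟩
  · rw [mul_one] at e
    exact ⟨u, u', e⟩
  · omega

theorem k2e_long (hK : KF t (XG f)) {rt : F ≃+* F} : K2E t (fun a u => f (dualE rt (eF F) a u)) := by
  intro s hs s' hs' h2 h2' h1 c hc h
  have g1 := dual_mem s hs
  have g2 := dual_mem s' hs'
  have n1 := dn2 s hs h2
  have n2 := dn2 s' hs' h2'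
  have n3 := tabK1 s hs s' hs' h2 h2' h1
  obtain ⟨x, hx, y, hy, z, hz, e⟩ := hK.K2l _ g1 _ g2 n1 n2 (by omega) (by omega) c hc (fun b hb hP x hx => by
    obtain ⟨u, rfl⟩ := (mem_XG hb).1 hx
    have hb' := dual_mem b hb
    have c1 : Cs s (dual b) := tabK2 s hs b hb h2 (by
      rcases hP with ⟨a1, a2, -⟩ | ⟨a1, a2, -⟩
      · exact Or.inl ⟨a1, a2⟩
      · exact Or.inr ⟨a1, a2⟩)
    have c2 : Cs s' (dual b) := tabK2 s' hs' b hb h2' (by
      rcases hP with ⟨a1, -, a2⟩ | ⟨a1, -, a2⟩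
      · exact Or.inl ⟨a1, a2⟩
      · exact Or.inr ⟨a1, a2⟩)
    rcases norm _ hb' with h3 | h3
    · have h4 := h _ hb' c1 c2 u
      simp only [dualE_short rt h3, dual_dual b hb] at h4
      exact h4
    · have h4 := h _ hb' c1 c2 (rt.symm u)
      simp only [dualE_long rt h3, dual_dual b hb, RingEquiv.apply_symm_apply] at h4
      exact h4)
  obtain ⟨u, rfl⟩ := (mem_XG g1).1 hx
  obtain ⟨u', rfl⟩ := (mem_XG g2).1 hy
  refine ⟨u, u', ?_⟩
  simp only [dualE_short rt h2, dualE_short rt h2']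
  rcases hz with ⟨-, rfl⟩ | ⟨h3, -⟩ | ⟨h3, -⟩
  · rw [mul_one] at e
    exact e
  · omega
  · omega

/-- **One of the two lengths is moved.** -/
theorem not_mem [Finite G] (hF : 2 < Nat.card F) (O : FrO t f T g)
    (hm : Moved t (XG f (v 47)) ∨ Moved t (XG f (v 44))) : t ∉ _root_.commutator G := by
  have hq := RowOne.exists_unit (F := F) hF
  obtain ⟨rt, hrt⟩ := exists_rt F
  have kf := KInst.kf O.R KInst.innerX hF
  have h44 : v 44 = s0 := by rw [RowOne.v44]; decide +kernel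
  have h47 : v 47 = dual s0 := by rw [RowOne.v47]; decide +kernel
  by_cases h1 : Moved t (XG f (v 47))
  · have h1' := h1
    rw [h47] at h1'
    obtain ⟨W2, κ2, c2, D2⟩ := dbs_long hq hrt O.R h1'
    have h0 := D2.c0_eq (k2e_long kf)
    subst h0
    have wl : WL t (XG f) (fun a => W2 (dual a)) := wl_XG D2
    by_cases h2 : Moved t (XG f (v 44))
    · have h2' := h2
      rw [h44] at h2'
      obtain ⟨W1, κ1, c1, D1⟩ := dbs_short hq O.R h2'
      have h0 := D1.c0_eq (k2e_short kf)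
      subst h0
      have ws : WS t (XG f) W1 := ws_XG D1
      have n1 : TorN (XG f) W1 ((TF F).map f) 2 := by
        rw [← range_short f]; exact D1.torN_short (xof_short f)
      have n2 : TorN (XG f) (fun a => W2 (dual a)) ((TF F).map f) 4 := by
        rw [← range_long hrt f]; exact D2.torN_long (xof_long rt f)
      exact RowCC.row hF O kf (KInst.kg O.R KInst.innerX)
        (wc_comb kf (TypeCInst.kt O.R hF) ws wl n1 n2 (D1.ty_short (xof_short f)) (D2.ty_long (xof_long rt f)))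
        (TorW.comb n1 n2)
    · exact RowOne.row_long hF O rt hrt D2 wl h1 h2
  · have h2 := hm.resolve_left h1
    have h2' := h2
    rw [h44] at h2'
    obtain ⟨W1, κ1, c1, D1⟩ := dbs_short hq O.R h2'
    have h0 := D1.c0_eq (k2e_short kf)
    subst h0
    exact RowOne.row_short hF O D1 (ws_XG D1) h2 h1

/-- **The row.** -/
theorem node : Node.{u} @FamF4'.{u} := by
  refine StartF4.node_of fun G _ _ F _ _ _ hF hG _ t f T _ S => ?_
  obtain ⟨s, -, g, O, -, hX⟩ := exists_frO hF S.frame S.fr.pT S.fr.tc S.fr.max (by rw [S.fr.U_eq]; exact inf_le_left)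
  have h : t ∉ _root_.commutator G := by
    refine not_mem hF O ?_
    rw [RowOne.v47, RowOne.v44, hX _ Lead.ρ_mem, hX _ Lead.σ_mem, ← RowOne.v47, ← RowOne.v44]
    exact S.moved
  rw [hG] at h
  exact h (Subgroup.mem_top t)

end Cfsg.Agent.OddHalf.D7F4.Row
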