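import Mathlib

/-!
# Types of the doubled root groups of `F4(q)`, `q ≥ 4` even (ODD D7, text #8532 (3)(4); helper588)

`t` an involution, `X` root groups of `K ≤ C_G(t)`, `W ≥ X` doubled root groups (`IsW`). `W` is of type C if it commutes
with the orthogonal root groups of the same length, of type O if it acts nontrivially on all of them.

* `false_of_C_O` : type C at `s` (`s, s₁` orthogonal of the same length, `r = s₁ - s`, `ρ = mid(s, s₁)`) and type O at `ρ`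
  are incompatible;
* `false_of_O_O` : type O at both lengths is impossible;
* `IsW.exists_diff`, `comm_mem_of_torus`, `comm_eq_one_of_torus` : the torus arguments (`q ≥ 4`).
-/

set_option autoImplicit false

namespace Cfsg.Agent.OddHalf.D7F4.TypeC

variable {G : Type*} [Group G]

/-- `[w, t] = w⁻¹ (t w t)` -/
def D (t w : G) : G := w⁻¹ * (t * w * t)

section D

variable {t : G} (tt : t * t = 1)

include tt

theorem t_inv : t⁻¹ = t := inv_eq_of_mul_eq_one_left tt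

theorem D_mul (v w : G) : D t (v * w) = w⁻¹ * D t v * w * D t w := by
  unfold D
  calc (v * w)⁻¹ * (t * (v * w) * t) = w⁻¹ * v⁻¹ * t * v * 1 * w * t := by group
    _ = w⁻¹ * v⁻¹ * t * v * (t * t) * w * t := by rw [tt]
    _ = _ := by group

theorem D_inv (g : G) : D t g⁻¹ = g * (D t g)⁻¹ * g⁻¹ := by
  unfold D
  calc g⁻¹⁻¹ * (t * g⁻¹ * t) = g * (t⁻¹ * g⁻¹ * t⁻¹) := by rw [t_inv tt, inv_inv]
    _ = _ := by group

theorem D_eq_one {w : G} : D t w = 1 ↔ t * w = w * t := by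
  unfold D
  rw [inv_mul_eq_one]
  constructor
  · intro h
    calc t * w = t * (t * w * t) := by rw [← h]
      _ = (t * t) * w * t := by group
      _ = w * t := by rw [tt, one_mul]
  · intro h
    rw [h, mul_assoc, tt, mul_one]

omit tt in
theorem D_conj {x : G} (hx : t * x = x * t) (w : G) : D t (x⁻¹ * w * x) = x⁻¹ * D t w * x := by
  unfold D
  have h1 : t * x⁻¹ = x⁻¹ * t := by
    rw [eq_inv_mul_iff_mul_eq, ← mul_assoc, ← hx, mul_inv_cancel_right]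
  calc (x⁻¹ * w * x)⁻¹ * (t * (x⁻¹ * w * x) * t) = x⁻¹ * w⁻¹ * x * ((t * x⁻¹) * w * (x * t)) := by group
    _ = x⁻¹ * w⁻¹ * x * ((x⁻¹ * t) * w * (t * x)) := by rw [h1, hx]
    _ = x⁻¹ * (w⁻¹ * (t * w * t)) * x := by group

omit tt in
theorem D_conj' {x : G} (hx : t * x = x * t) (w : G) : D t (x * w * x⁻¹) = x * D t w * x⁻¹ := by
  have h1 : t * x⁻¹ = x⁻¹ * t := by
    rw [eq_inv_mul_iff_mul_eq, ← mul_assoc, ← hx, mul_inv_cancel_right]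
  have := D_conj (t := t) (x := x⁻¹) h1 w
  rwa [inv_inv] at this

omit tt in
theorem conj_t (w : G) : t * w * t = w * D t w := by unfold D; group

end D

/-- `W` is a doubled root group over `X`. -/
structure IsW (t : G) (X W : Subgroup G) : Prop where
  tX : ∀ x ∈ X, t * x = x * t
  XW : X ≤ W
  sq : ∀ w ∈ W, w * w = 1
  brk : ∀ w ∈ W, w⁻¹ * (t * w * t) ∈ X
  cent : ∀ w ∈ W, t * w = w * t → w ∈ X
  surj : ∀ x ∈ X, ∃ w ∈ W, w⁻¹ * (t * w * t) = x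

theorem inv_of_sq {w : G} (h : w * w = 1) : w⁻¹ = w := inv_eq_of_mul_eq_one_left h

theorem comm_of_sq {v w : G} (hv : v * v = 1) (hw : w * w = 1) (hvw : v * w * (v * w) = 1) : v * w = w * v := by
  have h : (v * w)⁻¹ = v * w := inv_of_sq hvw
  rw [mul_inv_rev, inv_of_sq hv, inv_of_sq hw] at h
  exact h.symm

namespace IsW

variable {t : G} {X W : Subgroup G}

theorem inv (h : IsW t X W) {w : G} (hw : w ∈ W) : w⁻¹ = w := inv_of_sq (h.sq w hw)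

theorem ab (h : IsW t X W) {v w : G} (hv : v ∈ W) (hw : w ∈ W) : v * w = w * v :=
  comm_of_sq (h.sq v hv) (h.sq w hw) (h.sq _ (mul_mem hv hw))

theorem conj_mem (h : IsW t X W) {w : G} (hw : w ∈ W) : t * w * t ∈ W := by
  have := mul_mem hw (h.XW (h.brk w hw))
  rwa [mul_inv_cancel_left] at this

/-- A torus element without fixed points on `X`: `W = [W, δ] X`. -/
theorem exists_diff [Finite G] (tt : t * t = 1) (h : IsW t X W) {δ : G} (δt : t * δ = δ * t)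
    (δW : ∀ w ∈ W, δ * w * δ⁻¹ ∈ W) (fpf : ∀ x ∈ X, δ * x = x * δ → x = 1) {z : G} (hz : z ∈ W) :
    ∃ z' ∈ W, ∃ x ∈ X, z = δ * z' * δ⁻¹ * z' * x := by
  have δX : ∀ x ∈ X, δ * x * δ⁻¹ ∈ X := by
    intro x hx
    apply h.cent _ (δW x (h.XW hx))
    calc t * (δ * x * δ⁻¹) = (t * δ) * x * δ⁻¹ := by group
      _ = δ * (t * x) * δ⁻¹ := by rw [δt]; group
      _ = δ * x * (δ⁻¹ * (δ * t) * δ⁻¹) := by rw [h.tX x hx]; group
      _ = δ * x * (δ⁻¹ * (t * δ) * δ⁻¹) := by rw [δt]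
      _ = δ * x * δ⁻¹ * t := by group
  let f : X → X := fun x => ⟨δ * x * δ⁻¹ * x, mul_mem (δX x x.2) x.2⟩
  have hf : Function.Injective f := by
    rintro ⟨a, ha⟩ ⟨b, hb⟩ hab
    have h1 : δ * a * δ⁻¹ * a = δ * b * δ⁻¹ * b := congrArg Subtype.val hab
    apply Subtype.ext
    show a = b
    have h2 : a * b⁻¹ = 1 := by
      apply fpf _ (mul_mem ha (inv_mem hb))
      have e1 : a * b⁻¹ = b⁻¹ * a := h.ab (h.XW ha) (inv_mem (h.XW hb))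
      have e2 : δ * (a * b⁻¹) * δ⁻¹ = a * b⁻¹ := by
        have h3 : δ * b⁻¹ * δ⁻¹ * (δ * a * δ⁻¹) * a = b := by
          calc δ * b⁻¹ * δ⁻¹ * (δ * a * δ⁻¹) * a = (δ * b * δ⁻¹)⁻¹ * (δ * a * δ⁻¹ * a) := by group
            _ = (δ * b * δ⁻¹)⁻¹ * (δ * b * δ⁻¹ * b) := by rw [h1]
            _ = b := by group
        calc δ * (a * b⁻¹) * δ⁻¹ = δ * (b⁻¹ * a) * δ⁻¹ := by rw [e1]
          _ = (δ * b⁻¹ * δ⁻¹ * (δ * a * δ⁻¹) * a) * a⁻¹ := by group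
          _ = b * a⁻¹ := by rw [h3]
          _ = a * b⁻¹ := by
            rw [h.inv (h.XW ha), h.inv (h.XW hb)]
            exact h.ab (h.XW hb) (h.XW ha)
      calc δ * (a * b⁻¹) = δ * (a * b⁻¹) * δ⁻¹ * δ := by group
        _ = a * b⁻¹ * δ := by rw [e2]
    exact mul_inv_eq_one.1 h2
  obtain ⟨⟨x', hx'⟩, hfx⟩ := Finite.surjective_of_injective hf ⟨D t z, h.brk z hz⟩
  have hfx' : δ * x' * δ⁻¹ * x' = D t z := congrArg Subtype.val hfx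
  obtain ⟨z', hz', hzz⟩ := h.surj x' hx'
  have hzD : D t z' = x' := hzz
  have h1 : D t (δ * z' * δ⁻¹ * z') = D t z := by
    have c1 : z'⁻¹ * (δ * x' * δ⁻¹) * z' = δ * x' * δ⁻¹ := by
      rw [mul_assoc, h.ab (h.XW (δX x' hx')) hz', inv_mul_cancel_left]
    rw [D_mul tt, D_conj' δt, hzD, c1, hfx']
  have hm : δ * z' * δ⁻¹ * z' ∈ W := mul_mem (δW z' hz') hz'
  refine ⟨z', hz', (δ * z' * δ⁻¹ * z')⁻¹ * z, ?_, by group⟩
  apply h.cent _ (mul_mem (inv_mem hm) hz)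
  rw [← D_eq_one tt, D_mul tt, D_inv tt, h1]
  have hDz : D t z ∈ X := h.brk z hz
  have c2 : ∀ w ∈ W, w * (D t z)⁻¹ * w⁻¹ = (D t z)⁻¹ := by
    intro w hw
    rw [h.ab hw (inv_mem (h.XW hDz)), mul_inv_cancel_right]
  rw [c2 _ hm]
  have c3 := c2 _ (inv_mem hz)
  rw [inv_inv] at c3
  rw [c3, inv_mul_cancel]

end IsW

/-- Commutators of two doubled root groups with `[W₁, X₂] = [X₁, W₂] = 1` commute with `t`. -/
theorem comm_t {t : G} (tt : t * t = 1) {X₁ X₂ W₁ W₂ : Subgroup G} (h₁ : IsW t X₁ W₁) (h₂ : IsW t X₂ W₂)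
    (c12 : ∀ w ∈ W₁, ∀ x ∈ X₂, w * x = x * w) (c21 : ∀ w ∈ W₂, ∀ x ∈ X₁, w * x = x * w) {y z : G} (hy : y ∈ W₁)
    (hz : z ∈ W₂) : y⁻¹ * z⁻¹ * y * z * t = t * (y⁻¹ * z⁻¹ * y * z) := by
  have ey : t * y * t = y * D t y := conj_t y
  have ez : t * z * t = z * D t z := conj_t z
  have hDy : D t y ∈ X₁ := h₁.brk y hy
  have hDz : D t z ∈ X₂ := h₂.brk z hz
  have a1 : D t y * z = z * D t y := (c21 z hz _ hDy).symm
  have a2 : D t z * y = y * D t z := (c12 y hy _ hDz).symm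
  have a3 : D t y * y = y * D t y := h₁.ab (h₁.XW hDy) hy
  have a4 : D t z * z = z * D t z := h₂.ab (h₂.XW hDz) hz
  have a5 : D t y * D t z = D t z * D t y := (c12 _ (h₁.XW hDy) _ hDz)
  have iy : y⁻¹ = y := h₁.inv hy
  have iz : z⁻¹ = z := h₂.inv hz
  have sy := h₁.sq _ (h₁.XW hDy)
  have sz := h₂.sq _ (h₂.XW hDz)
  have key : t * (y * z * y * z) * t = y * z * y * z := by
    have e1 : t * (y * z * y * z) * t = (t * y * t) * (t * z * t) * (t * y * t) * (t * z * t) := by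
      symm
      calc (t * y * t) * (t * z * t) * (t * y * t) * (t * z * t)
          = t * y * (t * t) * z * (t * t) * y * (t * t) * z * t := by group
        _ = t * (y * z * y * z) * t := by rw [tt]; group
    rw [e1, ey, ez]
    calc y * D t y * (z * D t z) * (y * D t y) * (z * D t z)
        = y * (D t y * z) * (D t z * y) * (D t y * z) * D t z := by group
      _ = y * (z * D t y) * (y * D t z) * (z * D t y) * D t z := by rw [a1, a2]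
      _ = y * z * (D t y * y) * (D t z * z) * D t y * D t z := by group
      _ = y * z * (y * D t y) * (z * D t z) * D t y * D t z := by rw [a3, a4]
      _ = y * z * y * (D t y * z) * (D t z * D t y) * D t z := by group
      _ = y * z * y * (z * D t y) * (D t y * D t z) * D t z := by rw [a1, a5]
      _ = y * z * y * z * (D t y * D t y) * (D t z * D t z) := by group
      _ = y * z * y * z := by rw [sy, sz, mul_one, mul_one]
  rw [iy, iz]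
  calc y * z * y * z * t = (t * t) * (y * z * y * z * t) := by rw [tt, one_mul]
    _ = t * (t * (y * z * y * z) * t) := by group
    _ = t * (y * z * y * z) := by rw [key]

/-- The commutator has no `t`-component. -/
theorem comm_no_t {t : G} (tt : t * t = 1) {X₁ X₂ W₁ W₂ : Subgroup G} (h₁ : IsW t X₁ W₁) (h₂ : IsW t X₂ W₂)
    (c12 : ∀ w ∈ W₁, ∀ x ∈ X₂, w * x = x * w) (c21 : ∀ w ∈ W₂, ∀ x ∈ X₁, w * x = x * w) {y z : G} (hy : y ∈ W₁)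
    (hz : z ∈ W₂)
    (hc : ∃ a ∈ X₁, ∃ b ∈ X₂, y⁻¹ * z⁻¹ * y * z = a * b ∨ y⁻¹ * z⁻¹ * y * z = t * (a * b)) :
    ∃ a ∈ X₁, ∃ b ∈ X₂, y⁻¹ * z⁻¹ * y * z = a * b := by
  obtain ⟨a, ha, b, hb, hc | hc⟩ := hc
  · exact ⟨a, ha, b, hb, hc⟩
  have iy : y⁻¹ = y := h₁.inv hy
  have iz : z⁻¹ = z := h₂.inv hz
  have ab : a * b = b * a := c12 a (h₁.XW ha) b hb
  have sa := h₁.sq a (h₁.XW ha)
  have sb := h₂.sq b (h₂.XW hb)
  have s1 : a * b * (a * b) = 1 := by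
    calc a * b * (a * b) = a * (b * a) * b := by group
      _ = (a * a) * (b * b) := by rw [← ab]; group
      _ = 1 := by rw [sa, sb, mul_one]
  have ye : y * (a * b) = a * b * y := by
    calc y * (a * b) = (y * a) * b := by group
      _ = a * (y * b) := by rw [h₁.ab hy (h₁.XW ha)]; group
      _ = a * b * y := by rw [c12 y hy b hb]; group
  have te : t * (a * b) = a * b * t := by
    calc t * (a * b) = (t * a) * b := by group
      _ = a * (t * b) := by rw [h₁.tX a ha]; group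
      _ = a * b * t := by rw [h₂.tX b hb]; group
  have hyy := h₁.sq y hy
  have hzz := h₂.sq z hz
  -- `y c y = c⁻¹`
  have e1 : y * (y⁻¹ * z⁻¹ * y * z) * y = (y⁻¹ * z⁻¹ * y * z)⁻¹ := by
    rw [iy, iz]
    calc y * (y * z * y * z) * y = (y * y) * (z * y * z * y) := by group
      _ = z * y * z * y := by rw [hyy, one_mul]
      _ = z⁻¹ * y⁻¹ * z⁻¹ * y⁻¹ := by rw [iy, iz]
      _ = (y * z * y * z)⁻¹ := by group
  rw [hc] at e1
  have e2 : (t * (a * b))⁻¹ = t * (a * b) := by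
    apply inv_of_sq
    calc t * (a * b) * (t * (a * b)) = t * ((a * b) * t) * (a * b) := by group
      _ = (t * t) * (a * b * (a * b)) := by rw [← te]; group
      _ = 1 := by rw [tt, s1, mul_one]
  rw [e2] at e1
  -- so `y` commutes with `t`
  have e3 : y * t = t * y := by
    have h1 : y * t * y * (a * b) = t * (a * b) := by
      calc y * t * y * (a * b) = y * t * (y * (a * b)) := by group
        _ = y * (t * (a * b)) * y := by rw [ye]; group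
        _ = t * (a * b) := e1
    have h2 : y * t * y = t := mul_right_cancel h1
    calc y * t = y * t * (y * y) := by rw [hyy, mul_one]
      _ = (y * t * y) * y := by group
      _ = t * y := by rw [h2]
  have hyX := h₁.cent y hy e3.symm
  refine ⟨1, one_mem _, 1, one_mem _, ?_⟩
  have h3 := c21 z hz y hyX
  calc y⁻¹ * z⁻¹ * y * z = y⁻¹ * z⁻¹ * (y * z) := by group
    _ = y⁻¹ * z⁻¹ * (z * y) := by rw [h3]
    _ = 1 * 1 := by group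

/-- **The torus argument**: `δ` commutes with `W₁` and has no fixed points on `X₂`; then the `X₁`-component of
`[y, z]` is trivial. -/
theorem comm_mem_of_torus [Finite G] {t : G} (tt : t * t = 1) {X₁ X₂ W₁ W₂ : Subgroup G} (h₁ : IsW t X₁ W₁)
    (h₂ : IsW t X₂ W₂)
    (c12 : ∀ w ∈ W₁, ∀ x ∈ X₂, w * x = x * w) (c21 : ∀ w ∈ W₂, ∀ x ∈ X₁, w * x = x * w)
    (hall : ∀ y ∈ W₁, ∀ z ∈ W₂, ∃ a ∈ X₁, ∃ b ∈ X₂, y⁻¹ * z⁻¹ * y * z = a * b)
    {δ : G} (δt : t * δ = δ * t) (δ₁ : ∀ w ∈ W₁, δ * w = w * δ) (δ₂ : ∀ w ∈ W₂, δ * w * δ⁻¹ ∈ W₂)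
    (fpf : ∀ x ∈ X₂, δ * x = x * δ → x = 1) {y z : G} (hy : y ∈ W₁) (hz : z ∈ W₂) :
    y⁻¹ * z⁻¹ * y * z ∈ X₂ := by
  obtain ⟨z', hz', x, hx, rfl⟩ := h₂.exists_diff tt δt δ₂ fpf hz
  obtain ⟨a, ha, b, hb, hab⟩ := hall y hy z' hz'
  have hδX : δ * b * δ⁻¹ ∈ X₂ := by
    apply h₂.cent _ (δ₂ b (h₂.XW hb))
    calc t * (δ * b * δ⁻¹) = (t * δ) * b * δ⁻¹ := by group
      _ = δ * (t * b) * δ⁻¹ := by rw [δt]; group
      _ = δ * b * (δ⁻¹ * (δ * t) * δ⁻¹) := by rw [h₂.tX b hb]; group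
      _ = δ * b * (δ⁻¹ * (t * δ) * δ⁻¹) := by rw [δt]
      _ = δ * b * δ⁻¹ * t := by group
  -- `[y, δ z' δ⁻¹] = a (δ b δ⁻¹)`
  have e1 : y⁻¹ * (δ * z' * δ⁻¹)⁻¹ * y * (δ * z' * δ⁻¹) = a * (δ * b * δ⁻¹) := by
    have k1 := δ₁ y hy
    have k2 : δ * y⁻¹ = y⁻¹ * δ := δ₁ _ (inv_mem hy)
    have k3 := δ₁ a (h₁.XW ha)
    calc y⁻¹ * (δ * z' * δ⁻¹)⁻¹ * y * (δ * z' * δ⁻¹)
        = (y⁻¹ * δ) * z'⁻¹ * (δ⁻¹ * (y * δ)) * z' * δ⁻¹ := by group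
      _ = (δ * y⁻¹) * z'⁻¹ * (δ⁻¹ * (δ * y)) * z' * δ⁻¹ := by rw [k2, k1]
      _ = δ * (y⁻¹ * z'⁻¹ * y * z') * δ⁻¹ := by group
      _ = (δ * a) * b * δ⁻¹ := by rw [hab]; group
      _ = a * (δ * b * δ⁻¹) := by rw [k3]; group
  -- `[y, u v] = [y, v] (v⁻¹ [y, u] v)`
  have e2 : y⁻¹ * (δ * z' * δ⁻¹ * z' * x)⁻¹ * y * (δ * z' * δ⁻¹ * z' * x) = b * (δ * b * δ⁻¹) := by
    have hx1 : y * x = x * y := c12 y hy x hx
    have sa : a * a = 1 := h₁.sq a (h₁.XW ha)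
    have hz1 := c21 z' hz' a ha
    have hz2 : z' * (δ * b * δ⁻¹) = δ * b * δ⁻¹ * z' := h₂.ab hz' (h₂.XW hδX)
    have hx2 : (b * (δ * b * δ⁻¹)) * x = x * (b * (δ * b * δ⁻¹)) :=
      h₂.ab (h₂.XW (mul_mem hb hδX)) (h₂.XW hx)
    set u := δ * z' * δ⁻¹ with hu
    set b' := δ * b * δ⁻¹ with hb'
    have hab2 : a * b = b * a := c12 a (h₁.XW ha) b hb
    calc y⁻¹ * (u * z' * x)⁻¹ * y * (u * z' * x)
        = y⁻¹ * x⁻¹ * z'⁻¹ * u⁻¹ * y * u * z' * x := by group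
      _ = (y⁻¹ * x⁻¹ * y) * ((y⁻¹ * z'⁻¹ * y * z') * (z'⁻¹ * (y⁻¹ * u⁻¹ * y * u) * z')) * x := by group
      _ = x⁻¹ * ((a * b) * (z'⁻¹ * (a * b') * z')) * x := by
        have : y⁻¹ * x⁻¹ * y = x⁻¹ := by
          rw [mul_assoc, ← c12 y hy _ (inv_mem hx), inv_mul_cancel_left]
        rw [this, hab, e1]
      _ = x⁻¹ * ((a * b) * (z'⁻¹ * (a * (b' * z')))) * x := by group
      _ = x⁻¹ * ((a * b) * (z'⁻¹ * (a * (z' * b')))) * x := by rw [← hz2]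
      _ = x⁻¹ * ((a * b) * (z'⁻¹ * (a * z') * b')) * x := by group
      _ = x⁻¹ * ((a * b) * (z'⁻¹ * (z' * a) * b')) * x := by rw [← hz1]
      _ = x⁻¹ * ((b * a) * (z'⁻¹ * (z' * a) * b')) * x := by rw [hab2]
      _ = x⁻¹ * (b * (a * a) * b') * x := by group
      _ = x⁻¹ * ((b * b') * x) := by rw [sa]; group
      _ = b * b' := by rw [hx2, inv_mul_cancel_left]
  rw [e2]
  exact mul_mem hb hδX

/-- **The torus argument**, both sides: `[W₁, W₂] = 1`. -/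
theorem comm_eq_one_of_torus [Finite G] {t : G} (tt : t * t = 1) {X₁ X₂ W₁ W₂ : Subgroup G} (h₁ : IsW t X₁ W₁)
    (h₂ : IsW t X₂ W₂)
    (c12 : ∀ w ∈ W₁, ∀ x ∈ X₂, w * x = x * w) (c21 : ∀ w ∈ W₂, ∀ x ∈ X₁, w * x = x * w)
    (dis : ∀ x, x ∈ X₁ → x ∈ X₂ → x = 1)
    (hall : ∀ y ∈ W₁, ∀ z ∈ W₂, ∃ a ∈ X₁, ∃ b ∈ X₂, y⁻¹ * z⁻¹ * y * z = a * b ∨ y⁻¹ * z⁻¹ * y * z = t * (a * b))
    {δ δ' : G} (δt : t * δ = δ * t) (δ₁ : ∀ w ∈ W₁, δ * w = w * δ) (δ₂ : ∀ w ∈ W₂, δ * w * δ⁻¹ ∈ W₂)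
    (fpf : ∀ x ∈ X₂, δ * x = x * δ → x = 1)
    (δt' : t * δ' = δ' * t) (δ₂' : ∀ w ∈ W₂, δ' * w = w * δ') (δ₁' : ∀ w ∈ W₁, δ' * w * δ'⁻¹ ∈ W₁)
    (fpf' : ∀ x ∈ X₁, δ' * x = x * δ' → x = 1) {y z : G} (hy : y ∈ W₁) (hz : z ∈ W₂) : y * z = z * y := by
  have hall' : ∀ y ∈ W₁, ∀ z ∈ W₂, ∃ a ∈ X₁, ∃ b ∈ X₂, y⁻¹ * z⁻¹ * y * z = a * b := fun y hy z hz =>
    comm_no_t tt h₁ h₂ c12 c21 hy hz (hall y hy z hz)
  have m1 := comm_mem_of_torus tt h₁ h₂ c12 c21 hall' δt δ₁ δ₂ fpf hy hz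
  have hall'' : ∀ y ∈ W₂, ∀ z ∈ W₁, ∃ a ∈ X₂, ∃ b ∈ X₁, y⁻¹ * z⁻¹ * y * z = a * b := by
    intro y hy z hz
    obtain ⟨a, ha, b, hb, hab⟩ := hall' z hz y hy
    refine ⟨b⁻¹, inv_mem hb, a⁻¹, inv_mem ha, ?_⟩
    calc y⁻¹ * z⁻¹ * y * z = (z⁻¹ * y⁻¹ * z * y)⁻¹ := by group
      _ = (a * b)⁻¹ := by rw [hab]
      _ = b⁻¹ * a⁻¹ := by group
  have m2 := comm_mem_of_torus tt h₂ h₁ c21 c12 hall'' δt' δ₂' δ₁' fpf' hz hy
  have m3 : y⁻¹ * z⁻¹ * y * z ∈ X₁ := by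
    have := inv_mem m2
    have e : (z⁻¹ * y⁻¹ * z * y)⁻¹ = y⁻¹ * z⁻¹ * y * z := by group
    rwa [e] at this
  have h1 := dis _ m3 m1
  calc y * z = z * y * (y⁻¹ * z⁻¹ * y * z) := by group
    _ = z * y := by rw [h1, mul_one]

/-- **Type C at `s` and type O at `ρ` are incompatible.** -/
theorem false_of_C_O {t : G} (tt : t * t = 1) {Xs Xs1 Xr Xp Xd Ws Ws1 Wp : Subgroup G}
    (hs : IsW t Xs Ws) (hs1 : IsW t Xs1 Ws1) (hp : IsW t Xp Wp)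
    (tr : ∀ x ∈ Xr, t * x = x * t) (ns : ∃ x ∈ Xs, x ≠ 1) (nr : ∃ x ∈ Xr, x ≠ 1)
    (csp : ∀ w ∈ Ws, ∀ x ∈ Xp, w * x = x * w) (cs1p : ∀ w ∈ Ws1, ∀ x ∈ Xp, w * x = x * w)
    (cC : ∀ w ∈ Ws1, ∀ x ∈ Xs, w * x = x * w)
    (rel : ∀ u ∈ Xs, ∀ x ∈ Xr, ∃ α ∈ Xs1, ∃ β ∈ Xp, x⁻¹ * u * x = u * α * β ∧ (u ≠ 1 → x ≠ 1 → β ≠ 1))
    (td : ∀ v ∈ Xd, t * v = v * t) (csd : ∀ y ∈ Ws, ∀ v ∈ Xd, y * v = v * y)
    (cs1d : ∀ y ∈ Ws1, ∀ v ∈ Xd, y * v = v * y) (cpd : ∀ y ∈ Xp, ∀ v ∈ Xd, y * v = v * y)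
    (crd : ∀ y ∈ Xr, ∀ v ∈ Xd, y * v = v * y)
    (typeO : ∀ z ∈ Wp, (∀ v ∈ Xd, z * v = v * z) → z ∈ Xp)
    (Fam : Set G) (fs : ∀ y ∈ Ws, ∀ v ∈ Fam, y * v = v * y)
    (fs' : ∀ y ∈ Ws, ∀ x ∈ Xr, ∀ v ∈ Fam, (x⁻¹ * y * x) * v = v * (x⁻¹ * y * x))
    (fs1 : ∀ y ∈ Ws1, ∀ v ∈ Fam, y * v = v * y) (fp : ∀ z ∈ Wp, ∀ v ∈ Fam, z * v = v * z)
    (KF : ∀ k, k * t = t * k → (∀ v ∈ Fam, k * v = v * k) →
      ∃ a ∈ Xs, ∃ b ∈ Xs1, ∃ c ∈ Xp, k = a * b * c ∨ k = t * (a * b * c)) : False := by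
  obtain ⟨u, hu, hu1⟩ := ns
  obtain ⟨x, hx, hx1⟩ := nr
  obtain ⟨α, hα, β, hβ, hrel, hβ1⟩ := rel u hu x hx
  replace hβ1 := hβ1 hu1 hx1
  obtain ⟨y, hy, hyu⟩ := hs.surj u hu
  obtain ⟨y1, hy1, hy1α⟩ := hs1.surj α hα
  obtain ⟨z, hz, hzβ⟩ := hp.surj β hβ
  change D t y = u at hyu
  change D t y1 = α at hy1α
  change D t z = β at hzβ
  set f := x⁻¹ * y * x * (y * y1)⁻¹ with hf
  -- `[f, t] = β`
  have d1 : D t (x⁻¹ * y * x) = u * α * β := by rw [D_conj (tr x hx), hyu, hrel]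
  have d2 : D t (y * y1) = u * α := by
    rw [D_mul tt, hyu, hy1α]
    congr 1
    rw [mul_assoc, ← cC y1 hy1 u hu, inv_mul_cancel_left]
  have d3 : D t f = β := by
    rw [hf, D_mul tt, D_inv tt, d1, d2]
    have k1 : u * β = β * u := csp u (hs.XW hu) β hβ
    have k2 : α * β = β * α := cs1p α (hs1.XW hα) β hβ
    have k3 : y * β = β * y := csp y hy β hβ
    have k4 : y1 * β = β * y1 := cs1p y1 hy1 β hβ
    calc (y * y1)⁻¹⁻¹ * (u * α * β) * (y * y1)⁻¹ * (y * y1 * (u * α)⁻¹ * (y * y1)⁻¹)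
        = y * y1 * (u * (α * β)) * (u * α)⁻¹ * (y * y1)⁻¹ := by group
      _ = y * y1 * ((u * β) * α) * (u * α)⁻¹ * (y * y1)⁻¹ := by rw [k2]; group
      _ = y * (y1 * β) * (y * y1)⁻¹ := by rw [k1]; group
      _ = (y * β) * y1 * (y * y1)⁻¹ := by rw [k4]; group
      _ = β := by rw [k3]; group
  have d4 : D t (f * z⁻¹) = 1 := by
    rw [D_mul tt, D_inv tt, d3, hzβ]; group
  have hk : f * z⁻¹ * t = t * (f * z⁻¹) := ((D_eq_one tt).1 d4).symm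
  -- `f` commutes with `Fam` and with `Xd`
  have gen : ∀ v : G, (x⁻¹ * y * x) * v = v * (x⁻¹ * y * x) → y * v = v * y → y1 * v = v * y1 → f * v = v * f := by
    intro v h1 h2 h3
    have c1 : Commute (x⁻¹ * y * x) v := h1
    have c2 : Commute y v := h2
    have c3 : Commute y1 v := h3
    exact (c1.mul_left (c2.mul_left c3).inv_left)
  have hF : ∀ v ∈ Fam, (f * z⁻¹) * v = v * (f * z⁻¹) := by
    intro v hv
    have c1 : Commute f v := gen v (fs' y hy x hx v hv) (fs y hy v hv) (fs1 y1 hy1 v hv)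
    have c2 : Commute z v := fp z hz v hv
    exact c1.mul_left c2.inv_left
  obtain ⟨a, ha, b, hb, c, hc, habc⟩ := KF _ hk hF
  have hzd : ∀ v ∈ Xd, z * v = v * z := by
    intro v hv
    have ca : Commute a v := csd a (hs.XW ha) v hv
    have cb : Commute b v := cs1d b (hs1.XW hb) v hv
    have cc : Commute c v := cpd c hc v hv
    have ct : Commute t v := td v hv
    have cx : Commute x v := crd x hx v hv
    have cy : Commute y v := csd y hy v hv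
    have ck : Commute (f * z⁻¹) v := by
      rcases habc with h | h
      · rw [h]; exact (ca.mul_left cb).mul_left cc
      · rw [h]; exact ct.mul_left ((ca.mul_left cb).mul_left cc)
    have cf : Commute f v :=
      gen v ((cx.inv_left.mul_left cy).mul_left cx) cy (cs1d y1 hy1 v hv)
    have h1 : z = (f * z⁻¹)⁻¹ * f := by group
    have : Commute z v := by
      rw [h1]
      exact ck.inv_left.mul_left cf
    exact this
  have hzX := typeO z hz hzd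
  apply hβ1
  rw [← hzβ, D_eq_one tt]
  exact hp.tX z hzX

/-- **Type O at both lengths is impossible.** -/
theorem false_of_O_O [Finite G] {t : G} (tt : t * t = 1) {Xa Xp Xr Xm Wa Wp : Subgroup G}
    (ha : IsW t Xa Wa) (hp : IsW t Xp Wp) (na : ∃ x ∈ Xa, x ≠ 1) (np : ∃ x ∈ Xp, x ≠ 1)
    (cap : ∀ w ∈ Wa, ∀ x ∈ Xp, w * x = x * w) (cpa : ∀ w ∈ Wp, ∀ x ∈ Xa, w * x = x * w)
    (car : ∀ w ∈ Wa, ∀ x ∈ Xr, w * x = x * w)
    (orel : ∀ z ∈ Wp, ∀ x ∈ Xr, z⁻¹ * (x⁻¹ * z * x) ∈ Xm)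
    (typeOp : ∀ z ∈ Wp, (∀ x ∈ Xr, z * x = x * z) → z ∈ Xp)
    (typeOa : ∀ y ∈ Wa, ∀ u ∈ Xm, u ≠ 1 → y * u = u * y → y ∈ Xa)
    (dis : ∀ x, x ∈ Xa → x ∈ Xp → x = 1)
    (Fam : Set G) (fa : ∀ y ∈ Wa, ∀ v ∈ Fam, y * v = v * y) (fp : ∀ z ∈ Wp, ∀ v ∈ Fam, z * v = v * z)
    (KF : ∀ k, k * t = t * k → (∀ v ∈ Fam, k * v = v * k) →
      ∃ a ∈ Xa, ∃ b ∈ Xp, k = a * b ∨ k = t * (a * b))
    {δ δ' : G} (δt : t * δ = δ * t) (δ₁ : ∀ w ∈ Wa, δ * w = w * δ) (δ₂ : ∀ w ∈ Wp, δ * w * δ⁻¹ ∈ Wp)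
    (fpf : ∀ x ∈ Xp, δ * x = x * δ → x = 1)
    (δt' : t * δ' = δ' * t) (δ₂' : ∀ w ∈ Wp, δ' * w = w * δ') (δ₁' : ∀ w ∈ Wa, δ' * w * δ'⁻¹ ∈ Wa)
    (fpf' : ∀ x ∈ Xa, δ' * x = x * δ' → x = 1) : False := by
  have hall : ∀ y ∈ Wa, ∀ z ∈ Wp, ∃ a ∈ Xa, ∃ b ∈ Xp,
      y⁻¹ * z⁻¹ * y * z = a * b ∨ y⁻¹ * z⁻¹ * y * z = t * (a * b) := by
    intro y hy z hz
    refine KF _ (comm_t tt ha hp cap cpa hy hz) fun v hv => ?_
    have c1 : Commute y v := fa y hy v hv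
    have c2 : Commute z v := fp z hz v hv
    exact ((c1.inv_left.mul_left c2.inv_left).mul_left c1).mul_left c2
  have hcomm : ∀ y ∈ Wa, ∀ z ∈ Wp, y * z = z * y := fun y hy z hz =>
    comm_eq_one_of_torus tt ha hp cap cpa dis hall δt δ₁ δ₂ fpf δt' δ₂' δ₁' fpf' hy hz
  obtain ⟨u, hu, hu1⟩ := na
  obtain ⟨v, hv, hv1⟩ := np
  obtain ⟨y, hy, hyu⟩ := ha.surj u hu
  obtain ⟨z, hz, hzv⟩ := hp.surj v hv
  have hyX : y ∉ Xa := by
    intro h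
    apply hu1
    rw [← hyu]
    exact (D_eq_one tt).2 (ha.tX y h)
  have hzX : z ∉ Xp := by
    intro h
    apply hv1
    rw [← hzv]
    exact (D_eq_one tt).2 (hp.tX z h)
  have h1 : ¬ ∀ x ∈ Xr, z * x = x * z := fun h => hzX (typeOp z hz h)
  push Not at h1
  obtain ⟨x, hx, hzx⟩ := h1
  apply hyX
  refine typeOa y hy _ (orel z hz x hx) ?_ ?_
  · intro h
    apply hzx
    have h2 : x⁻¹ * z * x = z := (inv_mul_eq_one.1 h).symm
    calc z * x = x * (x⁻¹ * z * x) := by group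
      _ = x * z := by rw [h2]
  · have cz : Commute y z := hcomm y hy z hz
    have cx : Commute y x := car y hy x hx
    exact cz.inv_right.mul_right ((cx.inv_right.mul_right cz).mul_right cx)

end Cfsg.Agent.OddHalf.D7F4.TypeC
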