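import Cfsg.Agent.OddHalf.D7F4.OutEnm
import Cfsg.Agent.OddHalf.Out.Excl
import Cfsg.Agent.OddHalf.Out.ZeroDiv

/-!
# Pattern (C, C): an involution of field type (helper84, bb ODD 11098 §3)

`V 0 = W_ρ`, `V n = W_b` (`b` simple), `V j = W_{ρ-b}`.
-/

set_option autoImplicit false

namespace Cfsg.Agent.OddHalf.D7F4.OutField

open Subgroup Out.Exclude Out.Excl Cfsg.Agent.Doubling TypeC

variable {G : Type*} [Group G] {t : G} {T U Us : Subgroup G} {V X : ℕ → Subgroup G} {n j : ℕ}

/-- **The exclusion for field type.** -/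
theorem excl_field [Finite G] (F : Fr t T U Us) (D : Growth.Dbl t V X (n + 1))
    (isW : ∀ i < n + 1, IsW t (X i) (V i)) (hn : 1 ≤ n) (hj : j < n + 1)
    (hUs : Us = Growth.W V (n + 1)) {s : G} (sT : s ∈ T) (hs1 : s ∉ U) (hs2 : t * s ∉ U)
    {K : Type*} [Field K] [Finite K] [CharP K 2] {σ : K →+* K} {w0 : K} (hw0 : w0 + σ w0 = 1) {x1 x2 x3 : K → G}
    (P : Out.ZeroDiv.Pair t s σ x1 x2 x3 (V j) (V n) (V 0))
    (sV : ∀ i < n + 1, ∀ w ∈ V i, s * w * s ∈ V i)
    (fX : ∀ i < n + 1, ∀ x ∈ X i, s * x * s = x → ∃ y ∈ X i, x = s * y * s * y⁻¹)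
    (hcomm : ∀ i < n, ∀ w ∈ V i, ∀ z ∈ V j, w * z = z * w)
    (Z : Subgroup G) (Zc : ∀ z ∈ Growth.W V 2, ∀ w ∈ Us, z * w = w * z)
    (k0 : ∀ z ∈ Growth.W V 2, ∀ g : G, g⁻¹ * t * g ≠ z) (k0' : ∀ z ∈ Z, ∃ g : G, g⁻¹ * t * g = t * z)
    (hZ : Nat.card Z ^ 2 ≤ Nat.card (Growth.W V 2))
    (k1 : ∀ c ∈ T, (∀ a ∈ T, ∀ b ∈ T, c * (a * b * a⁻¹ * b⁻¹) = a * b * a⁻¹ * b⁻¹ * c) → c ∈ Z ∨ t * c ∈ Z)
    (k2 : ∀ c ∈ T, (∀ z ∈ Z, c * z = z * c) → c ∈ U ∨ t * c ∈ U) {q : ℕ} (hq : Nat.card (V n) ≤ q ^ 2)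
    (k3 : ∀ u ∈ U, (∃ c ∈ U, c * u ≠ u * c) → q ≤ Set.ncard {x | ∃ c ∈ U, x = c * u * c⁻¹}) :
    ∃ v, (v = s ∨ v = t * s) ∧ NoConj F v := by
  have ti : t⁻¹ = t := inv_eq_of_mul_eq_one_left P.tt
  have si : s⁻¹ = s := inv_eq_of_mul_eq_one_left P.ss
  have st := P.st
  obtain ⟨θ1, θ2, β, C⟩ := P.exists_coord hw0
  obtain ⟨v, hv, y, hy, w, hw, hvy, hvw, hvx, hw1, hyw, hyx⟩ := C.zero_div hw0
  refine ⟨v, hv, ?_⟩
  have vv : v * v = 1 := by
    rcases hv with rfl | rfl
    · exact P.ss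
    · calc t * s * (t * s) = t * s * (s * t) := by rw [st]
        _ = t * (s * s) * t := by group
        _ = 1 := by rw [P.ss, mul_one, P.tt]
  have vi : v⁻¹ = v := inv_eq_of_mul_eq_one_left vv
  have vt : t * v = v * t := by
    rcases hv with rfl | rfl
    · exact st.symm
    · calc t * (t * s) = t * (s * t) := by rw [st]
        _ = t * s * t := by group
  have hvU : v ∉ Us := by
    rcases hv with rfl | rfl
    · exact fun h => hs1 (mem_U F sT h)
    · exact fun h => hs2 (mem_U F (mul_mem F.tT sT) h)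
  have ets : ∀ w, t * s * w * (t * s) = t * (s * w * s) * t := by
    intro w
    calc t * s * w * (t * s) = t * s * w * (s * t) := by rw [st]
      _ = t * (s * w * s) * t := by group
  have vV : ∀ i < n + 1, ∀ w ∈ V i, v * w * v ∈ V i := by
    intro i hi w hw
    rcases hv with rfl | rfl
    · exact sV i hi w hw
    · rw [ets]
      exact D.conj i hi _ (sV i hi w hw)
  have vX : ∀ i < n + 1, ∀ x ∈ X i, v * x * v = s * x * s := by
    intro i hi x hx
    rcases hv with rfl | rfl
    · rfl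
    · calc t * s * x * (t * s) = s * t * x * (t * s) := by rw [st]
        _ = s * (t * x * t) * s := by group
        _ = s * x * s := by rw [D.X_fix i hi x hx]
  have vfree : ∀ i < n + 1, ∀ w ∈ V i, v * w * v = w → ∃ c ∈ V i, w = v * c * v * c⁻¹ := by
    intro i hi w hw hvw
    refine OutEnm.free_of_free P.tt (isW i hi) vt vv (vV i hi) ?_ hw hvw
    intro x hx hxv
    rw [vX i hi x hx] at hxv
    obtain ⟨y, hy, he⟩ := fX i hi x hx hxv
    exact ⟨y, hy, by rw [vX i hi y hy]; exact he⟩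
  have Dv := Out.Grow.change D vv vV vfree
  have hW2 : Growth.W V 2 ≤ Us := by
    rw [hUs]; exact Growth.W_mono V (by omega)
  have hyU : y ∈ Us := by rw [hUs]; exact Growth.le_W V hj hy
  have hnU : V n ≤ Us := by rw [hUs]; exact Growth.le_W V (Nat.lt_succ_self n)
  have key : ∀ w : G, v * w * v = w ↔ w * v = v * w := by
    intro w
    constructor
    · intro h1
      calc w * v = v * w * v * v := by rw [h1]
        _ = v * w * (v * v) := by group
        _ = v * w := by rw [vv, mul_one]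
    · intro h1
      rw [mul_assoc, h1, ← mul_assoc, vv, one_mul]
  have key' : ∀ w : G, v * w * v⁻¹ = w → w * v = v * w := fun w h => (key w).1 (by rwa [vi] at h)
  refine excl_of F ?_ fun g hg hgv => ?_
  · intro w hw h1
    rw [hUs] at hw
    obtain ⟨c, hc, h2⟩ := Dv.exists_conj hw h1
    exact ⟨c, hUs ▸ hc, h2⟩
  · refine excluded F hvU Z (Growth.W V 2) hW2 Zc k0 k0' ?_ k1 k2 k3 hyU (key' y hvy)
      ⟨x2 1, hnU (P.l2.mem 1), key' _ hvx, fun h => hyx ?_⟩ ?_ hgv hg
    · -- `|Z| ≤ |C_{W 2}(v)|`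
      have hab : ∀ a ∈ Growth.W V 2, ∀ b ∈ Growth.W V 2, a * b = b * a := fun a ha b hb => Zc a ha b (hW2 hb)
      have hsq : ∀ a ∈ Growth.W V 2, a * a = 1 := by
        intro a ha
        obtain ⟨u, hu, b, hb, rfl⟩ := D.mem_succ (k := 1) (by omega) ha
        obtain ⟨u', hu', c, hc, rfl⟩ := D.mem_succ (k := 0) (by omega) hu
        rw [Growth.W_zero, mem_bot] at hu'
        rw [hu', one_mul]
        have e1 := D.sq 0 (by omega) c hc
        have e2 := D.sq 1 (by omega) b hb
        have e3 := hab c (Growth.le_W V (by omega) hc) b (Growth.le_W V (by omega) hb)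
        calc c * b * (c * b) = c * (b * c) * b := by group
          _ = (c * c) * (b * b) := by rw [← e3]; group
          _ = 1 := by rw [e1, e2, one_mul]
      have h1 := Out.Grow.card_eq_sq (v := v) hab vv (fun w hw => Dv.conj_W (by omega) hw) (fun w hw h => by
        have hwi : w⁻¹ = w := inv_eq_of_mul_eq_one_left (hsq w hw)
        exact (Dv.main 2 (by omega)).2 w hw (by rw [h, hwi])) hsq
      rw [h1] at hZ
      exact (Nat.pow_le_pow_iff_left (by norm_num)).1 hZ
    · unfold Out.ZeroDiv.br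
      rw [← h]; group
    · -- few conjugates
      set B0 : Subgroup G := V n ⊓ centralizer ({v} : Set G) with hB0
      have hB : Nat.card B0 ≤ q := by
        have h1 := Out.Grow.card_eq_sq (v := v) (A := V n)
          (fun a ha b hb => Out.Grow.comm_of_sq (D.sq n (by omega)) ha hb) vv (vV n (by omega))
          (vfree n (by omega)) (D.sq n (by omega))
        rw [h1] at hq
        exact (Nat.pow_le_pow_iff_left (by norm_num)).1 hq
      have hwB : w ∈ B0 := Subgroup.mem_inf.2 ⟨hw, mem_centralizer_singleton_iff.2 (key' w hvw)⟩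
      have hwy : w * y * w⁻¹ = y := by
        unfold Out.ZeroDiv.br at hyw
        have h1 : y * w = w * y := by
          calc y * w = (y * w * y⁻¹ * w⁻¹) * (w * y) := by group
            _ = w * y := by rw [hyw, one_mul]
        rw [← h1, mul_inv_cancel_right]
      have hsub : {x | ∃ c ∈ Us, c * v = v * c ∧ x = c * y * c⁻¹} ⊆
          (fun b => b * y * b⁻¹) '' ((B0 : Set G) \ {w}) := by
        rintro x ⟨c, hc, hcv, rfl⟩
        rw [hUs] at hc
        obtain ⟨u, hu, b, hb, rfl⟩ := D.mem_succ (k := n) (by omega) hc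
        have hfix := (key _).2 hcv
        have hvb : v * b * v = b := by
          have e0 : v * (u * b) * v = (v * u * v) * (v * b * v) := by
            calc v * (u * b) * v = v * u * 1 * b * v := by group
              _ = v * u * (v * v) * b * v := by rw [vv]
              _ = _ := by group
          rw [e0] at hfix
          have e1 : (v * b * v) * b⁻¹ = (v * u * v)⁻¹ * u := by
            rw [eq_inv_mul_iff_mul_eq, ← mul_assoc, hfix, mul_inv_cancel_right]
          have e2 : (v * b * v) * b⁻¹ ∈ V n ⊓ Growth.W V n := by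
            refine Subgroup.mem_inf.2 ⟨mul_mem (vV n (by omega) b hb) (inv_mem hb), ?_⟩
            rw [e1]
            exact mul_mem (inv_mem (Dv.conj_W (by omega) hu)) hu
          rw [Out.Grow.disj D (by omega), mem_bot] at e2
          exact mul_inv_eq_one.1 e2
        have hbB : b ∈ B0 := Subgroup.mem_inf.2 ⟨hb, mem_centralizer_singleton_iff.2 ((key b).1 hvb)⟩
        have hconj : u * b * y * (u * b)⁻¹ = b * y * b⁻¹ := by
          have huy : u * y = y * u := by
            have hle : Growth.W V n ≤ centralizer ({y} : Set G) :=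
              iSup₂_le fun i hi z hz => mem_centralizer_singleton_iff.2 (hcomm i hi z hz y hy)
            exact mem_centralizer_singleton_iff.1 (hle hu)
          have hz : b * y * b⁻¹ * y⁻¹ ∈ V 0 := by
            have h1 := P.comm y hy b hb
            have h2 : b * y * b⁻¹ * y⁻¹ = (y * b * y⁻¹ * b⁻¹)⁻¹ := by group
            rw [h2]; exact inv_mem h1
          have hzc := Zc _ (Growth.le_W V (by omega : 0 < 2) hz) u (by
            rw [hUs]; exact Growth.W_mono V (Nat.le_succ n) hu)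
          calc u * b * y * (u * b)⁻¹ = u * (b * y * b⁻¹ * y⁻¹) * y * u⁻¹ := by group
            _ = (b * y * b⁻¹ * y⁻¹) * (u * y) * u⁻¹ := by rw [← hzc]; group
            _ = (b * y * b⁻¹ * y⁻¹) * (y * u) * u⁻¹ := by rw [huy]
            _ = b * y * b⁻¹ := by group
        rw [hconj]
        by_cases hbw : b = w
        · refine ⟨1, ⟨one_mem B0, fun h => hw1 h.symm⟩, ?_⟩
          change 1 * y * 1⁻¹ = b * y * b⁻¹
          rw [hbw, hwy]; group
        · exact ⟨b, ⟨hbB, hbw⟩, rfl⟩
      calc Set.ncard {x | ∃ c ∈ Us, c * v = v * c ∧ x = c * y * c⁻¹}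
          ≤ Set.ncard ((fun b => b * y * b⁻¹) '' ((B0 : Set G) \ {w})) := Set.ncard_le_ncard hsub (Set.toFinite _)
        _ ≤ Set.ncard ((B0 : Set G) \ {w}) := Set.ncard_image_le (Set.toFinite _)
        _ < Set.ncard (B0 : Set G) := Set.ncard_lt_ncard ⟨Set.sdiff_subset, fun h => (h hwB).2 rfl⟩ (Set.toFinite _)
        _ = Nat.card B0 := (Nat.card_coe_set_eq _).symm
        _ ≤ q := hB

end Cfsg.Agent.OddHalf.D7F4.OutField
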