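import Cfsg.Agent.OddHalf.D7F4.OutEnm
import Cfsg.Agent.OddHalf.Out.Excl

/-!
# Pattern (C, C): an involution of graph type (helper84, bb ODD 11098 §4)

The last two pairs of the enumeration are `(W_{α₂+2α₁}, W_{α₁+α₂})` and `(W_{α₂}, W_{α₁})`.
-/

set_option autoImplicit false

namespace Cfsg.Agent.OddHalf.D7F4.OutGraph

open Subgroup Out.Exclude Out.Excl Cfsg.Agent.Doubling

variable {G : Type*} [Group G] {t : G} {T U Us : Subgroup G} {V X : ℕ → Subgroup G} {m : ℕ}

/-- the involutions of `C_{U*}(v)` -/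
theorem inv_mem_M (D : Growth.Dbl t V X (2 * (m + 2))) {v : G} (S : Swap v V (m + 2))
    (brm : ∀ a ∈ V (2 * (m + 1)), ∀ b ∈ V (2 * (m + 1) + 1), Out.Graph.br a b ∈ V (2 * m + 1) ⊔ V (2 * m))
    (c33 : ∀ w ∈ V (2 * m + 1) ⊔ V (2 * m), ∀ y ∈ V (2 * m + 1) ⊔ V (2 * m), w * y = y * w)
    (hB : ∀ w ∈ V (2 * (m + 1)), Out.Graph.br w (v * w * v) ∈ V (2 * m) → w = 1) {x : G}
    (hx : x ∈ Growth.W V (2 * (m + 2))) (hxv : x * v = v * x) (hxx : x * x = 1) :
    x ∈ Growth.W V (2 * (m + 1)) := by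
  obtain ⟨u, hu, a, ha, b, hb, rfl⟩ := decomp D (by omega : m + 1 < m + 2) hx
  have hfix : v * (u * a * b) * v = u * a * b := by
    rw [mul_assoc, hxv, ← mul_assoc, S.vv, one_mul]
  have hba := fixed_comp D S (by omega) hu ha hb hfix
  obtain ⟨u1, hu1, z, hz, rfl⟩ := D.mem_succ (k := 2 * m + 1) (by omega) hu
  have norm : ∀ g, (g ∈ V (2 * (m + 1)) ∨ g ∈ V (2 * (m + 1) + 1) ∨ g ∈ V (2 * m + 1)) →
      ∀ w ∈ Growth.W V (2 * m + 1), g * w * g⁻¹ ∈ Growth.W V (2 * m + 1) := by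
    rintro g (hg | hg | hg) w hw
    · exact D.normal (by omega) (by omega) hg hw
    · exact D.normal (by omega) (by omega) hg hw
    · exact D.normal le_rfl (by omega) hg hw
  have na := norm a (Or.inl ha)
  have nb := norm b (Or.inr (Or.inl hb))
  have nz := norm z (Or.inr (Or.inr hz))
  have nzi := norm z⁻¹ (Or.inr (Or.inr (inv_mem hz)))
  have haa := D.sq _ (by omega) a ha
  have hbb := D.sq _ (by omega) b hb
  have hzz := D.sq _ (by omega) z hz
  have hai : a⁻¹ = a := inv_eq_of_mul_eq_one_left haa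
  have hbi : b⁻¹ = b := inv_eq_of_mul_eq_one_left hbb
  have c1 : z * a * z⁻¹ * a⁻¹ ∈ Growth.W V (2 * m + 1) := D.comm _ _ (by omega) (by omega) z hz a ha
  have c2 : z * b * z⁻¹ * b⁻¹ ∈ Growth.W V (2 * m + 1) := D.comm _ _ (by omega) (by omega) z hz b hb
  -- `a b a b` modulo `W (2m+1)`
  have h1 : a * b * (a * b) ∈ Growth.W V (2 * m + 1) := by
    -- `n = (a b) z (a b)⁻¹ z⁻¹`
    have hn : (a * b) * z * (a * b)⁻¹ * z⁻¹ ∈ Growth.W V (2 * m + 1) := by
      have e : (a * b) * z * (a * b)⁻¹ * z⁻¹ =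
          (a * (z * b * z⁻¹ * b⁻¹)⁻¹ * a⁻¹) * (z * a * z⁻¹ * a⁻¹)⁻¹ := by group
      rw [e]
      exact mul_mem (na _ (inv_mem c2)) (inv_mem c1)
    have hp : z * (a * b) * (z * (a * b)) ∈ Growth.W V (2 * m + 1) := by
      have e : z * (a * b) * (z * (a * b)) =
          (u1 * (z * (a * (b * u1 * b⁻¹) * a⁻¹) * z⁻¹))⁻¹ * (u1 * z * a * b * (u1 * z * a * b)) := by group
      rw [e, hxx, mul_one]
      exact inv_mem (mul_mem hu1 (nz _ (na _ (nb _ hu1))))
    have e : a * b * (a * b) =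
        ((z * ((a * b) * z * (a * b)⁻¹ * z⁻¹) * z⁻¹) * (z * z))⁻¹ * (z * (a * b) * (z * (a * b))) := by group
    rw [e, hzz, mul_one]
    exact mul_mem (inv_mem (nz _ hn)) hp
  have h2 : Out.Graph.br a b = a * b * (a * b) := by
    unfold Out.Graph.br
    rw [hai, hbi]; group
  obtain ⟨y, hy, z', hz', hyz⟩ := (CC.mem_sup_of_comm (fun w hw v hv =>
    c33 w (mem_sup_left hw) v (mem_sup_right hv))).1 (brm a ha b hb)
  have hy1 : y ∈ V (2 * m + 1) ⊓ Growth.W V (2 * m + 1) := by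
    refine Subgroup.mem_inf.2 ⟨hy, ?_⟩
    have e : y = a * b * (a * b) * z'⁻¹ := by rw [← h2, hyz]; group
    rw [e]
    exact mul_mem h1 (inv_mem (Growth.le_W V (by omega : 2 * m < 2 * m + 1) hz'))
  rw [Out.Grow.disj D (by omega), mem_bot] at hy1
  have h3 : Out.Graph.br a (v * a * v) ∈ V (2 * m) := by
    rw [← hba, hyz, hy1, one_mul]; exact hz'
  have ha1 := hB a ha h3
  have hb1 : b = 1 := by
    rw [hba, ha1, mul_one, S.vv]
  rw [ha1, hb1, mul_one, mul_one]
  exact hu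

/-- **The exclusion for graph type.** -/
theorem excl_graph [Finite G] (F : Fr t T U Us) (D : Growth.Dbl t V X (2 * (m + 2)))
    (hUs : Us = Growth.W V (2 * (m + 2))) (hU : U = Growth.W X (2 * (m + 2))) {s : G} (S : Swap s V (m + 2))
    (sT : s ∈ T) (hs1 : s ∉ U) (hs2 : t * s ∉ U)
    {K : Type*} [Field K] {θ : K →+* K} {x1 x2 x3 : K → G}
    (P : Out.Graph.GP t s θ x1 x2 x3 (V (2 * (m + 1))) (V (2 * (m + 1) + 1)) (V (2 * m + 1)) (V (2 * m)))
    (Z : Subgroup G) (Zc : ∀ z ∈ Growth.W V 2, ∀ w ∈ Us, z * w = w * z)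
    (k0 : ∀ z ∈ Growth.W V 2, ∀ g : G, g⁻¹ * t * g ≠ z) (k0' : ∀ z ∈ Z, ∃ g : G, g⁻¹ * t * g = t * z)
    (hZ : Nat.card Z ≤ Nat.card (V 0))
    (k1 : ∀ c ∈ T, (∀ a ∈ T, ∀ b ∈ T, c * (a * b * a⁻¹ * b⁻¹) = a * b * a⁻¹ * b⁻¹ * c) → c ∈ Z ∨ t * c ∈ Z)
    (k2 : ∀ c ∈ T, (∀ z ∈ Z, c * z = z * c) → c ∈ U ∨ t * c ∈ U)
    {Q : ℕ} (hQ : ∀ i < 2 * (m + 2), Nat.card (V i) ≤ Q) (hcU : Q ^ (m + 1) < Nat.card U) :
    ∃ v, (v = s ∨ v = t * s) ∧ NoConj F v := by
  have ti := P.t_inv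
  have si := P.s_inv
  have st := P.st
  have S' : Swap (t * s) V (m + 2) := by
    have e : ∀ w, t * s * w * (t * s) = t * (s * w * s) * t := by
      intro w
      calc t * s * w * (t * s) = t * s * w * (s * t) := by rw [st]
        _ = t * (s * w * s) * t := by group
    refine ⟨?_, fun k hk w hw => ?_, fun k hk w hw => ?_⟩
    · have := e 1
      rw [mul_one, mul_one, S.vv, mul_one, P.tt] at this
      exact this
    · rw [e]
      exact D.conj _ (by omega) _ (S.even k hk w hw)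
    · rw [e]
      exact D.conj _ (by omega) _ (S.odd k hk w hw)
  have main : ∀ v, (v = s ∨ v = t * s) → Swap v V (m + 2) →
      (∀ w ∈ V (2 * (m + 1)), Out.Graph.br w (v * w * v) ∈ V (2 * m) → w = 1) → NoConj F v := by
    intro v hv Sv hB
    have hvU : v ∉ Us := by
      rcases hv with rfl | rfl
      · exact fun h => hs1 (mem_U F sT h)
      · exact fun h => hs2 (mem_U F (mul_mem F.tT sT) h)
    have hW2 : Growth.W V 2 ≤ Us := by
      rw [hUs]; exact Growth.W_mono V (by omega)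
    refine excl_of F ?_ fun g hg hgv => ?_
    · intro w hw h1
      rw [hUs] at hw
      obtain ⟨c, hc, h2⟩ := conj_pair D Sv (m + 2) le_rfl w hw h1
      exact ⟨c, hUs ▸ hc, h2⟩
    · refine Out.Graph.excludedG F hvU Z (Growth.W V 2) hW2 Zc k0 k0' ?_ k1 k2 ?_
        (Growth.W V (2 * (m + 1))) ?_ ?_ hgv hg
      · -- `|V 0| ≤ |C_{W 2}(v)|`
        refine hZ.trans (Nat.card_le_card_of_injective (fun a : V 0 => (⟨a * (v * a * v), ?_⟩ :
          (Growth.W V 2 ⊓ centralizer ({v} : Set G) : Subgroup G))) ?_)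
        · have ha' := Sv.even 0 (by omega) a a.2
          have ha : (a : G) ∈ Growth.W V 2 := Growth.le_W V (by omega) a.2
          have ha2 : v * (a : G) * v ∈ Growth.W V 2 := Growth.le_W V (by omega : 2 * 0 + 1 < 2) ha'
          refine ⟨mul_mem ha ha2, mem_centralizer_singleton_iff.2 ?_⟩
          have hc := Zc a ha _ (hW2 ha2)
          calc (a : G) * (v * a * v) * v = a * v * a * (v * v) := by group
            _ = a * v * a := by rw [Sv.vv, mul_one]
            _ = (v * v) * (a * v * a) := by rw [Sv.vv, one_mul]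
            _ = v * ((v * a * v) * a) := by group
            _ = v * (a * (v * a * v)) := by rw [hc]
        · intro a b hab
          have h1 : (a : G) * (v * a * v) = b * (v * b * v) := congrArg Subtype.val hab
          have ha' := Sv.even 0 (by omega) a a.2
          have hb' := Sv.even 0 (by omega) b b.2
          have h2 : (b : G)⁻¹ * a * ((v * a * v) * (v * b * v)⁻¹) = 1 := by
            calc (b : G)⁻¹ * a * ((v * a * v) * (v * b * v)⁻¹) = (b : G)⁻¹ * (a * (v * a * v)) * (v * b * v)⁻¹ := by group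
              _ = 1 := by rw [h1]; group
          obtain ⟨h3, -⟩ := pair_one D (by omega : 0 < m + 2) (mul_mem (inv_mem b.2) a.2)
            (mul_mem ha' (inv_mem hb')) (by rw [h2]; exact one_mem _)
          exact Subtype.ext (inv_mul_eq_one.1 h3).symm
      · intro P' hP'
        rw [hU]
        refine iSup₂_le fun i hi x hx => hP' x ?_ (D.sq i hi x (D.X_le i hi hx))
        rw [hU]; exact Growth.le_W X hi hx
      · intro x hx hxv hxx
        rw [hUs] at hx
        exact inv_mem_M D Sv P.brm P.c33 hB hx hxv hxx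
      · have h1 := card_pair D Sv hQ (m + 1) (by omega)
        refine lt_of_le_of_lt ?_ (lt_of_le_of_lt h1 hcU)
        refine Nat.card_le_card_of_injective _ (inclusion_injective ?_)
        exact inf_le_inf_right _ inf_le_right
  rcases P.main with h | h
  · exact ⟨s, Or.inl rfl, main s (Or.inl rfl) S h⟩
  · refine ⟨t * s, Or.inr rfl, main (t * s) (Or.inr rfl) S' fun w hw hw' => h w hw ?_⟩
    have e : (t * s)⁻¹ = t * s := by rw [mul_inv_rev, ti, si, st]
    rwa [e]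

end Cfsg.Agent.OddHalf.D7F4.OutGraph
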