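import Cfsg.Agent.OddHalf.D7F4.OutModel
import Cfsg.Agent.OddHalf.D7F4.OutGraph
import Cfsg.Agent.OddHalf.D7F4.OutField

/-!
# K = F4(q): both lengths are moved, any outer 2-part (S1765, node D7; helper84)

* `Crd t F x X W H`: coordinates of the root groups and the torus;
* `Fld`, `Grf`: field and graph type;
* `TG`: the Sylow group `T` of `C_G(t)`, `T = D U`;
* `main`: `t` is not in the commutator subgroup of `G`.
-/

set_option autoImplicit false
set_option linter.unusedSectionVars false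

namespace Cfsg.Agent.OddHalf.D7F4.CCOut

open Model TypeC CC OutEnm OutModel Cfsg.Agent.Doubling Subgroup Out.Exclude Out.Excl
open Lead (Ab Dir Ab_le Ab_mono ρ σ ρ' σ' α3 α0)

def α2 : Fin 4 → ℤ := ![0, 0, 1, 0]
def α1 : Fin 4 → ℤ := ![0, 1, 0, 0]
def α12 : Fin 4 → ℤ := ![0, 1, 1, 0]
def α112 : Fin 4 → ℤ := ![0, 2, 1, 0]

/-- the value of a character -/
def ch {F : Type*} [Field F] (χ : Fin 4 → Fˣ) (a : Fin 4 → ℤ) : F := ((∏ i, χ i ^ a i : Fˣ) : F)

/-- Coordinates. -/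
structure Crd {G : Type*} [Group G] (t : G) {F : Type*} [Field F] (x : (Fin 4 → ℤ) → F → G)
    (X W : (Fin 4 → ℤ) → Subgroup G) (H : Subgroup G) : Prop where
  mem : ∀ a ∈ rts, ∀ u, x a u ∈ X a
  surj : ∀ a ∈ rts, ∀ g ∈ X a, ∃ u, g = x a u
  add : ∀ a ∈ rts, ∀ u v, x a (u + v) = x a u * x a v
  inj : ∀ a ∈ rts, ∀ u, x a u = 1 → u = 0
  r1 : ∀ u v, x ρ' u * x α3 v * (x ρ' u)⁻¹ * (x α3 v)⁻¹ = x ρ (u * v)
  r2 : ∀ u v, ∃ w ∈ X α112, x α2 u * x α1 v * (x α2 u)⁻¹ * (x α1 v)⁻¹ = x α12 (u * v) * w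
  tor : ∀ χ : Fin 4 → Fˣ, ∃ h ∈ H, ∀ a ∈ rts, ∀ u, h * x a u * h⁻¹ = x a (ch χ a * u)
  Ht : ∀ h ∈ H, t * h = h * t
  HX : ∀ h ∈ H, ∀ a ∈ rts, ∀ y ∈ X a, h * y * h⁻¹ ∈ X a
  HW : ∀ h ∈ H, ∀ a ∈ rts, (∀ y ∈ X a, h * y = y * h) → ∀ w ∈ W a, h * w = w * h
  Hs : ∀ h ∈ H, ∀ y, y * t = t * y → y * h * y⁻¹ * h⁻¹ ≠ t
  /-- `C(t) ∩ C(K) = {1, t}` -/
  cK : ∀ g, g * t = t * g → (∀ a ∈ rts, ∀ y ∈ X a, g * y = y * g) → g = 1 ∨ g = t

/-- field type -/
def Fld {G F : Type*} [Group G] [Field F] (x : (Fin 4 → ℤ) → F → G) (d : G) (φ : F →+* F) : Prop :=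
  ∀ a ∈ rts, ∀ u, d * x a u * d⁻¹ = x a (φ u)

/-- graph type -/
def Grf {G F : Type*} [Group G] [Field F] (x : (Fin 4 → ℤ) → F → G) (d : G) (θ : F →+* F) : Prop :=
  ∀ a ∈ rts, ∀ u, (B a a = 4 → d * x a u * d⁻¹ = x (dual a) (θ u)) ∧
    (B a a = 2 → d * x a u * d⁻¹ = x (dual a) (θ u * θ u))

/-- The Sylow group `T` of `C_G(t)`. -/
structure TG {G F : Type*} [Group G] [Field F] (t : G) (T D U : Subgroup G) (x : (Fin 4 → ℤ) → F → G) : Prop where
  T2 : IsPGroup 2 T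
  tD : t ∈ D
  Tc : ∀ d ∈ T, d * t = t * d
  Tmax : ∀ P : Subgroup G, IsPGroup 2 P → T ≤ P → (∀ x ∈ P, x * t = t * x) → P ≤ T
  UT : U ≤ T
  ab : ∀ a ∈ T, ∀ b ∈ T, a * b * a⁻¹ * b⁻¹ ∈ U
  DT : D ≤ T
  fac : ∀ v ∈ T, ∃ y ∈ D, ∃ x ∈ U, v = y * x
  DU : ∀ e ∈ D, e ∈ U → e = 1
  one : ∀ e ∈ D, ∀ f ∈ D, e * e = 1 → f * f = 1 → e ≠ 1 → e ≠ t → f ≠ 1 → f ≠ t → f = e ∨ f = t * e
  act : ∀ y ∈ D, (∃ φ : F →+* F, Fld x y φ) ∨ ∃ θ : F →+* F, Grf x y θ

variable {G : Type*} [Group G] {t : G} {F : Type*} [Field F] {x : (Fin 4 → ℤ) → F → G}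
  {X W : (Fin 4 → ℤ) → Subgroup G} {H : Subgroup G}

namespace Crd

variable (C : Crd t x X W H)

include C

theorem zero {a : Fin 4 → ℤ} (ha : a ∈ rts) : x a 0 = 1 := by
  have h1 := C.add a ha 0 0
  rw [add_zero] at h1
  exact (mul_eq_left.1 h1.symm)

theorem xinj {a : Fin 4 → ℤ} (ha : a ∈ rts) {u v : F} (h : x a u = x a v) : u = v := by
  have h1 : x a (u - v) = 1 := by
    have h2 := C.add a ha (u - v) v
    rw [sub_add_cancel, h] at h2
    exact (mul_eq_right.1 h2.symm)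
  exact sub_eq_zero.1 (C.inj a ha _ h1)

theorem card_X [Finite F] {a : Fin 4 → ℤ} (ha : a ∈ rts) : Nat.card (X a) = Nat.card F := by
  symm
  refine Nat.card_congr (Equiv.ofBijective (fun u => (⟨x a u, C.mem a ha u⟩ : X a)) ⟨?_, ?_⟩)
  · intro u v h
    exact C.xinj ha (congrArg Subtype.val h)
  · rintro ⟨g, hg⟩
    obtain ⟨u, rfl⟩ := C.surj a ha g hg
    exact ⟨u, rfl⟩

/-- an element acting on all root groups and fixing the coordinates is `1` or `t` -/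
theorem eq_of_fix {g : G} (hg : g * t = t * g) (h : ∀ a ∈ rts, ∀ u, g * x a u * g⁻¹ = x a u) : g = 1 ∨ g = t := by
  refine C.cK g hg fun a ha y hy => ?_
  obtain ⟨u, rfl⟩ := C.surj a ha y hy
  have h1 := h a ha u
  calc g * x a u = g * x a u * g⁻¹ * g := by group
    _ = x a u * g := by rw [h1]

end Crd

/-! ### Conjugation -/

theorem dual_nonneg : ∀ a ∈ rts, ∀ b ∈ rts, 0 ≤ B (dual a) (dual b) → 0 ≤ B a b := by decide +kernel

theorem dual_lv : ∀ a ∈ rts, 0 < lv a → 0 < lv (dual a) := by decide +kernel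

/-- Field type elements normalise the doubled root groups. -/
theorem fld_W [Finite F] (h : CC.Hyp t B Phi X W) (C : Crd t x X W H) {d : G} (hd : d * t = t * d) {φ : F →+* F}
    (hφ : Fld x d φ) {a : Fin 4 → ℤ} (ha : a ∈ rts) {w : G} (hw : w ∈ W a) : d * w * d⁻¹ ∈ W a := by
  refine canon h hd.symm (π := id) (fun a ha => ha) (fun c hc => ⟨c, hc, rfl⟩) (fun a _ b _ h => h) ?_ ?_ ha hw
  · intro a ha y hy
    obtain ⟨u, rfl⟩ := C.surj a ha y hy
    rw [hφ a ha]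
    exact C.mem a ha _
  · intro a ha y hy
    obtain ⟨u, rfl⟩ := C.surj a ha y hy
    obtain ⟨v, rfl⟩ := (Finite.injective_iff_surjective.1 φ.injective) u
    rw [← hφ a ha]
    have : d⁻¹ * (d * x a v * d⁻¹) * d = x a v := by group
    rw [this]
    exact C.mem a ha _

theorem grf_surj [Finite F] [CharP F 2] (θ : F →+* F) (u : F) : ∃ v, θ v * θ v = u := by
  obtain ⟨v, rfl⟩ := (Finite.injective_iff_surjective.1 θ.injective) u
  obtain ⟨w, rfl⟩ := (Finite.injective_iff_surjective.1 (frobenius F 2).injective) v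
  exact ⟨w, by rw [frobenius_def, pow_two, map_mul]⟩

/-- Graph type elements interchange the doubled root groups. -/
theorem grf_W [Finite F] [CharP F 2] (h : CC.Hyp t B Phi X W) (C : Crd t x X W H) {d : G} (hd : d * t = t * d)
    {θ : F →+* F} (hθ : Grf x d θ) {a : Fin 4 → ℤ} (ha : a ∈ rts) {w : G} (hw : w ∈ W a) :
    d * w * d⁻¹ ∈ W (dual a) := by
  refine canon h hd.symm (π := dual) dual_mem (fun c hc => ⟨dual c, dual_mem c hc, dual_dual c hc⟩)
    dual_nonneg ?_ ?_ ha hw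
  · intro a ha y hy
    obtain ⟨u, rfl⟩ := C.surj a ha y hy
    rcases Model.norm a ha with h1 | h1
    · rw [(hθ a ha u).2 h1]; exact C.mem _ (dual_mem a ha) _
    · rw [(hθ a ha u).1 h1]; exact C.mem _ (dual_mem a ha) _
  · intro a ha y hy
    obtain ⟨u, rfl⟩ := C.surj _ (dual_mem a ha) y hy
    rcases Model.norm a ha with h1 | h1
    · obtain ⟨v, rfl⟩ := grf_surj θ u
      rw [← (hθ a ha v).2 h1]
      have : d⁻¹ * (d * x a v * d⁻¹) * d = x a v := by group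
      rw [this]
      exact C.mem a ha _
    · obtain ⟨v, rfl⟩ := (Finite.injective_iff_surjective.1 θ.injective) u
      rw [← (hθ a ha v).1 h1]
      have : d⁻¹ * (d * x a v * d⁻¹) * d = x a v := by group
      rw [this]
      exact C.mem a ha _

/-- `D` normalises `U*`. -/
theorem D_norm [Finite F] [CharP F 2] (h : CC.Hyp t B Phi X W) (C : Crd t x X W H) {d : G} (hd : d * t = t * d)
    (hact : (∃ φ : F →+* F, Fld x d φ) ∨ ∃ θ : F →+* F, Grf x d θ) {w : G} (hw : w ∈ Ab W 0) :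
    d * w * d⁻¹ ∈ Ab W 0 := by
  have hle : Ab W 0 ≤ (Ab W 0).comap (MulAut.conj d).toMonoidHom := by
    refine Ab_le fun a ha ha0 v hv => ?_
    show d * v * d⁻¹ ∈ Ab W 0
    rcases hact with ⟨φ, hφ⟩ | ⟨θ, hθ⟩
    · exact Lead.le_Ab ha ha0 (fld_W h C hd hφ ha hv)
    · exact Lead.le_Ab (dual_mem a ha) (dual_lv a ha ha0) (grf_W h C hd hθ ha hv)
  exact hle hw

section main

variable [Finite G] [Finite F] [CharP F 2] {T D : Subgroup G}

/-- The frame. -/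
theorem fr (h : CC.Hyp t B Phi X W) (hD : Dir X) (C : Crd t x X W H) (hT : TG t T D (Ab X 0) x) :
    Fr t T (Ab X 0) (Ab W 0) where
  tt := h.tt
  T2 := hT.T2
  tT := hT.DT hT.tD
  Tc := hT.Tc
  Tmax := hT.Tmax
  Us2 := Us2 h hD (fun a ha => C.card_X ha)
  norm := by
    intro d hd w hw
    obtain ⟨y, hy, u, hu, rfl⟩ := hT.fac d hd
    have hu' : u ∈ Ab W 0 := ((mem_U_iff h hD (fun a ha => C.card_X ha)).1 hu).1
    have h1 := D_norm h C (hT.Tc y (hT.DT hy)) (hT.act y hy) (mul_mem (mul_mem hu' hw) (inv_mem hu'))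
    have h2 : y * (u * w * u⁻¹) * y⁻¹ = y * u * w * (y * u)⁻¹ := by group
    rwa [h2] at h1
  UT := hT.UT
  hU := fun w => mem_U_iff h hD (fun a ha => C.card_X ha)
  ab := hT.ab

theorem fld_fix (C : Crd t x X W H) {d : G} (hd : d * t = t * d)
    (hact : (∃ φ : F →+* F, Fld x d φ) ∨ ∃ θ : F →+* F, Grf x d θ)
    (hind : ∀ y ∈ X ρ, y ∈ X σ → y = 1)
    (hc : ∀ y ∈ X ρ, d * y = y * d) : d = 1 ∨ d = t := by
  have hx : ∀ u, d * x ρ u * d⁻¹ = x ρ u := by
    intro u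
    rw [hc _ (C.mem ρ Lead.ρ_mem u), mul_inv_cancel_right]
  rcases hact with ⟨φ, hφ⟩ | ⟨θ, hθ⟩
  · apply C.eq_of_fix hd
    intro a ha u
    have h1 := hx u
    rw [hφ ρ Lead.ρ_mem] at h1
    rw [hφ a ha, C.xinj Lead.ρ_mem h1]
  · exfalso
    have h1 := hx 1
    have e : B ρ ρ = 4 ∧ dual ρ = σ := by decide +kernel
    rw [(hθ ρ Lead.ρ_mem 1).1 e.1, e.2] at h1
    have h2 := hind (x ρ 1) (C.mem ρ Lead.ρ_mem 1) (by rw [← h1]; exact C.mem σ Lead.σ_mem _)
    exact one_ne_zero (C.inj ρ Lead.ρ_mem 1 h2)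

/-- elements of `T` centralising `X ρ` -/
theorem hout (hK : KF t X) (C : Crd t x X W H) (hT : TG t T D (Ab X 0) x) {c : G} (hc : c ∈ T)
    (hcc : ∀ y ∈ X ρ, c * y = y * c) : c ∈ Ab X 0 ∨ t * c ∈ Ab X 0 := by
  obtain ⟨d, hd, u, hu, rfl⟩ := hT.fac c hc
  have h1 : ∀ y ∈ X ρ, d * y = y * d := by
    intro y hy
    have h2 := hcc y hy
    have h3 := Lead.central hK (Or.inl rfl) hy hu
    have h4 : d * y * u = y * d * u := by
      calc d * y * u = d * (y * u) := by group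
        _ = d * (u * y) := by rw [h3]
        _ = d * u * y := by group
        _ = y * (d * u) := h2
        _ = y * d * u := by group
    exact mul_right_cancel h4
  rcases fld_fix C (hT.Tc d (hT.DT hd)) (hT.act d hd)
    (fun y hy hy' => hK.ind ρ Lead.ρ_mem σ Lead.σ_mem (by decide +kernel) y hy hy') h1 with h2 | h2
  · left; rw [h2, one_mul]; exact hu
  · right; rw [h2, ← mul_assoc, hK.tt, one_mul]; exact hu

/-- `|D| ≤ 4 q` -/
theorem card_D (hK : KF t X) (C : Crd t x X W H) (hT : TG t T D (Ab X 0) x) :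
    Nat.card D ≤ 2 * (2 * Nat.card F) := by
  classical
  have := Fintype.ofFinite F
  obtain ⟨ω, hω⟩ := IsCyclic.exists_generator (α := Fˣ)
  have hid : ∀ φ : F →+* F, φ ω = ω → ∀ u, φ u = u := by
    intro φ hφ u
    by_cases hu : u = 0
    · rw [hu, map_zero]
    · obtain ⟨n, hn⟩ := Subgroup.mem_zpowers_iff.1 (hω (Units.mk0 u hu))
      have h1 : u = (ω : F) ^ n := by
        have := congrArg Units.val hn
        rw [Units.val_zpow_eq_zpow_val, Units.val_mk0] at this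
        exact this.symm
      rw [h1, map_zpow₀, hφ]
  have hind : ∀ y ∈ X ρ, y ∈ X σ → y = 1 := fun y hy hy' =>
    hK.ind ρ Lead.ρ_mem σ Lead.σ_mem (by decide +kernel) y hy hy'
  have e : B ρ ρ = 4 ∧ dual ρ = σ := by decide +kernel
  have hval : ∀ d : D, ∃ z : F ⊕ F, (d : G) * x ρ ω * (d : G)⁻¹ = Sum.elim (x ρ) (x σ) z := by
    intro d
    rcases hT.act d d.2 with ⟨φ, hφ⟩ | ⟨θ, hθ⟩
    · exact ⟨Sum.inl (φ ω), hφ ρ Lead.ρ_mem ω⟩
    · exact ⟨Sum.inr (θ ω), by rw [(hθ ρ Lead.ρ_mem ω).1 e.1, e.2]; rfl⟩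
  choose f hf using hval
  have key : ∀ d d' : D, f d = f d' → (d : G) = d' ∨ (d : G) = d' * t := by
    intro d d' hdd
    have hk : ((d' : G)⁻¹ * d) * x ρ ω * ((d' : G)⁻¹ * d)⁻¹ = x ρ ω := by
      have h1 := hf d
      rw [hdd, ← hf d'] at h1
      calc ((d' : G)⁻¹ * d) * x ρ ω * ((d' : G)⁻¹ * d)⁻¹ = (d' : G)⁻¹ * (d * x ρ ω * (d : G)⁻¹) * d' := by group
        _ = x ρ ω := by rw [h1]; group
    have hkD : (d' : G)⁻¹ * d ∈ D := mul_mem (inv_mem d'.2) d.2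
    have hkt := hT.Tc _ (hT.DT hkD)
    have h2 : (d' : G)⁻¹ * d = 1 ∨ (d' : G)⁻¹ * d = t := by
      rcases hT.act _ hkD with ⟨φ, hφ⟩ | ⟨θ, hθ⟩
      · apply C.eq_of_fix hkt
        rw [hφ ρ Lead.ρ_mem] at hk
        have h3 := hid φ (C.xinj Lead.ρ_mem hk)
        intro a ha u
        rw [hφ a ha, h3]
      · exfalso
        rw [(hθ ρ Lead.ρ_mem _).1 e.1, e.2] at hk
        have h2 := hind (x ρ ω) (C.mem ρ Lead.ρ_mem ω) (by rw [← hk]; exact C.mem σ Lead.σ_mem _)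
        exact ω.ne_zero (C.inj ρ Lead.ρ_mem ω h2)
    rcases h2 with h2 | h2
    · left; exact (inv_mul_eq_one.1 h2).symm
    · right; rw [← h2, mul_inv_cancel_left]
  have hr : ∀ z : F ⊕ F, ∃ r : D, ∀ d : D, f d = z → (d : G) = r ∨ (d : G) = r * t := by
    intro z
    by_cases hz : ∃ r, f r = z
    · obtain ⟨r, rfl⟩ := hz
      exact ⟨r, fun d hd => key d r hd⟩
    · exact ⟨1, fun d hd => absurd ⟨d, hd⟩ hz⟩
  choose r hr using hr
  have h1 : Nat.card D ≤ Nat.card (Bool × (F ⊕ F)) := by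
    refine Nat.card_le_card_of_injective (fun d : D => (decide ((d : G) = r (f d)), f d)) ?_
    intro d d' hdd
    have h1 : decide ((d : G) = r (f d)) = decide ((d' : G) = r (f d')) := congrArg Prod.fst hdd
    have h2 : f d = f d' := congrArg Prod.snd hdd
    apply Subtype.ext
    rw [decide_eq_decide] at h1
    by_cases h3 : (d : G) = r (f d)
    · rw [h3, h1.1 h3, h2]
    · have h4 := (hr (f d) d rfl).resolve_left h3
      have h5 := (hr (f d') d' rfl).resolve_left (fun h => h3 (h1.2 h))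
      rw [h4, h5, h2]
  rw [Nat.card_prod, Nat.card_sum] at h1
  have h2 : Nat.card Bool = 2 := by simp
  rw [h2] at h1
  omega

/-- `t` is not conjugate to an element centralising `U*` -/
theorem k0 (hK : KF t X) (h : CC.Hyp t B Phi X W) (hD : Dir X) (C : Crd t x X W H) (hT : TG t T D (Ab X 0) x)
    {z : G} (hz : ∀ w ∈ Ab W 0, z * w = w * z) (g : G) : g⁻¹ * t * g ≠ z := by
  intro hg
  have Fm := fr h hD C hT
  set q := Nat.card F with hq
  have hq2 : 2 ≤ q := by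
    have : Nontrivial F := inferInstance
    exact Finite.one_lt_card
  -- `g U* g⁻¹ ≤ C(t)`
  set P : Subgroup G := (Ab W 0).map (MulAut.conj g).toMonoidHom with hP
  have hP2 : IsPGroup 2 P := (Us2 h hD (fun a ha => C.card_X ha)).map _
  have hPc : P ≤ centralizer ({t} : Set G) := by
    rintro _ ⟨w, hw, rfl⟩
    rw [mem_centralizer_singleton_iff]
    change g * w * g⁻¹ * t = t * (g * w * g⁻¹)
    have h1 := hz w hw
    calc g * w * g⁻¹ * t = g * (w * (g⁻¹ * t * g)) * g⁻¹ := by group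
      _ = g * (g⁻¹ * t * g * w) * g⁻¹ := by rw [hg, h1]
      _ = t * (g * w * g⁻¹) := by group
  have hPcard : Nat.card P = (q ^ 2) ^ 24 := by
    rw [hP, ← card_Us h hD (fun a ha => C.card_X ha)]
    exact (Nat.card_congr ((Ab W 0).equivMapOfInjective _ (MulAut.conj g).injective).toEquiv).symm
  have hTc : T ≤ centralizer ({t} : Set G) := fun d hd => mem_centralizer_singleton_iff.2 (hT.Tc d hd)
  have hodd := F4.EndOut.odd_relIndex Fm
  have hcardC : Nat.card T * T.relIndex (centralizer ({t} : Set G)) = Nat.card (centralizer ({t} : Set G)) := by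
    have := relIndex_mul_relIndex (⊥ : Subgroup G) T (centralizer ({t} : Set G)) bot_le hTc
    rwa [relIndex_bot_left, relIndex_bot_left] at this
  have hdvd : Nat.card P ∣ Nat.card T := by
    have h1 : Nat.card P ∣ Nat.card T * T.relIndex (centralizer ({t} : Set G)) := by
      rw [hcardC]
      exact card_dvd_of_le hPc
    obtain ⟨k, hk⟩ := hP2.exists_card_eq
    refine Nat.Coprime.dvd_of_dvd_mul_right ?_ h1
    rw [hk]
    exact Nat.Coprime.pow_left k (Nat.coprime_two_left.2 hodd)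
  have hle := Nat.le_of_dvd Nat.card_pos hdvd
  -- `|T| ≤ |D| |U|`
  have hTle : Nat.card T ≤ Nat.card D * Nat.card (Ab X 0) := by
    rw [← Nat.card_prod]
    refine Nat.card_le_card_of_surjective (fun z : D × Ab X 0 =>
      (⟨z.1 * z.2, mul_mem (hT.DT z.1.2) (hT.UT z.2.2)⟩ : T)) ?_
    rintro ⟨v, hv⟩
    obtain ⟨y, hy, u, hu, rfl⟩ := hT.fac v hv
    exact ⟨⟨⟨y, hy⟩, ⟨u, hu⟩⟩, rfl⟩
  have hDc := card_D hK C hT
  rw [card_U h hD (fun a ha => C.card_X ha)] at hTle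
  rw [hPcard] at hle
  have h1 : (q ^ 2) ^ 24 ≤ 2 * (2 * q) * q ^ 24 := hle.trans (hTle.trans (Nat.mul_le_mul_right _ hDc))
  have h2 : q ^ 23 * (q * q ^ 24) ≤ 4 * (q * q ^ 24) := by
    calc q ^ 23 * (q * q ^ 24) = (q ^ 2) ^ 24 := by ring
      _ ≤ 2 * (2 * q) * q ^ 24 := h1
      _ = 4 * (q * q ^ 24) := by ring
  have h3 : q ^ 23 ≤ 4 := Nat.le_of_mul_le_mul_right h2 (by positivity)
  have h4 : 2 ^ 23 ≤ q ^ 23 := Nat.pow_le_pow_left hq2 23
  norm_num at h4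
  omega

/-- `t` is conjugate to `t z`, `z ∈ X ρ X σ` -/
theorem k0' (h : CC.Hyp t B Phi X W) {z : G} (hz : z ∈ X ρ ⊔ X σ) : ∃ g : G, g⁻¹ * t * g = t * z := by
  have e : (0 : ℤ) ≤ B ρ σ := by decide +kernel
  have hcX : ∀ w ∈ X ρ, ∀ v ∈ X σ, w * v = v * w := fun w hw v hv =>
    h.WX ρ Lead.ρ_mem σ Lead.σ_mem e w ((h.isW ρ Lead.ρ_mem).XW hw) v hv
  obtain ⟨y1, hy1, y2, hy2, rfl⟩ := (mem_sup_of_comm hcX).1 hz
  obtain ⟨w1, hw1, e1⟩ := (h.isW ρ Lead.ρ_mem).surj y1 hy1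
  obtain ⟨w2, hw2, e2⟩ := (h.isW σ Lead.σ_mem).surj y2 hy2
  have e1' : D t w1 = y1 := e1
  have e2' : D t w2 = y2 := e2
  have hc : w2 * y1 = y1 * w2 :=
    h.WX σ Lead.σ_mem ρ Lead.ρ_mem (by rw [h.roots.symm]; exact e) w2 hw2 y1 hy1
  have h1 : D t (w1 * w2) = y1 * y2 := by
    rw [D_mul h.tt, e1', e2', mul_assoc w2⁻¹, ← hc, inv_mul_cancel_left]
  refine ⟨t * (w1 * w2) * t, ?_⟩
  rw [← h1]
  have ti := t_inv h.tt
  have h2 : (t * (w1 * w2) * t)⁻¹ = t * (w1 * w2)⁻¹ * t := by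
    rw [mul_inv_rev, mul_inv_rev, ti]; group
  rw [h2]
  unfold TypeC.D
  calc t * (w1 * w2)⁻¹ * t * t * (t * (w1 * w2) * t)
      = t * (w1 * w2)⁻¹ * (t * t) * (t * (w1 * w2) * t) := by group
    _ = t * ((w1 * w2)⁻¹ * (t * (w1 * w2) * t)) := by rw [h.tt]; group

/-! ### Graph type -/

theorem ch_ρ (χ : Fin 4 → Fˣ) : ch χ ρ = (χ 0 : F) ^ 2 * (χ 1 : F) ^ 4 * (χ 2 : F) ^ 3 * (χ 3 : F) ^ 2 := by
  unfold ch
  rw [Fin.prod_univ_four]
  simp [ρ]

theorem ch_ρ' (χ : Fin 4 → Fˣ) : ch χ ρ' = (χ 0 : F) ^ 2 * (χ 1 : F) ^ 4 * (χ 2 : F) ^ 3 * (χ 3 : F) := by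
  unfold ch
  rw [Fin.prod_univ_four]
  simp [ρ']

theorem ch_α3 (χ : Fin 4 → Fˣ) : ch χ α3 = (χ 3 : F) := by
  unfold ch
  rw [Fin.prod_univ_four]
  simp [α3]

theorem ch_α2 (χ : Fin 4 → Fˣ) : ch χ α2 = (χ 2 : F) := by
  unfold ch
  rw [Fin.prod_univ_four]
  simp [α2]

theorem sq_eq (θ : F →+* F) (two : ∀ a, θ (θ a) * θ (θ a) = a) {s : G} (C : Crd t x X W H) (hθ : Grf x s θ)
    (hst : s * t = t * s) (c : Fˣ) : ∃ h ∈ H, h * s = s * h ∧ ∀ u, h * x α2 u * h⁻¹ = x α2 (c * u) := by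
  -- the character
  set χ : Fin 4 → Fˣ := ![1, Units.map (θ : F →* F) c, c, 1] with hχ
  have hch : ∀ a : Fin 4 → ℤ, ch χ a = θ c ^ a 1 * (c : F) ^ a 2 := by
    intro a
    unfold ch
    rw [Fin.prod_univ_four]
    simp [hχ, Units.val_zpow_eq_zpow_val]
  have hθθ : ∀ n : ℤ, θ (θ c) ^ (2 * n) = (c : F) ^ n := by
    intro n
    rw [zpow_mul, zpow_ofNat, pow_two, two]
  obtain ⟨h, hh, hx⟩ := C.tor χ
  have hsi : ∀ a ∈ rts, ∀ u, s * x a u * s⁻¹ = x (dual a) (if B a a = 4 then θ u else θ u * θ u) := by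
    intro a ha u
    rcases Model.norm a ha with h1 | h1
    · rw [(hθ a ha u).2 h1, if_neg (by omega)]
    · rw [(hθ a ha u).1 h1, if_pos h1]
  have e1 : ∀ a ∈ rts, B a a = 4 → ch χ (dual a) = θ (ch χ a) := by
    have hd : ∀ a ∈ rts, B a a = 4 → 2 * dual a 2 = a 1 ∧ dual a 1 = a 2 := by decide +kernel
    intro a ha h1
    obtain ⟨k1, k2⟩ := hd a ha h1
    rw [hch, hch, map_mul, map_zpow₀, map_zpow₀, k2, ← k1, hθθ, mul_comm]
  have e2 : ∀ a ∈ rts, B a a = 2 → ch χ (dual a) = θ (ch χ a) * θ (ch χ a) := by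
    have hd : ∀ a ∈ rts, B a a = 2 → dual a 2 = a 1 ∧ dual a 1 = 2 * a 2 := by decide +kernel
    intro a ha h1
    obtain ⟨k1, k2⟩ := hd a ha h1
    rw [hch, hch, map_mul, map_zpow₀, map_zpow₀, k1, k2, mul_mul_mul_comm, ← pow_two, ← zpow_natCast, ← zpow_mul,
      ← pow_two, ← zpow_natCast (θ (c : F) ^ a 2), ← zpow_mul]
    rw [mul_comm (a 1), Nat.cast_ofNat, hθθ, mul_comm (a 2), mul_comm]
  have hcomm : s * h * s⁻¹ * h⁻¹ = 1 ∨ s * h * s⁻¹ * h⁻¹ = t := by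
    have hht : h * t = t * h := (C.Ht h hh).symm
    apply C.eq_of_fix
    · have c1 : Commute s t := hst
      have c2 : Commute h t := hht
      exact (((c1.mul_left c2).mul_left c1.inv_left).mul_left c2.inv_left).eq
    · intro b hb u
      obtain ⟨a, ha, rfl⟩ : ∃ a ∈ rts, dual a = b := ⟨dual b, dual_mem b hb, dual_dual b hb⟩
      have hb' := hb
      -- `u` in terms of `s`
      obtain ⟨v, hv⟩ : ∃ v, (if B a a = 4 then θ v else θ v * θ v) = (ch χ (dual a))⁻¹ * u := by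
        by_cases h4 : B a a = 4
        · obtain ⟨v, hv⟩ := (Finite.injective_iff_surjective.1 θ.injective) ((ch χ (dual a))⁻¹ * u)
          exact ⟨v, by rw [if_pos h4, hv]⟩
        · obtain ⟨v, hv⟩ := grf_surj θ ((ch χ (dual a))⁻¹ * u)
          exact ⟨v, by rw [if_neg h4, hv]⟩
      have hχ0 : ch χ (dual a) ≠ 0 := Units.ne_zero _
      have h3 : h⁻¹ * x (dual a) u * h = x (dual a) ((ch χ (dual a))⁻¹ * u) := by
        have h4 := hx (dual a) hb ((ch χ (dual a))⁻¹ * u)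
        rw [mul_inv_cancel_left₀ hχ0] at h4
        rw [← h4]; group
      have h5 : s⁻¹ * (h⁻¹ * x (dual a) u * h) * s = x a v := by
        rw [h3, ← hv, ← hsi a ha v]; group
      have h6 : s * h * s⁻¹ * h⁻¹ * x (dual a) u * (s * h * s⁻¹ * h⁻¹)⁻¹ =
          s * (h * (s⁻¹ * (h⁻¹ * x (dual a) u * h) * s) * h⁻¹) * s⁻¹ := by group
      rw [h6, h5, hx a ha, hsi a ha]
      congr 1
      rcases Model.norm a ha with h7 | h7
      · rw [if_neg (by omega)] at hv ⊢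
        rw [map_mul, mul_mul_mul_comm, hv, ← e2 a ha h7, mul_inv_cancel_left₀ hχ0]
      · rw [if_pos h7] at hv ⊢
        rw [map_mul, hv, ← e1 a ha h7, mul_inv_cancel_left₀ hχ0]
  have h1 : s * h * s⁻¹ * h⁻¹ = 1 := hcomm.resolve_right (C.Hs h hh s hst)
  refine ⟨h, hh, ?_, fun u => ?_⟩
  · have h2 : s * h * s⁻¹ = h := mul_inv_eq_one.1 h1
    calc h * s = s * h * s⁻¹ * s := by rw [h2]
      _ = s * h := by group
  · have e : α2 ∈ rts := by decide +kernel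
    have e' : ch χ α2 = (c : F) := by rw [ch_α2]; rfl
    rw [hx α2 e, e']

theorem α2_mem : α2 ∈ rts := by decide +kernel
theorem α1_mem : α1 ∈ rts := by decide +kernel
theorem α12_mem : α12 ∈ rts := by decide +kernel
theorem α112_mem : α112 ∈ rts := by decide +kernel

/-- The torus normalises the doubled root groups. -/
theorem H_W (h : CC.Hyp t B Phi X W) (C : Crd t x X W H) {g : G} (hg : g ∈ H) {a : Fin 4 → ℤ} (ha : a ∈ rts) {w : G}
    (hw : w ∈ W a) : g * w * g⁻¹ ∈ W a := by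
  refine canon h (C.Ht g hg) (π := id) (fun a ha => ha) (fun c hc => ⟨c, hc, rfl⟩) (fun a _ b _ h => h) ?_ ?_ ha hw
  · intro a ha y hy
    exact C.HX g hg a ha y hy
  · intro a ha y hy
    have := C.HX g⁻¹ (inv_mem hg) a ha y hy
    rwa [inv_inv] at this

theorem gp (hK : KF t X) (h : CC.Hyp t B Phi X W) (C : Crd t x X W H) {s : G} (ss : s * s = 1) (hst : s * t = t * s)
    {θ : F →+* F} (hθ : Grf x s θ) :
    Out.Graph.GP t s θ (x α2) (x α1) (x α12) (W α2) (W α1) (W α12) (W α112) := by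
  have si : s⁻¹ = s := inv_eq_of_mul_eq_one_left ss
  have b : B α2 α2 = 4 ∧ B α1 α1 = 2 ∧ B α2 α1 = -2 ∧ B α12 α12 = 2 ∧ B α112 α112 = 4 ∧ α2 + α1 = α12 ∧
      α2 + α1 + α1 = α112 ∧ dual α2 = α1 ∧ dual α1 = α2 ∧ 0 ≤ B α2 α12 ∧ 0 ≤ B α2 α112 ∧ 0 ≤ B α1 α12 ∧
      0 ≤ B α1 α112 ∧ 0 ≤ B α12 α112 ∧ α12 ≠ α112 ∧ α2 ≠ -α1 := by decide +kernel
  obtain ⟨b1, b2, b3, b4, b5, b6, b7, b8, b9, b10, b11, b12, b13, b14, b15, b16⟩ := b
  have hI2 := h.isW α2 α2_mem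
  have hI12 := h.isW α12 α12_mem
  have hI112 := h.isW α112 α112_mem
  have h2 : ∀ u, s * x α2 u * s⁻¹ = x α1 (θ u) := by
    intro u
    have := (hθ α2 α2_mem u).1 b1
    rwa [b8] at this
  have h1 : ∀ u, s * x α1 u * s⁻¹ = x α2 (θ u * θ u) := by
    intro u
    have := (hθ α1 α1_mem u).2 b2
    rwa [b9] at this
  have comm3 : ∀ w ∈ W α12 ⊔ W α112, ∀ r ∈ rts, 0 ≤ B r α12 → 0 ≤ B r α112 → ∀ v ∈ W r, v * w = w * v := by
    intro w hw r hr hr1 hr2 v hv
    have hle : W α12 ⊔ W α112 ≤ centralizer ({v} : Set G) := sup_le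
      (fun z hz => mem_centralizer_singleton_iff.2 (h.WW hr α12_mem hr1 hv hz).symm)
      (fun z hz => mem_centralizer_singleton_iff.2 (h.WW hr α112_mem hr2 hv hz).symm)
    exact (mem_centralizer_singleton_iff.1 (hle hw)).symm
  have two : ∀ a, θ (θ a) * θ (θ a) = a := by
    intro a
    have e1 : s * (s * x α2 a * s⁻¹) * s⁻¹ = x α2 a := by
      calc s * (s * x α2 a * s⁻¹) * s⁻¹ = (s * s) * x α2 a * (s⁻¹ * s⁻¹) := by group
        _ = x α2 a := by rw [si, ss, one_mul, mul_one]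
    rw [h2, h1] at e1
    exact C.xinj α2_mem e1
  refine
    { tt := h.tt
      ss := ss
      st := hst
      add1 := C.add α2 α2_mem
      mem1 := fun a => hI2.XW (C.mem α2 α2_mem a)
      ab1 := fun a ha b hb => hI2.ab ha hb
      ht1 := ?_
      fix1 := ?_
      tx1 := ?_
      add2 := C.add α1 α1_mem
      sW := ?_
      sx := fun a => by rw [← h2, si]
      add3 := C.add α12 α12_mem
      inj3 := ?_
      mem3 := fun a => hI12.XW (C.mem α12 α12_mem a)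
      rel := ?_
      brm := ?_
      c13 := fun w hw y hy => comm3 y hy α2 α2_mem b10 b11 w hw
      c23 := fun w hw y hy => comm3 y hy α1 α1_mem b12 b13 w hw
      c33 := ?_
      tN := fun y hy => hI112.conj_mem hy
      two := two
      tor := ?_ }
  · intro w hw
    obtain ⟨a, ha⟩ := C.surj α2 α2_mem _ (hI2.brk w hw)
    exact ⟨a, by rw [← ha, mul_inv_cancel_left]⟩
  · intro w hw hwt
    obtain ⟨a, ha⟩ := C.surj α2 α2_mem w (hI2.cent w hw (by
      calc t * w = t * w * (t * t) := by rw [h.tt, mul_one]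
        _ = (t * w * t) * t := by group
        _ = w * t := by rw [hwt]))
    exact ⟨a, ha⟩
  · intro a
    rw [hI2.tX _ (C.mem α2 α2_mem a), mul_assoc, h.tt, mul_one]
  · intro w hw
    have := grf_W h C hst hθ α2_mem hw
    rwa [b8, si] at this
  · intro a ha
    have e1 := C.mem α12 α12_mem a
    have e2 := hI112.cent _ ha (hI12.tX _ e1)
    exact C.inj α12 α12_mem a (hK.ind α12 α12_mem α112 α112_mem b15 _ e1 e2)
  · intro a b
    obtain ⟨w, hw, he⟩ := C.r2 a b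
    unfold Out.Graph.br
    rw [he, inv_mul_cancel_left]
    exact hI112.XW hw
  · intro w hw v hv
    have := h.cWW α2_mem α1_mem (by omega) b16 hw hv
    rwa [N_ls W b1 b2, b6, ← b6, b7, b6] at this
  · intro w hw y hy
    have hle : W α12 ⊔ W α112 ≤ centralizer ({y} : Set G) := sup_le
      (fun z hz => mem_centralizer_singleton_iff.2 (comm3 y hy α12 α12_mem (by omega) b14 z hz))
      (fun z hz => mem_centralizer_singleton_iff.2 (comm3 y hy α112 α112_mem (by rw [h.roots.symm]; exact b14)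
        (by omega) z hz))
    exact mem_centralizer_singleton_iff.1 (hle hw)
  · intro c hc
    obtain ⟨g, hg, hgs, hgx⟩ := sq_eq θ two C hθ hst (Units.mk0 c hc)
    exact ⟨g, (C.Ht g hg).symm, hgs, fun w hw => H_W h C hg α2_mem hw, fun w hw => H_W h C hg α112_mem hw, hgx⟩

theorem dual_L1 : ∀ m ∈ List.range 12, dual (en L1 (2 * m)) = en L1 (2 * m + 1) ∧
    dual (en L1 (2 * m + 1)) = en L1 (2 * m) := by decide +kernel

/-- an involution of graph type interchanges the pairs of `L1` -/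
theorem swap (h : CC.Hyp t B Phi X W) (C : Crd t x X W H) {s : G} (ss : s * s = 1) (hst : s * t = t * s)
    {θ : F →+* F} (hθ : Grf x s θ) : Swap s (fun i => W (en L1 i)) 12 := by
  have si : s⁻¹ = s := inv_eq_of_mul_eq_one_left ss
  have E := enm ok1
  refine ⟨ss, fun m hm w hw => ?_, fun m hm w hw => ?_⟩
  · have h1 := grf_W h C hst hθ (E.mem (2 * m) (by omega)) hw
    rwa [(dual_L1 m (List.mem_range.2 hm)).1, si] at h1
  · have h1 := grf_W h C hst hθ (E.mem (2 * m + 1) (by omega)) hw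
    rwa [(dual_L1 m (List.mem_range.2 hm)).2, si] at h1

theorem W2_eq {l : List (Fin 4 → ℤ)} (V : (Fin 4 → ℤ) → Subgroup G) (h0 : en l 0 = ρ) (h1 : en l 1 = σ) :
    Growth.W (fun i => V (en l i)) 2 = V ρ ⊔ V σ := by
  rw [Growth.W_succ, Growth.W_succ, Growth.W_zero, bot_sup_eq, h0, h1]

/-- `Z = X ρ X σ` -/
theorem card_Z (hK : KF t X) (C : Crd t x X W H) : Nat.card (X ρ ⊔ X σ : Subgroup G) ≤ Nat.card F ^ 2 := by
  have e : (0 : ℤ) ≤ B ρ σ := by decide +kernel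
  have hc := hK.X0 ρ Lead.ρ_mem σ Lead.σ_mem e
  have h1 : Nat.card (X ρ ⊔ X σ : Subgroup G) ≤ Nat.card (X ρ × X σ) := by
    refine Nat.card_le_card_of_surjective (fun z : X ρ × X σ =>
      (⟨z.1 * z.2, mul_mem (mem_sup_left z.1.2) (mem_sup_right z.2.2)⟩ : (X ρ ⊔ X σ : Subgroup G))) ?_
    rintro ⟨z, hz⟩
    obtain ⟨a, ha, b, hb, rfl⟩ := (mem_sup_of_comm hc).1 hz
    exact ⟨⟨⟨a, ha⟩, ⟨b, hb⟩⟩, rfl⟩
  rw [Nat.card_prod, C.card_X Lead.ρ_mem, C.card_X Lead.σ_mem, ← pow_two] at h1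
  exact h1

/-- (k1) -/
theorem k1 (hK : KF t X) (hD : Dir X) (C : Crd t x X W H) (hT : TG t T D (Ab X 0) x) {s : G} (hs : s ∈ D)
    (hs1 : s ≠ 1) (hst : s ≠ t) {c : G} (hc : c ∈ T)
    (hcc : ∀ a ∈ T, ∀ b ∈ T, c * (a * b * a⁻¹ * b⁻¹) = a * b * a⁻¹ * b⁻¹ * c) :
    c ∈ X ρ ⊔ X σ ∨ t * c ∈ X ρ ⊔ X σ := by
  refine Lead.k1 hK hD hT.UT hT.Tc (fun c hc h => hout hK C hT hc h) (hT.DT hs) ?_ hc hcc
  rcases hT.act s hs with ⟨φ, hφ⟩ | ⟨θ, hθ⟩
  · -- field type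
    have hne : ∃ u, φ u ≠ u := by
      by_contra hcon
      push Not at hcon
      rcases C.eq_of_fix (hT.Tc s (hT.DT hs)) (fun a ha u => by rw [hφ a ha, hcon u]) with h1 | h1
      · exact hs1 h1
      · exact hst h1
    obtain ⟨u, hu⟩ := hne
    left
    refine ⟨⟨x α3 u, C.mem _ Lead.α3_mem u, ?_, ?_⟩, x α0 u, C.mem _ Lead.α0_mem u, ?_, ?_⟩
    · rw [hφ _ Lead.α3_mem]; exact C.mem _ Lead.α3_mem _
    · rw [hφ _ Lead.α3_mem]; exact fun h => hu (C.xinj Lead.α3_mem h)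
    · rw [hφ _ Lead.α0_mem]; exact C.mem _ Lead.α0_mem _
    · rw [hφ _ Lead.α0_mem]; exact fun h => hu (C.xinj Lead.α0_mem h)
  · right
    have e : B α3 α3 = 4 ∧ dual α3 = α0 := by decide +kernel
    refine ⟨x α3 1, C.mem _ Lead.α3_mem 1, fun h => one_ne_zero (C.inj _ Lead.α3_mem 1 h), ?_⟩
    rw [(hθ _ Lead.α3_mem 1).1 e.1, e.2]
    exact C.mem _ Lead.α0_mem _

/-- **Graph type.** -/
theorem excl_grf (hK : KF t X) (h : CC.Hyp t B Phi X W) (hD : Dir X) (C : Crd t x X W H)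
    (hT : TG t T D (Ab X 0) x) {s : G} (hs : s ∈ D) (ss : s * s = 1) (hs1 : s ≠ 1) (hs2 : s ≠ t) {θ : F →+* F}
    (hθ : Grf x s θ) : ∃ v, (v = s ∨ v = t * s) ∧ NoConj (fr h hD C hT) v := by
  have hst := hT.Tc s (hT.DT hs)
  have Dg := dbl h hD (fun a ha => C.card_X ha) ok1
  have hW2 : Growth.W (fun i => W (en L1 i)) 2 = W ρ ⊔ W σ := W2_eq W (by decide +kernel) (by decide +kernel)
  have e22 : en L1 22 = α2 := by decide +kernel
  have e23 : en L1 23 = α1 := by decide +kernel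
  have e21 : en L1 21 = α12 := by decide +kernel
  have e20 : en L1 20 = α112 := by decide +kernel
  have P := gp hK h C ss hst hθ
  rw [← e22, ← e23, ← e21, ← e20] at P
  set q := Nat.card F with hq
  have hq2 : 2 ≤ q := by
    have : Nontrivial F := inferInstance
    exact Finite.one_lt_card
  have cW : ∀ a ∈ rts, Nat.card (W a) = q ^ 2 := fun a ha => by
    rw [card_W_eq h.tt (h.isW a ha), C.card_X ha]
  refine OutGraph.excl_graph (m := 10) (fr h hD C hT) Dg (W_eq ok1 W).symm (W_eq ok1 X).symm (swap h C ss hst hθ)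
    (hT.DT hs) (fun h1 => hs1 (hT.DU s hs h1)) (fun h1 => hs2 ?_) P (X ρ ⊔ X σ) ?_ ?_ (fun z hz => k0' h hz) ?_
    (fun c hc hcc => k1 hK hD C hT hs hs1 hs2 hc hcc) ?_ (Q := q ^ 2) ?_ ?_
  · have h2 := hT.DU _ (mul_mem hT.tD hs) h1
    calc s = t * (t * s) := by rw [← mul_assoc, h.tt, one_mul]
      _ = t := by rw [h2, mul_one]
  · rw [hW2]
    exact fun z hz w hw => central h hz hw
  · rw [hW2]
    exact fun z hz g => k0 hK h hD C hT (fun w hw => central h hz hw) g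
  · rw [cW _ ((enm ok1).mem 0 (by norm_num))]
    exact card_Z hK C
  · intro c hc hcz
    exact hout hK C hT hc fun y hy => hcz y (mem_sup_left hy)
  · intro i hi
    exact (cW _ ((enm ok1).mem i hi)).le
  · rw [card_U h hD (fun a ha => C.card_X ha), ← pow_mul]
    exact Nat.pow_lt_pow_right (by omega) (by norm_num)

/-! ### Field type -/

theorem lay (h : CC.Hyp t B Phi X W) (C : Crd t x X W H) {s : G} (hst : s * t = t * s) {φ : F →+* F}
    (hφ : Fld x s φ) {a : Fin 4 → ℤ} (ha : a ∈ rts) : Out.ZeroDiv.Lay t s φ (x a) (W a) where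
  add := C.add a ha
  inj := C.inj a ha
  mem := fun u => (h.isW a ha).XW (C.mem a ha u)
  sq := (h.isW a ha).sq
  conj_t := fun w hw => (h.isW a ha).conj_mem hw
  cent := fun w hw hwt => C.surj a ha w ((h.isW a ha).cent w hw hwt)
  tx := fun u => (h.isW a ha).tX _ (C.mem a ha u)
  brk := fun w hw => C.surj a ha _ ((h.isW a ha).brk w hw)
  surj := fun u => (h.isW a ha).surj _ (C.mem a ha u)
  sx := hφ a ha
  sW := fun w hw => fld_W h C hst hφ ha hw

theorem comm_L3 : ∀ i ∈ List.range 23, 0 ≤ B (en L3 i) ρ' := by decide +kernel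

/-- **Field type.** -/
theorem excl_fld (hK : KF t X) (h : CC.Hyp t B Phi X W) (hD : Dir X) (C : Crd t x X W H)
    (hT : TG t T D (Ab X 0) x) {s : G} (hs : s ∈ D) (ss : s * s = 1) (hs1 : s ≠ 1) (hs2 : s ≠ t) {φ : F →+* F}
    (hφ : Fld x s φ) : ∃ v, (v = s ∨ v = t * s) ∧ NoConj (fr h hD C hT) v := by
  have hst := hT.Tc s (hT.DT hs)
  have si : s⁻¹ = s := inv_eq_of_mul_eq_one_left ss
  have Dg := dbl h hD (fun a ha => C.card_X ha) ok3
  have E := enm ok3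
  have e0 : en L3 0 = ρ := by decide +kernel
  have e3 : en L3 3 = ρ' := by decide +kernel
  have e23 : en L3 23 = α3 := by decide +kernel
  have hW2 : Growth.W (fun i => W (en L3 i)) 2 = W ρ ⊔ W σ := W2_eq W e0 (by decide +kernel)
  set q := Nat.card F with hq
  have cW : ∀ a ∈ rts, Nat.card (W a) = q ^ 2 := fun a ha => by
    rw [card_W_eq h.tt (h.isW a ha), C.card_X ha]
  -- the automorphism
  have hφφ : ∀ a, φ (φ a) = a := by
    intro a
    have e1 : s * (s * x ρ a * s⁻¹) * s⁻¹ = x ρ a := by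
      calc s * (s * x ρ a * s⁻¹) * s⁻¹ = (s * s) * x ρ a * (s⁻¹ * s⁻¹) := by group
        _ = x ρ a := by rw [si, ss, one_mul, mul_one]
    rw [hφ ρ Lead.ρ_mem, hφ ρ Lead.ρ_mem] at e1
    exact C.xinj Lead.ρ_mem e1
  have hne : ∃ u, φ u ≠ u := by
    by_contra hcon
    push Not at hcon
    rcases C.eq_of_fix hst (fun a ha u => by rw [hφ a ha, hcon u]) with h1 | h1
    · exact hs1 h1
    · exact hs2 h1
  obtain ⟨w0, hw0⟩ := Out.ZeroDiv.exists_w0 φ hφφ hne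
  have b : B ρ' ρ' = B α3 α3 ∧ B ρ' α3 < 0 ∧ ρ' ≠ -α3 ∧ ρ' + α3 = ρ ∧ 0 ≤ B ρ' ρ ∧ 0 ≤ B α3 ρ := by decide +kernel
  obtain ⟨b1, b2, b3, b4, b5, b6⟩ := b
  have P : Out.ZeroDiv.Pair t s φ (x ρ') (x α3) (x ρ) (W ρ') (W α3) (W ρ) :=
    { tt := h.tt
      ss := ss
      st := hst
      l1 := lay h C hst hφ Lead.ρ'_mem
      l2 := lay h C hst hφ Lead.α3_mem
      l3 := lay h C hst hφ Lead.ρ_mem
      comm := by
        intro a ha c hc
        have := h.cWW Lead.ρ'_mem Lead.α3_mem b2 b3 ha hc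
        rwa [N_same W b1, b4] at this
      c13 := fun a ha c hc => h.WW Lead.ρ'_mem Lead.ρ_mem b5 ha hc
      c23 := fun a ha c hc => h.WW Lead.α3_mem Lead.ρ_mem b6 ha hc
      rel := C.r1
      torus := by
        intro l hl
        set L : Fˣ := Units.mk0 l hl with hL
        have hLv : (L : F) = l := rfl
        obtain ⟨g, hg, hgx⟩ := C.tor ![L, 1, L⁻¹, L]
        obtain ⟨g', hg', hgx'⟩ := C.tor ![L⁻¹, 1, L, 1]
        have c1 : ch ![L, 1, L⁻¹, L] ρ' = 1 := by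
          rw [ch_ρ']; simp; field_simp
        have c2 : ch ![L, 1, L⁻¹, L] α3 = l := by rw [ch_α3]; simp [hL]
        have c3 : ch ![L, 1, L⁻¹, L] ρ = l := by
          rw [ch_ρ]; simp [hL]; field_simp
        have c4 : ch ![L⁻¹, 1, L, 1] ρ' = l := by
          rw [ch_ρ']; simp [hL]; field_simp
        have c5 : ch ![L⁻¹, 1, L, 1] α3 = 1 := by rw [ch_α3]; simp
        have c6 : ch ![L⁻¹, 1, L, 1] ρ = l := by
          rw [ch_ρ]; simp [hL]; field_simp
        have fixW : ∀ g ∈ H, ∀ a ∈ rts, (∀ u, g * x a u * g⁻¹ = x a u) → ∀ w ∈ W a, g * w * g⁻¹ = w := by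
          intro g hg a ha hga w hw
          have h1 := C.HW g hg a ha (fun y hy => by
            obtain ⟨u, rfl⟩ := C.surj a ha y hy
            have h2 := hga u
            calc g * x a u = g * x a u * g⁻¹ * g := by group
              _ = x a u * g := by rw [h2]) w hw
          rw [h1, mul_inv_cancel_right]
        refine ⟨g, g', ?_, ?_, ?_, ?_, ?_⟩
        · exact fixW g hg ρ' Lead.ρ'_mem (fun u => by rw [hgx ρ' Lead.ρ'_mem, c1, one_mul])
        · intro a; rw [hgx α3 Lead.α3_mem, c2]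
        · exact fixW g' hg' α3 Lead.α3_mem (fun u => by rw [hgx' α3 Lead.α3_mem, c5, one_mul])
        · intro a; rw [hgx' ρ' Lead.ρ'_mem, c4]
        · intro w hw
          have h1 := fixW (g'⁻¹ * g) (mul_mem (inv_mem hg') hg) ρ Lead.ρ_mem (fun u => by
            calc g'⁻¹ * g * x ρ u * (g'⁻¹ * g)⁻¹ = g'⁻¹ * (g * x ρ u * g⁻¹) * g' := by group
              _ = g'⁻¹ * (g' * x ρ u * g'⁻¹) * g' := by rw [hgx ρ Lead.ρ_mem, hgx' ρ Lead.ρ_mem, c3, c6]
              _ = x ρ u := by group) w hw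
          calc g * w * g⁻¹ = g' * (g'⁻¹ * g * w * (g'⁻¹ * g)⁻¹) * g'⁻¹ := by group
            _ = g' * w * g'⁻¹ := by rw [h1] }
  rw [← e3, ← e23, ← e0] at P
  refine OutField.excl_field (n := 23) (j := 3) (fr h hD C hT) Dg (fun i hi => h.isW _ (E.mem i hi)) (by norm_num)
    (by norm_num) (W_eq ok3 W).symm (hT.DT hs) (fun h1 => hs1 (hT.DU s hs h1)) (fun h1 => hs2 ?_) hw0 P ?_ ?_ ?_
    (X ρ ⊔ X σ) ?_ ?_ (fun z hz => k0' h hz) ?_
    (fun c hc hcc => k1 hK hD C hT hs hs1 hs2 hc hcc) ?_ (q := q) ?_ ?_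
  · have h2 := hT.DU _ (mul_mem hT.tD hs) h1
    calc s = t * (t * s) := by rw [← mul_assoc, h.tt, one_mul]
      _ = t := by rw [h2, mul_one]
  · intro i hi w hw
    have := fld_W h C hst hφ (E.mem i hi) hw
    rwa [si] at this
  · intro i hi y hy hys
    have ha := E.mem i hi
    obtain ⟨u, rfl⟩ := C.surj _ ha y hy
    have h1 : φ u = u := by
      have h2 := hφ _ ha u
      rw [si, hys] at h2
      exact (C.xinj ha h2).symm
    refine ⟨x (en L3 i) (w0 * u), C.mem _ ha _, ?_⟩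
    have h2 := hφ _ ha (w0 * u)
    rw [si] at h2
    rw [h2, map_mul, h1]
    have h3 : (x (en L3 i) (w0 * u))⁻¹ = x (en L3 i) (w0 * u) :=
      inv_eq_of_mul_eq_one_left (by rw [← C.add _ ha, CharTwo.add_self_eq_zero, C.zero ha])
    rw [h3, ← C.add _ ha, ← add_mul, add_comm, hw0, one_mul]
  · intro i hi w hw z hz
    rw [e3] at hz
    exact h.WW (E.mem i (by omega)) Lead.ρ'_mem (comm_L3 i (List.mem_range.2 hi)) hw hz
  · rw [hW2]
    exact fun z hz w hw => central h hz hw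
  · rw [hW2]
    exact fun z hz g => k0 hK h hD C hT (fun w hw => central h hz hw) g
  · have h1 : Nat.card (Growth.W (fun i => W (en L3 i)) 2) = (q ^ 2) ^ 2 :=
      card_W (E.cmW h) (fun k hk => Out.Grow.disj Dg hk) (fun i hi => cW _ (E.mem i hi)) (by norm_num)
    rw [h1]
    exact Nat.pow_le_pow_left (card_Z hK C) 2
  · intro c hc hcz
    exact hout hK C hT hc fun y hy => hcz y (mem_sup_left hy)
  · exact (cW _ (E.mem 23 (by norm_num))).le
  · intro u hu hn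
    exact Lead.many hK hD (fun a ha => (C.card_X ha).ge) hu hn

/-- **The pattern (C, C) with any outer 2-part.** -/
theorem main (hK : KF t X) (h : CC.Hyp t B Phi X W) (hD : Dir X) (C : Crd t x X W H)
    (hT : TG t T D (Ab X 0) x) (htU : t ∉ Ab X 0) : t ∉ _root_.commutator G := by
  have hcard : ∀ a ∈ rts, Nat.card (X a) = Nat.card F := fun a ha => C.card_X ha
  refine end_of (fr h hD C hT) (fun h1 => htU ((mem_U_iff h hD hcard).2 ⟨h1, rfl⟩))
    (fun w hw hww => conj_t h hD hcard hw hww) (alt_of (fr h hD C hT) D hT.DT hT.fac hT.DU hT.tD hT.one ?_)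
  intro s hs ss hs1 hs2
  rcases hT.act s hs with ⟨φ, hφ⟩ | ⟨θ, hθ⟩
  · exact excl_fld hK h hD C hT hs ss hs1 hs2 hφ
  · exact excl_grf hK h hD C hT hs ss hs1 hs2 hθ

end main

end Cfsg.Agent.OddHalf.D7F4.CCOut
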