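import Cfsg.Agent.OddHalf.D7F4.FrOut
import Cfsg.Agent.OddHalf.D7F4.CCOut

/-!
# `K = F₄(q)`, `q` even: the Sylow group `T` in the form of `CCOut.TG` (S1765, node D7)
-/

set_option autoImplicit false
set_option Elab.async false

namespace Cfsg.Agent.OddHalf.D7F4.FrTG

open Cfsg.Lie Cfsg.Agent.ChevalleyStructure Cfsg.Agent.ChevalleyStructure.Elts
  Cfsg.Agent.KFacts.ChevTwoInst Cfsg.Agent.KFacts.F4Pair
open Cfsg.Agent.OddHalf.D7F4 Cfsg.Agent.OddHalf.D7F4.Model Cfsg.Agent.OddHalf.D7F4.KFront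
  Cfsg.Agent.OddHalf.D7F4.Adapted Cfsg.Agent.OddHalf.D7F4.FrOut

universe u

variable {G : Type*} [Group G] [Finite G] {F : Type u} [Field F] [Finite F] [CharP F 2]
  {f : ↥(chevF4.group F) →* G} {t g : G} {T : Subgroup G}

/-- **The group `T = D U`.** -/
theorem tg (O : FrO t f T g) : CCOut.TG t T O.D (Lead.Ab (XG f) 0) (fun a u => f (eF F a u)) where
  T2 := O.T2
  tD := O.t_mem_D
  Tc := O.Tc
  Tmax := O.Tmax
  UT := by rw [← FrO.map_UK]; exact O.UT
  ab := by rw [← FrO.map_UK]; exact O.ab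
  DT := O.D_le
  fac := by rw [← FrO.map_UK]; exact O.fac
  DU := by rw [← FrO.map_UK]; exact fun e he h => O.disj he h
  one := O.hone
  act := by
    intro y hy
    rcases O.acts_D hy with ⟨φ, hφ⟩ | ⟨φ, hφ⟩
    · exact Or.inl ⟨φ.toRingHom, fun a ha u => hφ a ha u⟩
    · refine Or.inr ⟨φ.toRingHom, fun a ha u => ⟨fun hB => hφ.1 a ha hB u, fun hB => ?_⟩⟩
      have h := hφ.2 a ha hB u
      rw [pow_two] at h
      exact h

end Cfsg.Agent.OddHalf.D7F4.FrTG
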