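import Cfsg.Agent.OddHalf.D7F4.Fusion
import Cfsg.Agent.OddHalf.D7Out.Front
import Cfsg.Agent.OddHalf.D7Out.TransGen

/-!
# Start of fusion for `F4(q)`, `q ≥ 4` even, with any outer part (ODD D7, texts #8532 (1), #10648, #11098; helper588)

`t` an involution, `K ≤ C(t)` contains all perfect subgroups of `C(t)`, `U` a Sylow 2-subgroup of `K`, `Z(U) ≥ X₁ X₂`
(`X₁` long, `X₂` short root group), `L ≥ U` a perfect subgroup of `C_K(X₁ X₂)`, `H ≤ C(t) ∩ N(U)` (a torus) transitive on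
`X₁#`, `X₂#` and on the mixed elements; `N_G(U)` permutes `X₁` and `X₂` (`Fusion.perm_of`). A Sylow 2-subgroup of
`C_G(t)` does not occur.

* `exists_norm` : if `t` is conjugate to `t a b`, then it is conjugate to `t a b` under `N(U)`;
* `exists_moved` : `X₁` or `X₂` is moved, if `t` is conjugate to some `t a b ≠ t`;
* `moved_or` : `Moved t X₁` or `t` is not conjugate to `t x`, `1 ≠ x ∈ X₁`; the same for `X₂` by `Ctx.symm`;
* `onto` : if `X₁` is moved, every `t x`, `x ∈ X₁`, is the image of `t` under an element of `N(X₁)`;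
* `moved_swap` : if `c ∈ C(t)` maps `X₁` to `X₂`, then `Moved t X₁ ↔ Moved t X₂`.
-/

set_option autoImplicit false

namespace Cfsg.Agent.OddHalf.D7F4.FusionOut

open Subgroup Cfsg.Agent.OddHalf.D7F4.Fusion
open scoped commutatorElement

variable {G : Type*} [Group G]

/-- The hypotheses. -/
structure Ctx (t : G) (K U X₁ X₂ H : Subgroup G) : Prop where
  tt : t * t = 1
  Kt : ∀ x ∈ K, x * t = t * x
  /-- perfect subgroups of `C(t)` lie in `K` -/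
  perf : ∀ L : Subgroup G, (∀ x ∈ L, x * t = t * x) → ⁅L, L⁆ = L → L ≤ K
  UK : U ≤ K
  pU : IsPGroup 2 U
  maxU : ∀ P : Subgroup G, IsPGroup 2 P → U ≤ P → P ≤ K → P ≤ U
  X₁U : X₁ ≤ U
  X₂U : X₂ ≤ U
  c₁ : ∀ x ∈ X₁, ∀ y ∈ U, x * y = y * x
  c₂ : ∀ x ∈ X₂, ∀ y ∈ U, x * y = y * x
  sq₁ : ∀ x ∈ X₁, x * x = 1
  sq₂ : ∀ x ∈ X₂, x * x = 1
  /-- a perfect subgroup of `C_K(X₁ X₂)` containing `U` -/
  cov : ∃ L : Subgroup G, ⁅L, L⁆ = L ∧ U ≤ L ∧ L ≤ K ∧ (∀ x ∈ X₁, ∀ y ∈ L, x * y = y * x) ∧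
    ∀ x ∈ X₂, ∀ y ∈ L, x * y = y * x
  Ht : ∀ h ∈ H, h * t = t * h
  HU : ∀ h ∈ H, Maps h U U
  H₁ : ∀ h ∈ H, Maps h X₁ X₁
  H₂ : ∀ h ∈ H, Maps h X₂ X₂
  Htr : ∀ a ∈ X₁, ∀ b ∈ X₂, ∀ a' ∈ X₁, ∀ b' ∈ X₂, a ≠ 1 → b ≠ 1 → a' ≠ 1 → b' ≠ 1 →
    ∃ h ∈ H, h⁻¹ * a * h = a' ∧ h⁻¹ * b * h = b'
  big₁ : ∀ a ∈ X₁, ∃ a' ∈ X₁, a' ≠ 1 ∧ a' ≠ a
  big₂ : ∀ a ∈ X₂, ∃ a' ∈ X₂, a' ≠ 1 ∧ a' ≠ a
  perm : ∀ n : G, Maps n U U → (Maps n X₁ X₁ ∧ Maps n X₂ X₂) ∨ (Maps n X₁ X₂ ∧ Maps n X₂ X₁)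

theorem card_le_of_max [Finite G] {K U R : Subgroup G} (pU : IsPGroup 2 U) (UK : U ≤ K)
    (maxU : ∀ P : Subgroup G, IsPGroup 2 P → U ≤ P → P ≤ K → P ≤ U) (hR : IsPGroup 2 R) (hRK : R ≤ K) :
    Nat.card R ≤ Nat.card U := by
  have : Fact (Nat.Prime 2) := ⟨Nat.prime_two⟩
  let S : Sylow 2 K := ⟨U.subgroupOf K, pU.comap_of_injective K.subtype K.subtype_injective, by
    intro P hP hle
    apply le_antisymm _ hle
    have h1 : P.map K.subtype ≤ U := by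
      apply maxU _ (hP.map K.subtype)
      · intro y hy
        exact ⟨⟨y, UK hy⟩, hle (by exact hy), rfl⟩
      · rintro _ ⟨y, -, rfl⟩
        exact y.2
    intro y hy
    exact h1 ⟨y, hy, rfl⟩⟩
  obtain ⟨P, hP⟩ := (hR.comap_of_injective K.subtype K.subtype_injective).exists_le_sylow
  have h1 : Nat.card (R.subgroupOf K) = Nat.card R := Nat.card_congr (subgroupOfEquivOfLe hRK).toEquiv
  have h2 : Nat.card (U.subgroupOf K) = Nat.card U := Nat.card_congr (subgroupOfEquivOfLe UK).toEquiv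
  have h3 : Nat.card P = Nat.card S := by
    rw [P.card_eq_multiplicity, S.card_eq_multiplicity]
  have h4 : Nat.card (R.comap K.subtype) ≤ Nat.card P := Subgroup.card_le_of_le hP
  calc Nat.card R = Nat.card (R.comap K.subtype) := h1.symm
    _ ≤ Nat.card P := h4
    _ = Nat.card S := h3
    _ = Nat.card U := h2

theorem mem_map_conj {U : Subgroup G} {g y : G} :
    y ∈ U.map (MulAut.conj g).toMonoidHom ↔ g⁻¹ * y * g ∈ U := by
  rw [mem_map]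
  constructor
  · rintro ⟨w, hw, rfl⟩
    have e : g⁻¹ * ((MulAut.conj g).toMonoidHom w) * g = w := by
      show g⁻¹ * (g * w * g⁻¹) * g = w
      group
    rwa [e]
  · intro h
    refine ⟨_, h, ?_⟩
    show g * (g⁻¹ * y * g) * g⁻¹ = y
    group

namespace Ctx

variable {t : G} {K U X₁ X₂ H : Subgroup G}

theorem comm12 (C : Ctx t K U X₁ X₂ H) {a b : G} (ha : a ∈ X₁) (hb : b ∈ X₂) : a * b = b * a :=
  C.c₁ a ha b (C.X₂U hb)

theorem symm (C : Ctx t K U X₁ X₂ H) : Ctx t K U X₂ X₁ H where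
  tt := C.tt
  Kt := C.Kt
  perf := C.perf
  UK := C.UK
  pU := C.pU
  maxU := C.maxU
  X₁U := C.X₂U
  X₂U := C.X₁U
  c₁ := C.c₂
  c₂ := C.c₁
  sq₁ := C.sq₂
  sq₂ := C.sq₁
  cov := by
    obtain ⟨L, h1, h2, h3, h4, h5⟩ := C.cov
    exact ⟨L, h1, h2, h3, h5, h4⟩
  Ht := C.Ht
  HU := C.HU
  H₁ := C.H₂
  H₂ := C.H₁
  Htr := by
    intro a ha b hb a' ha' b' hb' h1 h2 h3 h4
    obtain ⟨h, hh, e1, e2⟩ := C.Htr b hb a ha b' hb' a' ha' h2 h1 h4 h3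
    exact ⟨h, hh, e2, e1⟩
  big₁ := C.big₂
  big₂ := C.big₁
  perm := by
    intro n hn
    rcases C.perm n hn with ⟨h1, h2⟩ | ⟨h1, h2⟩
    · exact Or.inl ⟨h2, h1⟩
    · exact Or.inr ⟨h2, h1⟩

/-- transitivity on `X₁#` -/
theorem tr1 (C : Ctx t K U X₁ X₂ H) {a a' : G} (ha : a ∈ X₁) (ha' : a' ∈ X₁) (h : a ≠ 1) (h' : a' ≠ 1) :
    ∃ h ∈ H, h⁻¹ * a * h = a' := by
  obtain ⟨b, hb, hb1, -⟩ := C.big₂ 1 (one_mem _)
  obtain ⟨k, hk, e, -⟩ := C.Htr a ha b hb a' ha' b hb h hb1 h' hb1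
  exact ⟨k, hk, e⟩

theorem t_inv (C : Ctx t K U X₁ X₂ H) : t⁻¹ = t := inv_eq_of_mul_eq_one_left C.tt

/-- `h⁻¹ t h = t` -/
theorem conj_H (C : Ctx t K U X₁ X₂ H) {h : G} (hh : h ∈ H) : h⁻¹ * t * h = t := by
  rw [mul_assoc, ← C.Ht h hh, inv_mul_cancel_left]

/-- **Norm lemma.** A conjugate `t a b` of `t` is a conjugate under `N(U)`. -/
theorem exists_norm [Finite G] (C : Ctx t K U X₁ X₂ H) {g a b : G} (ha : a ∈ X₁) (hb : b ∈ X₂)
    (hg : g⁻¹ * t * g = t * (a * b)) : ∃ n, Maps n U U ∧ n⁻¹ * t * n = t * (a * b) := by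
  obtain ⟨L, hL, hUL, hLK, hL1, hL2⟩ := C.cov
  have hLt : ∀ x ∈ L, x * t = t * x := fun x hx => C.Kt x (hLK hx)
  -- `g L g⁻¹ ≤ K`
  have hgL : L.map (MulAut.conj g).toMonoidHom ≤ K := by
    apply C.perf
    · intro x hx
      rw [mem_map_conj] at hx
      have k1 : Commute (g⁻¹ * x * g) t := hLt _ hx
      have k2 : Commute (g⁻¹ * x * g) a := (hL1 a ha _ hx).symm
      have k3 : Commute (g⁻¹ * x * g) b := (hL2 b hb _ hx).symm
      have h1 : Commute (g⁻¹ * x * g) (t * (a * b)) := k1.mul_right (k2.mul_right k3)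
      have h2 : (g⁻¹ * x * g) * (g⁻¹ * t * g) = (g⁻¹ * t * g) * (g⁻¹ * x * g) := by rw [hg]; exact h1
      calc x * t = g * ((g⁻¹ * x * g) * (g⁻¹ * t * g)) * g⁻¹ := by group
        _ = g * ((g⁻¹ * t * g) * (g⁻¹ * x * g)) * g⁻¹ := by rw [h2]
        _ = t * x := by group
    · rw [← map_commutator, hL]
  set V : Subgroup G := U.map (MulAut.conj g).toMonoidHom with hV
  have hVK : V ≤ K := (map_mono hUL).trans hgL
  have pV : IsPGroup 2 V := C.pU.map _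
  have hcard : Nat.card V = Nat.card U :=
    (Nat.card_congr (U.equivMapOfInjective _ (MulAut.conj g).injective).toEquiv).symm
  have maxV : ∀ P : Subgroup G, IsPGroup 2 P → V ≤ P → P ≤ K → P ≤ V := by
    intro P hP hle hPK
    have h1 := card_le_of_max C.pU C.UK C.maxU hP hPK
    rw [← hcard] at h1
    exact (Subgroup.eq_of_le_of_card_ge hle h1).ge
  obtain ⟨k, hk, hkV⟩ := D7Out.Front.exists_conj_of_max pV hVK maxV C.pU C.UK C.maxU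
  refine ⟨k * g, ?_, ?_⟩
  · intro x
    rw [hkV x, hV, mem_map_conj]
    have e : (k * g)⁻¹ * x * (k * g) = g⁻¹ * (k⁻¹ * x * k) * g := by group
    rw [e]
  · have h1 : k⁻¹ * t * k = t := by rw [mul_assoc, ← C.Kt k hk, inv_mul_cancel_left]
    calc (k * g)⁻¹ * t * (k * g) = g⁻¹ * (k⁻¹ * t * k) * g := by group
      _ = t * (a * b) := by rw [h1, hg]

/-- A swapping `n` with `t ^ n ∈ t X₁#` gives a non-swapping one. -/
theorem exists_stay (C : Ctx t K U X₁ X₂ H) {n x : G} (hn₁ : Maps n X₁ X₂) (hn₂ : Maps n X₂ X₁) (hx : x ∈ X₁)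
    (hx1 : x ≠ 1) (hnx : n⁻¹ * t * n = t * x) : ∃ m, Maps m X₁ X₁ ∧ Maps m X₂ X₂ ∧ m⁻¹ * t * m = t * x := by
  -- `n_z` for `z ∈ X₁#`
  have nz : ∀ z ∈ X₁, z ≠ 1 → ∃ k, Maps k X₁ X₂ ∧ Maps k X₂ X₁ ∧ k⁻¹ * t * k = t * z := by
    intro z hz hz1
    obtain ⟨h, hh, e⟩ := C.tr1 hx hz hx1 hz1
    refine ⟨n * h, hn₁.mul (C.H₂ h hh), hn₂.mul (C.H₁ h hh), ?_⟩
    calc (n * h)⁻¹ * t * (n * h) = h⁻¹ * (n⁻¹ * t * n) * h := by group
      _ = (h⁻¹ * t * h) * (h⁻¹ * x * h) := by rw [hnx]; group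
      _ = t * z := by rw [C.conj_H hh, e]
  have conj : ∀ {p k u v : G}, p⁻¹ * t * p = t * u → k⁻¹ * t * k = t * v →
      (k * p)⁻¹ * t * (k * p) = t * (u * (p⁻¹ * v * p)) := by
    intro p k u v h1 h2
    calc (k * p)⁻¹ * t * (k * p) = p⁻¹ * (k⁻¹ * t * k) * p := by group
      _ = (p⁻¹ * t * p) * (p⁻¹ * v * p) := by rw [h2]; group
      _ = t * (u * (p⁻¹ * v * p)) := by rw [h1, mul_assoc]
  have ne1 : ∀ {p v : G}, v ≠ 1 → p⁻¹ * v * p ≠ 1 := by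
    intro p v hv h
    apply hv
    calc v = p * (p⁻¹ * v * p) * p⁻¹ := by group
      _ = 1 := by rw [h]; group
  -- `p` : non-swapping with `t ^ p = t x y`
  set y := n⁻¹ * x * n with hy
  have hyX : y ∈ X₂ := (hn₁ x).1 hx
  have hp := conj hnx hnx
  rw [← hy] at hp
  set p := n * n with hpd
  have hp₁ : Maps p X₁ X₁ := hn₁.mul hn₂
  have hp₂ : Maps p X₂ X₂ := hn₂.mul hn₁
  -- `a' ≠ x`
  obtain ⟨a', ha', ha'1, ha'x⟩ := C.big₁ x hx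
  have hz0 : p * a' * p⁻¹ ∈ X₁ := by
    have := (hp₁.inv a').1 ha'
    rwa [inv_inv] at this
  have hz01 : p * a' * p⁻¹ ≠ 1 := by
    have := ne1 (p := p⁻¹) ha'1
    rwa [inv_inv] at this
  obtain ⟨k, hk₁, hk₂, hkt⟩ := nz _ hz0 hz01
  have hs := conj hp hkt
  have e1 : p⁻¹ * (p * a' * p⁻¹) * p = a' := by group
  rw [e1] at hs
  have e2 : x * y * a' = (x * a') * y := by
    have e3 : y * a' = a' * y := (C.comm12 ha' hyX).symm
    calc x * y * a' = x * (y * a') := by group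
      _ = x * (a' * y) := by rw [e3]
      _ = (x * a') * y := by group
  rw [e2] at hs
  -- torus
  have hxa : x * a' ≠ 1 := by
    intro h
    apply ha'x
    have h1 : x⁻¹ = a' := inv_eq_of_mul_eq_one_right h
    rw [← h1]
    exact inv_eq_of_mul_eq_one_left (C.sq₁ x hx)
  obtain ⟨h, hh, h1, h2⟩ := C.Htr (x * a') (mul_mem hx ha') y hyX x hx y hyX hxa (ne1 hx1) hx1 (ne1 hx1)
  have hsh : (k * p * h)⁻¹ * t * (k * p * h) = t * (x * y) := by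
    calc (k * p * h)⁻¹ * t * (k * p * h) = h⁻¹ * ((k * p)⁻¹ * t * (k * p)) * h := by group
      _ = (h⁻¹ * t * h) * ((h⁻¹ * (x * a') * h) * (h⁻¹ * y * h)) := by rw [hs]; group
      _ = t * (x * y) := by rw [C.conj_H hh, h1, h2]
  -- `c₀ = k p h p⁻¹` centralises `t` and swaps
  set c := k * p * h * p⁻¹ with hc
  have hct : c⁻¹ * t * c = t := by
    calc c⁻¹ * t * c = p * ((k * p * h)⁻¹ * t * (k * p * h)) * p⁻¹ := by rw [hc]; group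
      _ = p * (t * (x * y)) * p⁻¹ := by rw [hsh]
      _ = p * (p⁻¹ * t * p) * p⁻¹ := by rw [hp]
      _ = t := by group
  have hc₁ : Maps c X₁ X₂ := ((hk₁.mul hp₂).mul (C.H₂ h hh)).mul hp₂.inv
  have hc₂ : Maps c X₂ X₁ := ((hk₂.mul hp₁).mul (C.H₁ h hh)).mul hp₁.inv
  refine ⟨c * n, hc₁.mul hn₂, hc₂.mul hn₁, ?_⟩
  calc (c * n)⁻¹ * t * (c * n) = n⁻¹ * (c⁻¹ * t * c) * n := by group
    _ = t * x := by rw [hct, hnx]

/-- `n ∈ N(U)` with `t ^ n ∈ t X₁#` : some element of `N(X₁)` does it. -/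
theorem exists_of_norm (C : Ctx t K U X₁ X₂ H) {n x : G} (hn : Maps n U U) (hx : x ∈ X₁) (hx1 : x ≠ 1)
    (hnx : n⁻¹ * t * n = t * x) : ∃ m, Maps m X₁ X₁ ∧ Maps m X₂ X₂ ∧ m⁻¹ * t * m = t * x := by
  rcases C.perm n hn with ⟨h1, h2⟩ | ⟨h1, h2⟩
  · exact ⟨n, h1, h2, hnx⟩
  · exact C.exists_stay h1 h2 hx hx1 hnx

theorem _root_.Cfsg.Agent.OddHalf.D7F4.FusionOut.moved_of {t m x : G} {X : Subgroup G} (tt : t * t = 1)
    (hm : Maps m X X) (hx : x ∈ X) (hx1 : x ≠ 1) (hmt : m⁻¹ * t * m = t * x) : Moved t X := by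
  refine ⟨m⁻¹, fun y hy => ?_, fun y hy => ?_, ?_, ?_⟩
  · have := (hm y).1 hy
    rwa [inv_inv]
  · exact (hm.inv y).1 hy
  · rw [inv_inv, hmt, ← mul_assoc, tt, one_mul]; exact hx
  · rw [inv_inv, hmt]
    intro h
    exact hx1 (mul_eq_left.1 h)

/-- `n ∈ N(U)` with `t ^ n ∈ t X₁#` : `X₁` is moved. -/
theorem moved_of_norm (C : Ctx t K U X₁ X₂ H) {n x : G} (hn : Maps n U U) (hx : x ∈ X₁) (hx1 : x ≠ 1)
    (hnx : n⁻¹ * t * n = t * x) : Moved t X₁ := by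
  obtain ⟨m, hm, -, hmt⟩ := C.exists_of_norm hn hx hx1 hnx
  exact moved_of C.tt hm hx hx1 hmt

/-- **Moved or not moved.** -/
theorem moved_or [Finite G] (C : Ctx t K U X₁ X₂ H) :
    Moved t X₁ ∨ ∀ g : G, ∀ x ∈ X₁, g⁻¹ * t * g = t * x → x = 1 := by
  by_contra hcon
  push Not at hcon
  obtain ⟨h1, g, x, hx, hg, hx1⟩ := hcon
  apply h1
  obtain ⟨n, hn, hnt⟩ := C.exists_norm (g := g) hx (one_mem X₂) (by rw [mul_one]; exact hg)
  rw [mul_one] at hnt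
  exact C.moved_of_norm hn hx hx1 hnt

/-- If `X₁` is moved, then `t` goes to every `t x`, `x ∈ X₁`, under `N(X₁)`. -/
theorem onto (C : Ctx t K U X₁ X₂ H) (hM : Moved t X₁) {x : G} (hx : x ∈ X₁) :
    ∃ m, Maps m X₁ X₁ ∧ m⁻¹ * t * m = t * x := by
  by_cases hx1 : x = 1
  · refine ⟨1, fun y => by rw [inv_one, one_mul, mul_one], ?_⟩
    rw [hx1]; group
  obtain ⟨n, h1, h2, h3, h4⟩ := hM
  have hy1 : t * (n * t * n⁻¹) ≠ 1 := by
    intro h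
    apply h4
    calc n * t * n⁻¹ = (t * t) * (n * t * n⁻¹) := by rw [C.tt, one_mul]
      _ = t * (t * (n * t * n⁻¹)) := by rw [mul_assoc]
      _ = t := by rw [h, mul_one]
  obtain ⟨h, hh, e⟩ := C.tr1 h3 hx hy1 hx1
  have hn : Maps n⁻¹ X₁ X₁ := by
    intro y
    rw [inv_inv]
    refine ⟨h1 y, fun hy => ?_⟩
    have := h2 _ hy
    have e : n⁻¹ * (n * y * n⁻¹) * n = y := by group
    rwa [e] at this
  refine ⟨n⁻¹ * h, hn.mul (C.H₁ h hh), ?_⟩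
  calc (n⁻¹ * h)⁻¹ * t * (n⁻¹ * h) = h⁻¹ * (n * t * n⁻¹) * h := by group
    _ = h⁻¹ * (t * t) * (n * t * n⁻¹) * h := by rw [C.tt, mul_one]
    _ = (h⁻¹ * t * h) * (h⁻¹ * (t * (n * t * n⁻¹)) * h) := by group
    _ = t * x := by rw [C.conj_H hh, e]

/-- **Start of fusion.** -/
theorem exists_moved [Finite G] (C : Ctx t K U X₁ X₂ H) {g a b : G} (ha : a ∈ X₁) (hb : b ∈ X₂) (hz1 : a * b ≠ 1)
    (hg : g⁻¹ * t * g = t * (a * b)) : Moved t X₁ ∨ Moved t X₂ := by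
  obtain ⟨n, hn, hnt⟩ := C.exists_norm ha hb hg
  by_cases ha1 : a = 1
  · right
    rw [ha1, one_mul] at hnt hz1
    exact C.symm.moved_of_norm hn hb hz1 hnt
  by_cases hb1 : b = 1
  · left
    rw [hb1, mul_one] at hnt hz1
    exact C.moved_of_norm hn ha hz1 hnt
  left
  -- mixed: `a₁ ≠ a`
  obtain ⟨a₁, ha₁, ha₁1, ha₁a⟩ := C.big₁ a ha
  have haa : a * a₁ ≠ 1 := by
    intro h
    apply ha₁a
    have h1 : a⁻¹ = a₁ := inv_eq_of_mul_eq_one_right h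
    rw [← h1]
    exact inv_eq_of_mul_eq_one_left (C.sq₁ a ha)
  have ne1 : ∀ {v : G}, v ≠ 1 → n * v * n⁻¹ ≠ 1 := by
    intro v hv h
    apply hv
    calc v = n⁻¹ * (n * v * n⁻¹) * n := by group
      _ = 1 := by rw [h]; group
  -- `h` with `(a b)^h = n (a a₁ b) n⁻¹`
  obtain ⟨h, hh, e⟩ : ∃ h ∈ H, h⁻¹ * (a * b) * h = n * (a * a₁ * b) * n⁻¹ := by
    rcases C.perm n hn with ⟨h1, h2⟩ | ⟨h1, h2⟩
    · have k1 := (h1.inv _).1 (mul_mem ha ha₁)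
      have k2 := (h2.inv _).1 hb
      rw [inv_inv] at k1 k2
      obtain ⟨h, hh, e1, e2⟩ := C.Htr a ha b hb _ k1 _ k2 ha1 hb1 (ne1 haa) (ne1 hb1)
      refine ⟨h, hh, ?_⟩
      calc h⁻¹ * (a * b) * h = (h⁻¹ * a * h) * (h⁻¹ * b * h) := by group
        _ = _ := by rw [e1, e2]; group
    · have k1 := (h2.inv _).1 (mul_mem ha ha₁)
      have k2 := (h1.inv _).1 hb
      rw [inv_inv] at k1 k2
      obtain ⟨h, hh, e1, e2⟩ := C.Htr a ha b hb _ k2 _ k1 ha1 hb1 (ne1 hb1) (ne1 haa)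
      refine ⟨h, hh, ?_⟩
      calc h⁻¹ * (a * b) * h = (h⁻¹ * a * h) * (h⁻¹ * b * h) := by group
        _ = (n * b * n⁻¹) * (n * (a * a₁) * n⁻¹) := by rw [e1, e2]
        _ = n * (b * (a * a₁)) * n⁻¹ := by group
        _ = n * (a * a₁ * b) * n⁻¹ := by rw [C.comm12 (mul_mem ha ha₁) hb]
  -- `n h n` maps `t` to `t a₁`
  refine C.moved_of_norm (n := n * h * n) (x := a₁) ?_ ha₁ ha₁1 ?_
  · exact (hn.mul (C.HU h hh)).mul hn
  · calc (n * h * n)⁻¹ * t * (n * h * n) = n⁻¹ * (h⁻¹ * (n⁻¹ * t * n) * h) * n := by group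
      _ = n⁻¹ * ((h⁻¹ * t * h) * (h⁻¹ * (a * b) * h)) * n := by rw [hnt]; group
      _ = (n⁻¹ * t * n) * (a * a₁ * b) := by rw [C.conj_H hh, e]; group
      _ = t * ((a * b) * (a * a₁ * b)) := by rw [hnt, mul_assoc]
      _ = t * a₁ := by
        congr 1
        calc a * b * (a * a₁ * b) = a * (b * (a * a₁)) * b := by group
          _ = a * ((a * a₁) * b) * b := by rw [C.comm12 (mul_mem ha ha₁) hb]
          _ = (a * a) * a₁ * (b * b) := by group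
          _ = a₁ := by rw [C.sq₁ a ha, C.sq₂ b hb, one_mul, mul_one]

end Ctx

/-- An element of `C(t)` mapping `X₁` to `X₂` (graph type): both are moved or none. -/
theorem moved_swap {t c : G} {X Y : Subgroup G} (hct : c * t = t * c) (hc : Maps c X Y) (h : Moved t X) :
    Moved t Y := by
  obtain ⟨n, h1, h2, h3, h4⟩ := h
  have hc' : ∀ y ∈ Y, c * y * c⁻¹ ∈ X := fun y hy => by
    rw [hc]
    have e : c⁻¹ * (c * y * c⁻¹) * c = y := by group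
    rwa [e]
  have e1 : c⁻¹ * t * c = t := by rw [mul_assoc, ← hct, inv_mul_cancel_left]
  have e2 : c * t * c⁻¹ = t := by rw [hct, mul_inv_cancel_right]
  have e3 : (c⁻¹ * n * c) * t * (c⁻¹ * n * c)⁻¹ = c⁻¹ * (n * t * n⁻¹) * c := by
    calc (c⁻¹ * n * c) * t * (c⁻¹ * n * c)⁻¹ = c⁻¹ * (n * (c * t * c⁻¹) * n⁻¹) * c := by group
      _ = _ := by rw [e2]
  refine ⟨c⁻¹ * n * c, fun y hy => ?_, fun y hy => ?_, ?_, ?_⟩
  · have e : c⁻¹ * n * c * y * (c⁻¹ * n * c)⁻¹ = c⁻¹ * (n * (c * y * c⁻¹) * n⁻¹) * c := by group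
    rw [e, ← hc]
    exact h1 _ (hc' y hy)
  · have e : (c⁻¹ * n * c)⁻¹ * y * (c⁻¹ * n * c) = c⁻¹ * (n⁻¹ * (c * y * c⁻¹) * n) * c := by group
    rw [e, ← hc]
    exact h2 _ (hc' y hy)
  · rw [e3]
    have e : t * (c⁻¹ * (n * t * n⁻¹) * c) = c⁻¹ * (t * (n * t * n⁻¹)) * c := by
      calc t * (c⁻¹ * (n * t * n⁻¹) * c) = (c⁻¹ * t * c) * (c⁻¹ * (n * t * n⁻¹) * c) := by rw [e1]
        _ = _ := by group
    rw [e, ← hc]
    exact h3
  · rw [e3]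
    intro h
    apply h4
    calc n * t * n⁻¹ = c * (c⁻¹ * (n * t * n⁻¹) * c) * c⁻¹ := by group
      _ = t := by rw [h, e2]

open D7Out.Defs in
/-- **The front**, any `|R|`, cyclic outer part: `|R| = 2` and `t` is conjugate to some `t z ≠ t`, `z ∈ Z`. -/
theorem front [Finite G] (hG : commutator G = ⊤) {t v : G} {K U Z T : Subgroup G} (F : Fr t v K U Z T)
    (hcyc : ∃ s ∈ T, ∀ x ∈ T, ∃ k : ℤ, ∃ r ∈ zpowers v, ∃ u ∈ U, x = s ^ k * r * u) :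
    (∃ n ∈ normalizer (T : Set G), ∃ z ∈ Z, z ≠ 1 ∧ (∀ x ∈ T, x * z = z * x) ∧ n * t * n⁻¹ = t * z) ∧
      ∀ r ∈ zpowers v, r = 1 ∨ r = t :=
  D7Out.Front.exists_swap F (fun hiso => D7Out.TransGen.false_of_cyclic hG F hiso hcyc)

open D7Out.Defs in
/-- **The front and the start of fusion.** -/
theorem exists_moved [Finite G] (hG : commutator G = ⊤) {t v : G} {K U Z T X₁ X₂ H : Subgroup G}
    (F : Fr t v K U Z T) (hcyc : ∃ s ∈ T, ∀ x ∈ T, ∃ k : ℤ, ∃ r ∈ zpowers v, ∃ u ∈ U, x = s ^ k * r * u)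
    (C : Ctx t K U X₁ X₂ H) (hZ : ∀ z ∈ Z, ∃ a ∈ X₁, ∃ b ∈ X₂, z = a * b) :
    (Moved t X₁ ∨ Moved t X₂) ∧ ∀ r ∈ zpowers v, r = 1 ∨ r = t := by
  obtain ⟨⟨n, -, z, hz, hz1, -, hnz⟩, h2⟩ := front hG F hcyc
  obtain ⟨a, ha, b, hb, rfl⟩ := hZ z hz
  refine ⟨C.exists_moved (g := n⁻¹) ha hb hz1 ?_, h2⟩
  rw [inv_inv]; exact hnz

end Cfsg.Agent.OddHalf.D7F4.FusionOut
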