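import Cfsg.Agent.OddHalf.Out.Transfer
import Cfsg.Agent.OddHalf.D7End.CaseB

/-!
# `K = F₄(q)`, both lengths doubled: a graph involution in the outer part is impossible (helper763, bb ODD 10648)

`t` an involution, `T` a Sylow 2-subgroup of `C(t)`, `S ≥ T` a 2-group with a normal subgroup `Us` (the doubled
unipotent group), `φ : S → A` abelian with kernel `Us` on the involutions; `f ∈ S` an involution commuting with `t`
and exchanging the two doubled root groups `P`, `Q` of `Z(Us)`; all involutions of `S` are in `Us` or `S`-conjugate to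
`t`, `f` or `t f`. If `G` is perfect, `f` and `t f` are conjugate to `t` (transfer) and this leads to a contradiction.
-/

set_option autoImplicit false
set_option linter.unusedSectionVars false

namespace Cfsg.Agent.OddHalf.D7F4.GraphKill

open Subgroup

variable {G : Type*} [Group G]

/-- `A ⟨t⟩` -/
def adj (A : Subgroup G) (t : G) (tt : t * t = 1) (hA : ∀ u ∈ A, t * u * t ∈ A) : Subgroup G where
  carrier := {x | x ∈ A ∨ t * x ∈ A}
  one_mem' := Or.inl (one_mem _)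
  mul_mem' := by
    rintro a b (ha | ha) (hb | hb)
    · exact Or.inl (mul_mem ha hb)
    · right
      have : t * (a * b) = (t * a * t) * (t * b) := by
        calc t * (a * b) = t * a * 1 * b := by group
          _ = t * a * (t * t) * b := by rw [tt]
          _ = _ := by group
      rw [this]; exact mul_mem (hA a ha) hb
    · right
      have : t * (a * b) = (t * a) * b := by group
      rw [this]; exact mul_mem ha hb
    · left
      have : a * b = (t * (t * a) * t) * (t * b) := by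
        calc a * b = (t * t) * a * (t * t) * b := by rw [tt]; group
          _ = _ := by group
      rw [this]; exact mul_mem (hA _ ha) hb
  inv_mem' := by
    rintro a (ha | ha)
    · exact Or.inl (inv_mem ha)
    · right
      have : t * a⁻¹ = t * (t * a)⁻¹ * t := by
        rw [mul_inv_rev, inv_eq_of_mul_eq_one_left tt]
        calc t * a⁻¹ = t * a⁻¹ * 1 := by group
          _ = t * a⁻¹ * (t * t) := by rw [tt]
          _ = _ := by group
      rw [this]; exact hA _ (inv_mem ha)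

theorem mem_adj {A : Subgroup G} {t : G} {tt : t * t = 1} {hA : ∀ u ∈ A, t * u * t ∈ A} {x : G} :
    x ∈ adj A t tt hA ↔ x ∈ A ∨ t * x ∈ A := Iff.rfl

theorem adj_two {A : Subgroup G} {t : G} {tt : t * t = 1} {hA : ∀ u ∈ A, t * u * t ∈ A} (h : IsPGroup 2 A) :
    IsPGroup 2 (adj A t tt hA) := by
  rintro ⟨x, hx⟩
  have hsq : ∀ y, t * y ∈ A → y * y ∈ A := by
    intro y hy
    have h1 : y * y = (t * (t * y) * t) * (t * y) := by
      calc y * y = (t * t) * y * (t * t) * y := by rw [tt]; group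
        _ = _ := by group
    rw [h1]; exact mul_mem (hA _ hy) hy
  have h2 : x * x ∈ A := by
    rcases hx with h1 | h1
    · exact mul_mem h1 h1
    · exact hsq x h1
  obtain ⟨k, hk⟩ := h ⟨x * x, h2⟩
  refine ⟨k + 1, Subtype.ext ?_⟩
  have h3 := congrArg Subtype.val hk
  change (x * x) ^ 2 ^ k = 1 at h3
  change x ^ 2 ^ (k + 1) = 1
  rw [pow_succ', pow_mul, pow_two]
  exact h3

/-- Sylow's theorem in a subgroup `L`: a maximal 2-subgroup `H1` of `L` contains a conjugate of `H2`. -/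
theorem exists_conj_le [Finite G] {L H1 H2 : Subgroup G} (h1 : IsPGroup 2 H1) (hL1 : H1 ≤ L)
    (max : ∀ R : Subgroup G, IsPGroup 2 R → H1 ≤ R → R ≤ L → R ≤ H1) (h2 : IsPGroup 2 H2) (hL2 : H2 ≤ L) :
    ∃ l ∈ L, ∀ x ∈ H2, l * x * l⁻¹ ∈ H1 := by
  have : Fact (Nat.Prime 2) := ⟨Nat.prime_two⟩
  obtain ⟨S, hS⟩ := (show IsPGroup 2 (H1.subgroupOf L) from h1.comap_subtype).exists_le_sylow
  obtain ⟨Q, hQ⟩ := (show IsPGroup 2 (H2.subgroupOf L) from h2.comap_subtype).exists_le_sylow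
  have h3 : (S : Subgroup _).map L.subtype ≤ H1 := by
    refine max _ (S.2.map _) ?_ ?_
    · intro t ht
      exact ⟨⟨t, hL1 ht⟩, hS ht, rfl⟩
    · rintro _ ⟨y, -, rfl⟩
      exact y.2
  obtain ⟨g, hg⟩ := MulAction.exists_smul_eq L Q S
  refine ⟨g, g.2, fun p hp => ?_⟩
  have h4 : (⟨p, hL2 hp⟩ : L) ∈ Q := hQ hp
  have h5 : g * ⟨p, hL2 hp⟩ * g⁻¹ ∈ (S : Subgroup L) := by
    rw [← hg]
    exact ⟨⟨p, hL2 hp⟩, h4, rfl⟩
  exact h3 ⟨_, h5, rfl⟩

/-- the data: `Z` = centre of `U`, `P`, `Q` the two doubled root groups in the centre of `Us`, `P1`, `Q1` the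
two doubled root groups in the second centre, `P2`, `Q2` doubled root groups with `[P1, P2] = P`, `[Q1, Q2] = Q` -/
structure GData (t f : G) (U Z Us S T P Q P1 Q1 P2 Q2 : Subgroup G) {A : Type*} [CommGroup A] (φ : S →* A)
    (root : Set G) : Prop where
  tt : t * t = 1
  ff : f * f = 1
  tf : t * f = f * t
  pS : IsPGroup 2 S
  TS : T ≤ S
  tT : t ∈ T
  fS : f ∈ S
  tc : ∀ x ∈ T, x * t = t * x
  /-- `T` is a Sylow subgroup of `C(t)` -/
  max : ∀ R : Subgroup G, IsPGroup 2 R → T ≤ R → (∀ x ∈ R, x * t = t * x) → R ≤ T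
  φt : φ ⟨t, TS tT⟩ ≠ 1
  φf : φ ⟨f, fS⟩ ≠ 1
  φtf : φ ⟨t, TS tT⟩ ≠ φ ⟨f, fS⟩
  φval : ∀ x : S, x * x = 1 → φ x = 1 ∨ φ x = φ ⟨t, TS tT⟩ ∨ φ x = φ ⟨f, fS⟩ ∨
    φ x = φ ⟨t, TS tT⟩ * φ ⟨f, fS⟩
  φker : ∀ x : S, x * x = 1 → φ x = 1 → (x : G) ∈ Us
  /-- the involutions outside `Us` -/
  ct : ∀ x : S, x * x = 1 → φ x = φ ⟨t, TS tT⟩ → ∃ y ∈ S, y * t * y⁻¹ = x
  cf : ∀ x : S, x * x = 1 → φ x = φ ⟨f, fS⟩ → ∃ y ∈ S, y * f * y⁻¹ = x
  ctf : ∀ x : S, x * x = 1 → φ x = φ ⟨t, TS tT⟩ * φ ⟨f, fS⟩ → ∃ y ∈ S, y * (t * f) * y⁻¹ = x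
  UsS : Us ≤ S
  /-- involutions of `t Us` are `Us`-conjugate to `t` -/
  ctU : ∀ u ∈ Us, (t * u) * (t * u) = 1 → ∃ y ∈ Us, y * t * y⁻¹ = t * u
  UUs : U ≤ Us
  Ut : ∀ u ∈ U, u * t = t * u
  Ufix : ∀ u ∈ Us, u * t = t * u → u ∈ U
  /-- `|C_{Us}(f)| ≤ |U|` -/
  cardf : Nat.card ↥(Us ⊓ centralizer ({f} : Set G)) ≤ Nat.card U
  /-- root elements generate `U` -/
  gen : U ≤ closure root
  rU : root ⊆ U
  rr : ∀ p ∈ root, p * p = 1
  rn : ∀ p ∈ root, ∀ g : G, g * t * g⁻¹ ≠ p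
  ZU : Z ≤ U
  Zc : ∀ z ∈ U, (∀ u ∈ U, z * u = u * z) → z ∈ Z
  PUs : P ≤ Us
  QUs : Q ≤ Us
  Pc : ∀ a ∈ P, ∀ u ∈ Us, a * u = u * a
  Qc : ∀ b ∈ Q, ∀ u ∈ Us, b * u = u * b
  PQ : P ⊓ Q = ⊥
  fP : ∀ a ∈ P, f * a * f ∈ Q
  fQ : ∀ b ∈ Q, f * b * f ∈ P
  tP : ∀ a ∈ P, t * a * t ∈ P
  Psq : ∀ a ∈ P, a * a = 1
  Qsq : ∀ b ∈ Q, b * b = 1
  cardP : Nat.card P = Nat.card Z
  big : 2 < Nat.card P
  /-- `⟨t⟩ P Q = {n ∈ C(U) | [n, t] ∈ Z}` -/
  char : ∀ n : G, (∀ u ∈ U, n * u = u * n) → n⁻¹ * (t * n * t) ∈ Z → n ∈ P ⊔ Q ∨ t * n ∈ P ⊔ Q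
  /-- `U` is a Sylow subgroup of `C(t) ∩ C(P Q)` -/
  maxU : ∀ R : Subgroup G, IsPGroup 2 R → U ≤ R → (∀ x ∈ R, x * t = t * x) →
    (∀ x ∈ R, ∀ a ∈ P ⊔ Q, x * a = a * x) → R ≤ U
  nS : ∀ s ∈ S, ∀ u ∈ Us, s * u * s⁻¹ ∈ Us
  /-- the second centre -/
  z2 : ∀ x ∈ Us, (∀ y ∈ Us, x * y * x⁻¹ * y⁻¹ ∈ P ⊔ Q) → ∃ a ∈ P1, ∃ b ∈ Q1, ∃ z ∈ P ⊔ Q, x = a * b * z
  P1U : P1 ≤ Us
  Q1U : Q1 ≤ Us
  P2U : P2 ≤ Us
  Q2U : Q2 ≤ Us
  P1n : P1 ≠ ⊥
  brP : ∀ a ∈ P1, ∀ y ∈ Us, a * y * a⁻¹ * y⁻¹ ∈ P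
  brQ : ∀ a ∈ Q1, ∀ y ∈ Us, a * y * a⁻¹ * y⁻¹ ∈ Q
  soP : ∀ a ∈ P1, a ≠ 1 → ∀ c ∈ P, ∃ y ∈ P2, a * y * a⁻¹ * y⁻¹ = c
  soQ : ∀ a ∈ Q1, a ≠ 1 → ∀ c ∈ Q, ∃ y ∈ Q2, a * y * a⁻¹ * y⁻¹ = c
  coP : ∀ a ∈ P1, ∀ y ∈ Q2, a * y = y * a
  coQ : ∀ a ∈ Q1, ∀ y ∈ P2, a * y = y * a

namespace GData

variable {t f : G} {U Z Us S T P Q P1 Q1 P2 Q2 : Subgroup G} {A : Type*} [CommGroup A] {φ : S →* A}
    {root : Set G} (D : GData t f U Z Us S T P Q P1 Q1 P2 Q2 φ root)

include D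

theorem tinv : t⁻¹ = t := inv_eq_of_mul_eq_one_left D.tt

theorem finv : f⁻¹ = f := inv_eq_of_mul_eq_one_left D.ff

theorem nUs : ∀ u ∈ Us, t * u * t ∈ Us := by
  intro u hu
  have h := D.nS t (D.TS D.tT) u hu
  rwa [D.tinv] at h

theorem pT : IsPGroup 2 T := D.pS.to_le D.TS

theorem mem_T {x : G} (hx : x ∈ S) (hxt : x * t = t * x) : x ∈ T := by
  have h1 : T ⊔ (S ⊓ centralizer {t}) ≤ T := by
    have h2 : T ≤ S ⊓ centralizer ({t} : Set G) :=
      le_inf D.TS fun y hy => mem_centralizer_singleton_iff.2 (D.tc y hy)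
    rw [sup_of_le_right h2]
    apply D.max _ _ h2
    · intro y hy
      exact mem_centralizer_singleton_iff.1 hy.2
    · exact D.pS.to_le inf_le_left
  exact h1 (mem_sup_right ⟨hx, mem_centralizer_singleton_iff.2 hxt⟩)

/-- `P Q` commutes with `Us` -/
theorem PQc : ∀ a ∈ P ⊔ Q, ∀ u ∈ Us, a * u = u * a := by
  intro a ha u hu
  have h1 : P ⊔ Q ≤ centralizer (Us : Set G) := by
    apply sup_le
    · intro x hx
      rw [mem_centralizer_iff]
      intro y hy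
      exact (D.Pc x hx y hy).symm
    · intro x hx
      rw [mem_centralizer_iff]
      intro y hy
      exact (D.Qc x hx y hy).symm
  exact (mem_centralizer_iff.1 (h1 ha) u hu).symm

theorem PQU : P ⊔ Q ≤ Us := sup_le D.PUs D.QUs

theorem mem_PQ {x : G} : x ∈ P ⊔ Q ↔ ∃ a ∈ P, ∃ b ∈ Q, x = a * b := by
  constructor
  · intro hx
    rw [← closure_eq P, ← closure_eq Q, ← Subgroup.closure_union] at hx
    induction hx using closure_induction with
    | mem x hx =>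
      rcases hx with hx | hx
      · exact ⟨x, hx, 1, one_mem _, (mul_one x).symm⟩
      · exact ⟨1, one_mem _, x, hx, (one_mul x).symm⟩
    | one => exact ⟨1, one_mem _, 1, one_mem _, (mul_one 1).symm⟩
    | mul x y _ _ ihx ihy =>
      obtain ⟨a, ha, b, hb, rfl⟩ := ihx
      obtain ⟨a', ha', b', hb', rfl⟩ := ihy
      refine ⟨a * a', mul_mem ha ha', b * b', mul_mem hb hb', ?_⟩
      have h := D.Pc a' ha' b (D.QUs hb)
      calc a * b * (a' * b') = a * (b * a') * b' := by group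
        _ = a * (a' * b) * b' := by rw [h]
        _ = a * a' * (b * b') := by group
    | inv x _ ih =>
      obtain ⟨a, ha, b, hb, rfl⟩ := ih
      refine ⟨a⁻¹, inv_mem ha, b⁻¹, inv_mem hb, ?_⟩
      rw [mul_inv_rev]
      exact (D.Pc a⁻¹ (inv_mem ha) b⁻¹ (inv_mem (D.QUs hb))).symm
  · rintro ⟨a, ha, b, hb, rfl⟩
    exact mul_mem (mem_sup_left ha) (mem_sup_right hb)

theorem PQsq {x : G} (hx : x ∈ P ⊔ Q) : x * x = 1 := by
  obtain ⟨a, ha, b, hb, rfl⟩ := D.mem_PQ.1 hx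
  have h := D.Pc a ha b (D.QUs hb)
  calc a * b * (a * b) = a * (b * a) * b := by group
    _ = a * (a * b) * b := by rw [h]
    _ = (a * a) * (b * b) := by group
    _ = 1 := by rw [D.Psq a ha, D.Qsq b hb, one_mul]

theorem PQcomm {x y : G} (hx : x ∈ P ⊔ Q) (hy : y ∈ P ⊔ Q) : x * y = y * x := D.PQc x hx y (D.PQU hy)

theorem fPQ {x : G} (hx : x ∈ P ⊔ Q) : f * x * f ∈ P ⊔ Q := by
  obtain ⟨a, ha, b, hb, rfl⟩ := D.mem_PQ.1 hx
  have : f * (a * b) * f = (f * a * f) * (f * b * f) := by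
    calc f * (a * b) * f = f * a * (1 * b) * f := by group
      _ = f * a * ((f * f) * b) * f := by rw [D.ff]
      _ = (f * a * f) * (f * b * f) := by group
  rw [this]
  exact mul_mem (mem_sup_right (D.fP a ha)) (mem_sup_left (D.fQ b hb))

theorem tQ : ∀ b ∈ Q, t * b * t ∈ Q := by
  intro b hb
  have h1 := D.fP _ (D.tP _ (D.fQ b hb))
  have h2 : f * (t * (f * b * f) * t) * f = t * b * t := by
    calc f * (t * (f * b * f) * t) * f = (f * t) * (f * b * f) * (t * f) := by group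
      _ = (t * f) * (f * b * f) * (f * t) := by rw [D.tf]
      _ = t * (f * f) * b * (f * f) * t := by group
      _ = t * b * t := by rw [D.ff]; group
  rwa [h2] at h1

theorem tPQ {x : G} (hx : x ∈ P ⊔ Q) : t * x * t ∈ P ⊔ Q := by
  obtain ⟨a, ha, b, hb, rfl⟩ := D.mem_PQ.1 hx
  have : t * (a * b) * t = (t * a * t) * (t * b * t) := by
    calc t * (a * b) * t = t * a * (1 * b) * t := by group
      _ = t * a * ((t * t) * b) * t := by rw [D.tt]
      _ = (t * a * t) * (t * b * t) := by group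
  rw [this]
  exact mul_mem (mem_sup_left (D.tP a ha)) (mem_sup_right (D.tQ b hb))

/-- an element of `P` commuting with `f` is trivial -/
theorem P_fix {a : G} (ha : a ∈ P) (h : a * f = f * a) : a = 1 := by
  have h1 : f * a * f = a := by
    calc f * a * f = a * f * f := by rw [h]
      _ = a * (f * f) := by group
      _ = a := by rw [D.ff, mul_one]
  have h2 : a ∈ P ⊓ Q := ⟨ha, by rw [← h1]; exact D.fP a ha⟩
  rw [D.PQ] at h2
  exact h2

theorem Pne : P ≠ ⊥ := by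
  intro h
  have h1 := D.big
  rw [h] at h1
  simp at h1

section g

variable [Finite G]

/-- transfer: the type of `f` resp. `t f` occurs -/
theorem exists_conj_aux (hG : commutator G = ⊤) (c d : A)
    (hc : c ≠ φ ⟨t, D.TS D.tT⟩) (hcd : ∀ x : S, x * x = 1 → φ x = 1 ∨ φ x = φ ⟨t, D.TS D.tT⟩ ∨ φ x = c ∨
      φ x = d) :
    ∃ g : G, ∃ hg : (∀ x ∈ T, g⁻¹ * x * g ∈ S), φ ⟨g⁻¹ * t * g, hg t D.tT⟩ = d := by
  by_contra hcon
  push Not at hcon
  apply Out.Transfer.transfer_ne_one S φ D.tt (D.TS D.tT) D.φt ?_ ?_ T D.pT D.tc c hc ?_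
    (TFormula.hom_eq_one hG _ _)
  · intro g h hφ
    obtain ⟨y, hy, hyt⟩ := D.ct ⟨g⁻¹ * t * g, h⟩ (Subtype.ext (by
      show g⁻¹ * t * g * (g⁻¹ * t * g) = 1
      calc g⁻¹ * t * g * (g⁻¹ * t * g) = g⁻¹ * (t * t) * g := by group
        _ = 1 := by rw [D.tt]; group)) hφ
    exact ⟨y, hy, hyt.symm⟩
  · have h1 : S ⊓ centralizer ({t} : Set G) = T := by
      apply le_antisymm
      · intro x hx
        exact D.mem_T hx.1 (mem_centralizer_singleton_iff.1 hx.2)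
      · exact le_inf D.TS fun x hx => mem_centralizer_singleton_iff.2 (D.tc x hx)
    rw [← inf_relIndex_right, h1]
    apply D7End.CaseB.odd_relIndex _ D.pT
    · intro R hR hTR hRC
      exact D.max R hR hTR fun x hx => mem_centralizer_singleton_iff.1 (hRC hx)
    · intro x hx
      exact mem_centralizer_singleton_iff.2 (D.tc x hx)
  · intro g hg h
    have huu : (⟨g⁻¹ * t * g, h⟩ : S) * ⟨g⁻¹ * t * g, h⟩ = 1 := Subtype.ext (by
      show g⁻¹ * t * g * (g⁻¹ * t * g) = 1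
      calc g⁻¹ * t * g * (g⁻¹ * t * g) = g⁻¹ * (t * t) * g := by group
        _ = 1 := by rw [D.tt]; group)
    rcases hcd _ huu with h1 | h1 | h1 | h1
    · exact Or.inr (Or.inl h1)
    · exact Or.inl h1
    · exact Or.inr (Or.inr h1)
    · exact absurd h1 (hcon g hg)

theorem exists_conj_f (hG : commutator G = ⊤) : ∃ g : G, (∀ x ∈ T, g⁻¹ * x * g ∈ S) ∧ g⁻¹ * t * g = f := by
  obtain ⟨g, hg, hφ⟩ := D.exists_conj_aux hG (φ ⟨t, D.TS D.tT⟩ * φ ⟨f, D.fS⟩) (φ ⟨f, D.fS⟩) (by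
    intro h
    exact D.φf (mul_eq_left.1 h)) (by
    intro x hx
    rcases D.φval x hx with h | h | h | h
    · exact Or.inl h
    · exact Or.inr (Or.inl h)
    · exact Or.inr (Or.inr (Or.inr h))
    · exact Or.inr (Or.inr (Or.inl h)))
  obtain ⟨y, hy, hyt⟩ := D.cf ⟨g⁻¹ * t * g, hg t D.tT⟩ (Subtype.ext (by
      show g⁻¹ * t * g * (g⁻¹ * t * g) = 1
      calc g⁻¹ * t * g * (g⁻¹ * t * g) = g⁻¹ * (t * t) * g := by group
        _ = 1 := by rw [D.tt]; group)) hφ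
  have hyt' : y * f * y⁻¹ = g⁻¹ * t * g := hyt
  refine ⟨g * y, ?_, ?_⟩
  · intro x hx
    have e : (g * y)⁻¹ * x * (g * y) = y⁻¹ * (g⁻¹ * x * g) * y := by group
    rw [e]
    exact mul_mem (mul_mem (inv_mem hy) (hg x hx)) hy
  · calc (g * y)⁻¹ * t * (g * y) = y⁻¹ * (g⁻¹ * t * g) * y := by group
      _ = y⁻¹ * (y * f * y⁻¹) * y := by rw [hyt']
      _ = f := by group

theorem exists_conj_tf (hG : commutator G = ⊤) : ∃ g : G, g⁻¹ * t * g = t * f := by
  obtain ⟨g, hg, hφ⟩ := D.exists_conj_aux hG (φ ⟨f, D.fS⟩) (φ ⟨t, D.TS D.tT⟩ * φ ⟨f, D.fS⟩) 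
    (fun h => D.φtf h.symm) (by
    intro x hx
    rcases D.φval x hx with h | h | h | h
    · exact Or.inl h
    · exact Or.inr (Or.inl h)
    · exact Or.inr (Or.inr (Or.inl h))
    · exact Or.inr (Or.inr (Or.inr h)))
  obtain ⟨y, hy, hyt⟩ := D.ctf ⟨g⁻¹ * t * g, hg t D.tT⟩ (Subtype.ext (by
      show g⁻¹ * t * g * (g⁻¹ * t * g) = 1
      calc g⁻¹ * t * g * (g⁻¹ * t * g) = g⁻¹ * (t * t) * g := by group
        _ = 1 := by rw [D.tt]; group)) hφ
  have hyt' : y * (t * f) * y⁻¹ = g⁻¹ * t * g := hyt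
  refine ⟨g * y, ?_⟩
  calc (g * y)⁻¹ * t * (g * y) = y⁻¹ * (g⁻¹ * t * g) * y := by group
    _ = y⁻¹ * (y * (t * f) * y⁻¹) * y := by rw [hyt']
    _ = t * f := by group

/-- `g⁻¹ U g ≤ Us` -/
theorem conj_U_le {g g' : G} (hg : ∀ x ∈ T, g⁻¹ * x * g ∈ S) (hgf : g⁻¹ * t * g = f)
    (hg' : g'⁻¹ * t * g' = t * f) : ∀ u ∈ U, g⁻¹ * u * g ∈ Us := by
  have key : ∀ p ∈ root, g⁻¹ * p * g ∈ Us := by
    intro p hp
    have hpT : p ∈ T := D.mem_T (D.UsS (D.UUs (D.rU hp))) (D.Ut p (D.rU hp))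
    set q : G := g⁻¹ * p * g with hq
    have hqS : q ∈ S := hg p hpT
    have hqq : (⟨q, hqS⟩ : S) * ⟨q, hqS⟩ = 1 := Subtype.ext (by
      show q * q = 1
      calc q * q = g⁻¹ * (p * p) * g := by rw [hq]; group
        _ = 1 := by rw [D.rr p hp]; group)
    rcases D.φval _ hqq with h | h | h | h
    · exact D.φker _ hqq h
    · exfalso
      obtain ⟨y, -, hy⟩ := D.ct _ hqq h
      have hy' : y * t * y⁻¹ = q := hy
      apply D.rn p hp (g * y)
      calc g * y * t * (g * y)⁻¹ = g * (y * t * y⁻¹) * g⁻¹ := by group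
        _ = p := by rw [hy', hq]; group
    · exfalso
      obtain ⟨y, -, hy⟩ := D.cf _ hqq h
      have hy' : y * f * y⁻¹ = q := hy
      apply D.rn p hp (g * y * g⁻¹)
      calc g * y * g⁻¹ * t * (g * y * g⁻¹)⁻¹ = g * (y * (g⁻¹ * t * g) * y⁻¹) * g⁻¹ := by group
        _ = p := by rw [hgf, hy', hq]; group
    · exfalso
      obtain ⟨y, -, hy⟩ := D.ctf _ hqq h
      have hy' : y * (t * f) * y⁻¹ = q := hy
      apply D.rn p hp (g * y * g'⁻¹)
      calc g * y * g'⁻¹ * t * (g * y * g'⁻¹)⁻¹ = g * (y * (g'⁻¹ * t * g') * y⁻¹) * g⁻¹ := by group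
        _ = p := by rw [hg', hy', hq]; group
  have h1 : U ≤ Us.map (MulAut.conj g).toMonoidHom := by
    refine D.gen.trans ((closure_le _).2 ?_)
    intro p hp
    exact ⟨g⁻¹ * p * g, key p hp, by show g * (g⁻¹ * p * g) * g⁻¹ = p; group⟩
  intro u hu
  obtain ⟨v, hv, hvu⟩ := h1 hu
  have : g⁻¹ * u * g = v := by
    rw [← hvu]
    show g⁻¹ * (g * v * g⁻¹) * g = v
    group
  rw [this]; exact hv

/-- `C_{Us}(f) = g⁻¹ U g` -/
theorem mem_of_fix {g g' : G} (hg : ∀ x ∈ T, g⁻¹ * x * g ∈ S) (hgf : g⁻¹ * t * g = f)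
    (hg' : g'⁻¹ * t * g' = t * f) : ∀ x ∈ Us, x * f = f * x → g * x * g⁻¹ ∈ U := by
  have h1 : U.map (MulAut.conj g⁻¹).toMonoidHom ≤ Us ⊓ centralizer ({f} : Set G) := by
    rintro _ ⟨u, hu, rfl⟩
    have e : (MulAut.conj g⁻¹).toMonoidHom u = g⁻¹ * u * g := by
      show g⁻¹ * u * g⁻¹⁻¹ = _
      rw [inv_inv]
    rw [e]
    refine ⟨D.conj_U_le hg hgf hg' u hu, mem_centralizer_singleton_iff.2 ?_⟩
    have := D.Ut u hu
    calc g⁻¹ * u * g * f = g⁻¹ * (u * t) * g := by rw [← hgf]; group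
      _ = g⁻¹ * (t * u) * g := by rw [this]
      _ = f * (g⁻¹ * u * g) := by rw [← hgf]; group
  have h2 : Nat.card ↥(U.map (MulAut.conj g⁻¹).toMonoidHom) = Nat.card U :=
    (Nat.card_congr (U.equivMapOfInjective _ (MulAut.conj g⁻¹).injective).toEquiv).symm
  have h3 := eq_of_le_of_card_ge h1 (by rw [h2]; exact D.cardf)
  intro x hx hxf
  have h4 : x ∈ U.map (MulAut.conj g⁻¹).toMonoidHom := by
    rw [h3]
    exact ⟨hx, mem_centralizer_singleton_iff.2 hxf⟩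
  obtain ⟨u, hu, hux⟩ := h4
  have : g * x * g⁻¹ = u := by
    rw [← hux]
    show g * (g⁻¹ * u * g⁻¹⁻¹) * g⁻¹ = u
    group
  rw [this]; exact hu

/-- `g` normalises `P Q` -/
theorem conj_PQ {g g' : G} (hg : ∀ x ∈ T, g⁻¹ * x * g ∈ S) (hgf : g⁻¹ * t * g = f)
    (hg' : g'⁻¹ * t * g' = t * f) : ∀ n ∈ P ⊔ Q, g * n * g⁻¹ ∈ P ⊔ Q := by
  have hU := D.conj_U_le hg hgf hg'
  have hfix := D.mem_of_fix hg hgf hg'
  -- fixed points of `f` in `P Q`
  have hZ : ∀ x ∈ P ⊔ Q, x * f = f * x → g * x * g⁻¹ ∈ Z := by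
    intro x hx hxf
    apply D.Zc _ (hfix x (D.PQU hx) hxf)
    intro u hu
    have h1 := D.PQc x hx _ (hU u hu)
    calc g * x * g⁻¹ * u = g * (x * (g⁻¹ * u * g)) * g⁻¹ := by group
      _ = g * (g⁻¹ * u * g * x) * g⁻¹ := by rw [h1]
      _ = u * (g * x * g⁻¹) := by group
  have hor : ∀ n ∈ P ⊔ Q, g * n * g⁻¹ ∈ P ⊔ Q ∨ t * (g * n * g⁻¹) ∈ P ⊔ Q := by
    intro n hn
    apply D.char
    · intro u hu
      have h1 := D.PQc n hn _ (hU u hu)
      calc g * n * g⁻¹ * u = g * (n * (g⁻¹ * u * g)) * g⁻¹ := by group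
        _ = g * (g⁻¹ * u * g * n) * g⁻¹ := by rw [h1]
        _ = u * (g * n * g⁻¹) := by group
    · have h2 : (g * n * g⁻¹)⁻¹ * (t * (g * n * g⁻¹) * t) = g * (n⁻¹ * (f * n * f)) * g⁻¹ := by
        rw [← hgf]; group
      rw [h2]
      apply hZ
      · exact mul_mem (inv_mem hn) (D.fPQ hn)
      · have hnn := D.PQsq hn
        have hni : n⁻¹ = n := inv_eq_of_mul_eq_one_left hnn
        have h3 := D.PQcomm hn (D.fPQ hn)
        rw [hni]
        calc n * (f * n * f) * f = n * f * n * (f * f) := by group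
          _ = (f * f) * (n * f * n) := by rw [D.ff, mul_one, one_mul]
          _ = f * (f * n * f * n) := by group
          _ = f * (n * (f * n * f)) := by rw [← h3]
  intro n hn
  rcases hor n hn with h | h
  · exact h
  exfalso
  -- `a n` is fixed by `f` for `1 ≠ a ∈ P`
  have h1 : ∀ m ∈ P ⊔ Q, g * m * g⁻¹ ∈ P ⊔ Q → m * f = f * m := by
    intro m hm hm2
    have h2 := D.PQcomm hm2 h
    have h3 : g * m * g⁻¹ * (g * n * g⁻¹) = g * n * g⁻¹ * (g * m * g⁻¹) := by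
      have := D.PQcomm hm hn
      calc g * m * g⁻¹ * (g * n * g⁻¹) = g * (m * n) * g⁻¹ := by group
        _ = g * (n * m) * g⁻¹ := by rw [this]
        _ = g * n * g⁻¹ * (g * m * g⁻¹) := by group
    have h4 : g * m * g⁻¹ * t = t * (g * m * g⁻¹) := by
      have h5 : g * m * g⁻¹ * t * (g * n * g⁻¹) = t * (g * m * g⁻¹) * (g * n * g⁻¹) := by
        calc g * m * g⁻¹ * t * (g * n * g⁻¹) = g * m * g⁻¹ * (t * (g * n * g⁻¹)) := by group
          _ = t * (g * n * g⁻¹) * (g * m * g⁻¹) := h2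
          _ = t * (g * n * g⁻¹ * (g * m * g⁻¹)) := by group
          _ = t * (g * m * g⁻¹ * (g * n * g⁻¹)) := by rw [h3]
          _ = t * (g * m * g⁻¹) * (g * n * g⁻¹) := by group
      exact mul_right_cancel h5
    calc m * f = g⁻¹ * (g * m * g⁻¹ * t) * g := by rw [← hgf]; group
      _ = g⁻¹ * (t * (g * m * g⁻¹)) * g := by rw [h4]
      _ = f * m := by rw [← hgf]; group
  have h2 : ∀ m ∈ P ⊔ Q, ¬ (m * f = f * m) → (m * n) * f = f * (m * n) := by
    intro m hm hmf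
    apply h1 _ (mul_mem hm hn)
    rcases hor m hm with h3 | h3
    · exact absurd (h1 m hm h3) hmf
    · -- product of two elements of `t P Q`
      have h4 : g * (m * n) * g⁻¹ = (t * (t * (g * m * g⁻¹)) * t) * (t * (g * n * g⁻¹)) := by
        calc g * (m * n) * g⁻¹ = g * m * g⁻¹ * (g * n * g⁻¹) := by group
          _ = (t * t) * (g * m * g⁻¹) * (t * t) * (g * n * g⁻¹) := by rw [D.tt]; group
          _ = _ := by group
      rw [h4]
      exact mul_mem (D.tPQ h3) h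
  have h3 : ∀ a ∈ P, a ≠ 1 → (a * n) * f = f * (a * n) := by
    intro a ha ha1
    exact h2 a (mem_sup_left ha) fun h => ha1 (D.P_fix ha h)
  obtain ⟨a, b, ha1, hb1, hab⟩ : ∃ a b : P, a ≠ 1 ∧ b ≠ 1 ∧ a ≠ b := by
    classical
    have := Fintype.ofFinite P
    have h4 := D.big
    rw [Nat.card_eq_fintype_card, ← Finset.card_univ, Finset.two_lt_card_iff] at h4
    obtain ⟨a, b, c, -, -, -, hab, hac, hbc⟩ := h4
    by_cases ha : a = 1
    · exact ⟨b, c, fun h => hab (ha.trans h.symm), fun h => hac (ha.trans h.symm), hbc⟩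
    · by_cases hb : b = 1
      · exact ⟨a, c, ha, fun h => hbc (hb.trans h.symm), hac⟩
      · exact ⟨a, b, ha, hb, hab⟩
  have h4 := h3 a a.2 (fun h => ha1 (Subtype.ext h))
  have h5 := h3 b b.2 (fun h => hb1 (Subtype.ext h))
  apply hab
  have h6 : ((a : G) * (b : G)⁻¹) * f = f * ((a : G) * (b : G)⁻¹) := by
    have h7 : f * ((b : G) * n)⁻¹ = ((b : G) * n)⁻¹ * f := by
      calc f * ((b : G) * n)⁻¹ = ((b : G) * n)⁻¹ * (((b : G) * n) * f) * ((b : G) * n)⁻¹ := by group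
        _ = ((b : G) * n)⁻¹ * (f * ((b : G) * n)) * ((b : G) * n)⁻¹ := by rw [h5]
        _ = ((b : G) * n)⁻¹ * f := by group
    calc ((a : G) * (b : G)⁻¹) * f = ((a : G) * n) * (((b : G) * n)⁻¹ * f) := by group
      _ = ((a : G) * n) * (f * ((b : G) * n)⁻¹) := by rw [h7]
      _ = ((a : G) * n) * f * ((b : G) * n)⁻¹ := by group
      _ = f * ((a : G) * n) * ((b : G) * n)⁻¹ := by rw [h4]
      _ = f * ((a : G) * (b : G)⁻¹) := by group
  have h7 := D.P_fix (mul_mem a.2 (inv_mem b.2)) h6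
  exact Subtype.ext (mul_inv_eq_one.1 h7)


/-- A 2-subgroup of `C(P Q)⟨t⟩` containing `Us` and `t` is `Us ⟨t⟩`: its elements centralising `P Q` are in `Us`. -/
theorem le_Us {R : Subgroup G} (hR : IsPGroup 2 R) (hUR : Us ≤ R) (htR : t ∈ R)
    (hRn : ∀ x ∈ R, (∀ a ∈ P ⊔ Q, x * a = a * x) ∨ (∀ a ∈ P ⊔ Q, (x * t) * a = a * (x * t))) :
    ∀ x ∈ R, (∀ a ∈ P ⊔ Q, x * a = a * x) → x ∈ Us := by
  -- `R1 = R ∩ C(P Q)`
  set R1 : Subgroup G := R ⊓ centralizer ((P ⊔ Q : Subgroup G) : Set G) with hR1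
  have hmem : ∀ x, x ∈ R1 ↔ x ∈ R ∧ ∀ a ∈ P ⊔ Q, x * a = a * x := by
    intro x
    rw [hR1, mem_inf, mem_centralizer_iff]
    exact and_congr_right fun _ => ⟨fun h a ha => (h a ha).symm, fun h a ha => (h a ha).symm⟩
  have hU1 : Us ≤ R1 := fun u hu => (hmem u).2 ⟨hUR hu, fun a ha => (D.PQc a ha u hu).symm⟩
  have ht1 : ∀ x ∈ R1, t * x * t ∈ R1 := by
    intro x hx
    rw [hmem] at hx ⊢
    refine ⟨mul_mem (mul_mem htR hx.1) htR, ?_⟩
    intro a ha
    have h1 := hx.2 _ (D.tPQ ha)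
    calc t * x * t * a = t * (x * (t * a * t)) * t := by
          calc t * x * t * a = t * x * t * a * (t * t) := by rw [D.tt, mul_one]
            _ = t * (x * (t * a * t)) * t := by group
      _ = t * (t * a * t * x) * t := by rw [h1]
      _ = (t * t) * a * (t * x * t) := by group
      _ = a * (t * x * t) := by rw [D.tt, one_mul]
  by_contra hcon
  push Not at hcon
  obtain ⟨x0, hx0R, hx0c, hx0⟩ := hcon
  have hx01 : x0 ∈ R1 := (hmem x0).2 ⟨hx0R, hx0c⟩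
  -- the group `Us ⟨t⟩` inside `R`
  have hp1 : IsPGroup 2 R1 := hR.to_le inf_le_left
  let E : Subgroup G := adj Us t D.tt D.nUs
  have hmE : ∀ x, x ∈ E ↔ x ∈ Us ∨ t * x ∈ Us := fun _ => Iff.rfl
  have hER : E ≤ R := by
    intro x hx
    rcases hx with h | h
    · exact hUR h
    · have : x = t * (t * x) := by rw [← mul_assoc, D.tt, one_mul]
      rw [this]; exact mul_mem htR (hUR h)
  have htc : ¬ ∀ a ∈ P ⊔ Q, t * a = a * t := by
    intro h
    -- `t` centralises `P Q`, so `P Q ≤ U`, `|P Q| ≤ |Z|`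
    obtain ⟨a, ha1⟩ := (P.ne_bot_iff_exists_ne_one.1 D.Pne)
    have hle : P ⊔ Q ≤ Z := by
      intro x hx
      apply D.Zc x (D.Ufix x (D.PQU hx) (h x hx).symm)
      intro u hu
      exact D.PQc x hx u (D.UUs hu)
    have h1 : P = Z := eq_of_le_of_card_ge (le_sup_left.trans hle) D.cardP.ge
    have h2 : Q ≤ P := by rw [h1]; exact le_sup_right.trans hle
    have h3 := D.PQ
    rw [inf_of_le_right h2] at h3
    apply ha1
    apply Subtype.ext
    have h4 := D.fP a a.2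
    rw [h3] at h4
    have h5 : f * (a : G) * f = 1 := h4
    calc (a : G) = (f * f) * a * (f * f) := by rw [D.ff]; group
      _ = f * (f * a * f) * f := by group
      _ = 1 := by rw [h5, mul_one, D.ff]
  have hEne : E.subgroupOf R < ⊤ := by
    rw [lt_top_iff_ne_top]
    intro h
    have h1 : R ≤ E := subgroupOf_eq_top.1 h
    rcases (hmE x0).1 (h1 hx0R) with h2 | h2
    · exact hx0 h2
    · apply htc
      intro a ha
      have h3 := D.PQc a ha _ h2
      have h4 := hx0c a ha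
      have h5 : t * a * x0 = a * t * x0 := by
        calc t * a * x0 = t * (x0 * a) := by rw [h4]; group
          _ = t * x0 * a := by group
          _ = a * (t * x0) := h3.symm
          _ = a * t * x0 := by group
      exact mul_right_cancel h5
  have hn : Group.IsNilpotent R := hR.isNilpotent
  have h1 := Group.normalizerCondition_of_isNilpotent (G := R) _ hEne
  obtain ⟨n, hn1, hn2⟩ := SetLike.exists_of_lt h1
  have hnE : (n : G) ∉ E := fun h => hn2 (mem_subgroupOf.2 h)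
  have hnN : ∀ x ∈ E, (n : G) * x * (n : G)⁻¹ ∈ E := by
    intro x hx
    have h2 := (Subgroup.mem_normalizer_iff.1 hn1 ⟨x, hER hx⟩).1 (mem_subgroupOf.2 hx)
    exact mem_subgroupOf.1 h2
  -- WLOG `n ∈ R1`
  obtain ⟨m, hm1, hmE', hmN⟩ : ∃ m ∈ R1, m ∉ E ∧ ∀ x ∈ E, m * x * m⁻¹ ∈ E := by
    have htE : t ∈ E := Or.inr (by rw [D.tt]; exact one_mem _)
    rcases hRn n n.2 with h2 | h2
    · exact ⟨n, (hmem _).2 ⟨n.2, h2⟩, hnE, hnN⟩
    · refine ⟨n * t, (hmem _).2 ⟨mul_mem n.2 htR, h2⟩, ?_, ?_⟩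
      · intro h3
        apply hnE
        have : (n : G) = n * t * t := by rw [mul_assoc, D.tt, mul_one]
        rw [this]; exact mul_mem h3 htE
      · intro x hx
        have : (n : G) * t * x * ((n : G) * t)⁻¹ = n * (t * x * t⁻¹) * (n : G)⁻¹ := by group
        rw [this]
        exact hnN _ (mul_mem (mul_mem htE hx) (inv_mem htE))
  -- `m t m⁻¹ ∈ t Us`
  have htE : t ∈ E := Or.inr (by rw [D.tt]; exact one_mem _)
  have h2 := hmN t htE
  have h3 : m * t * m⁻¹ * t ∈ R1 := by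
    have : m * t * m⁻¹ * t = m * (t * m⁻¹ * t) := by group
    rw [this]; exact mul_mem hm1 (ht1 _ (inv_mem hm1))
  have h4 : t * (m * t * m⁻¹) ∈ Us := by
    rcases h2 with h2 | h2
    · exfalso
      apply htc
      intro a ha
      have h5 := D.PQc a ha _ h2
      have h6 := (hmem _).1 hm1
      have h7 := h6.2 a ha
      -- `m t m⁻¹` commutes with `a`
      have h8 := (hmem _).1 h3
      have h9 := h8.2 a ha
      have h10 : m * t * m⁻¹ * (t * a) = m * t * m⁻¹ * (a * t) := by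
        calc m * t * m⁻¹ * (t * a) = m * t * m⁻¹ * t * a := by group
          _ = a * (m * t * m⁻¹ * t) := h9
          _ = a * (m * t * m⁻¹) * t := by group
          _ = m * t * m⁻¹ * a * t := by rw [h5]
          _ = m * t * m⁻¹ * (a * t) := by group
      exact mul_left_cancel h10
    · exact h2
  obtain ⟨y, hy, hyt⟩ := D.ctU _ h4 (by
    have e : t * (t * (m * t * m⁻¹)) = m * t * m⁻¹ := by rw [← mul_assoc, D.tt, one_mul]
    rw [e]
    calc m * t * m⁻¹ * (m * t * m⁻¹) = m * (t * t) * m⁻¹ := by group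
      _ = 1 := by rw [D.tt]; group)
  have hyt' : y * t * y⁻¹ = m * t * m⁻¹ := by
    rw [hyt, ← mul_assoc, D.tt, one_mul]
  -- `m⁻¹ y ∈ C(t)`
  set w : G := m⁻¹ * y with hw
  have hwR : w ∈ R1 := mul_mem (inv_mem hm1) (hU1 hy)
  have hwt : w * t = t * w := by
    calc w * t = m⁻¹ * (y * t * y⁻¹) * y := by rw [hw]; group
      _ = m⁻¹ * (m * t * m⁻¹) * y := by rw [hyt']
      _ = t * w := by rw [hw]; group
  have hwU : w ∈ U := by
    apply D.maxU (R1 ⊓ centralizer ({t} : Set G)) (hp1.to_le inf_le_left) _ _ _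
      ⟨hwR, mem_centralizer_singleton_iff.2 hwt⟩
    · intro u hu
      exact ⟨hU1 (D.UUs hu), mem_centralizer_singleton_iff.2 (D.Ut u hu)⟩
    · intro x hx
      exact mem_centralizer_singleton_iff.1 hx.2
    · intro x hx
      exact ((hmem x).1 hx.1).2
  apply hmE'
  left
  have : m = y * w⁻¹ := by rw [hw]; group
  rw [this]
  exact mul_mem hy (inv_mem (D.UUs hwU))


omit [Finite G] in
theorem not_cent [Finite G] : ¬ ∀ a ∈ P ⊔ Q, t * a = a * t := by
  intro h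
  obtain ⟨a, ha1⟩ := (P.ne_bot_iff_exists_ne_one.1 D.Pne)
  have hle : P ⊔ Q ≤ Z := by
    intro x hx
    apply D.Zc x (D.Ufix x (D.PQU hx) (h x hx).symm)
    intro u hu
    exact D.PQc x hx u (D.UUs hu)
  have h1 : P = Z := eq_of_le_of_card_ge (le_sup_left.trans hle) D.cardP.ge
  have h2 : Q ≤ P := by rw [h1]; exact le_sup_right.trans hle
  have h3 := D.PQ
  rw [inf_of_le_right h2] at h3
  apply ha1
  apply Subtype.ext
  have h4 := D.fP a a.2
  rw [h3] at h4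
  have h5 : f * (a : G) * f = 1 := h4
  calc (a : G) = (f * f) * a * (f * f) := by rw [D.ff]; group
    _ = f * (f * a * f) * f := by group
    _ = 1 := by rw [h5, mul_one, D.ff]

/-- an element `n = g c` normalising `Us`, `c ∈ C(P Q)` -/
theorem exists_norm {g g' : G} (hg : ∀ x ∈ T, g⁻¹ * x * g ∈ S) (hgf : g⁻¹ * t * g = f)
    (hg' : g'⁻¹ * t * g' = t * f) : ∃ c : G, (∀ a ∈ P ⊔ Q, c * a = a * c) ∧
      ∀ u ∈ Us, c * (g⁻¹ * u * g) * c⁻¹ ∈ Us := by
  have hPQ := D.conj_PQ hg hgf hg'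
  set M : Subgroup G := centralizer ((P ⊔ Q : Subgroup G) : Set G) with hM
  have hmemM : ∀ x, x ∈ M ↔ ∀ a ∈ P ⊔ Q, x * a = a * x := by
    intro x
    rw [hM, mem_centralizer_iff]
    exact ⟨fun h a ha => (h a ha).symm, fun h a ha => (h a ha).symm⟩
  have hUM : Us ≤ M := fun u hu => (hmemM u).2 fun a ha => (D.PQc a ha u hu).symm
  have htM : ∀ x ∈ M, t * x * t ∈ M := by
    intro x hx
    rw [hmemM] at hx ⊢
    intro a ha
    have h1 := hx _ (D.tPQ ha)
    calc t * x * t * a = t * (x * (t * a * t)) * t := by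
          calc t * x * t * a = t * x * t * a * (t * t) := by rw [D.tt, mul_one]
            _ = t * (x * (t * a * t)) * t := by group
      _ = t * (t * a * t * x) * t := by rw [h1]
      _ = (t * t) * a * (t * x * t) := by group
      _ = a * (t * x * t) := by rw [D.tt, one_mul]
  set L : Subgroup G := adj M t D.tt htM with hL
  set H1 : Subgroup G := adj Us t D.tt D.nUs with hH1
  -- `t` normalises `g⁻¹ Us g`
  have hgt : g * t * g⁻¹ ∈ T := by
    have h1 : (S ⊓ centralizer ({f} : Set G)).map (MulAut.conj g).toMonoidHom ≤ T := by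
      apply D.max
      · exact (D.pS.to_le inf_le_left).map _
      · intro x hx
        refine ⟨g⁻¹ * x * g, ⟨hg x hx, mem_centralizer_singleton_iff.2 ?_⟩, ?_⟩
        · calc g⁻¹ * x * g * f = g⁻¹ * (x * t) * g := by rw [← hgf]; group
            _ = g⁻¹ * (t * x) * g := by rw [D.tc x hx]
            _ = f * (g⁻¹ * x * g) := by rw [← hgf]; group
        · show g * (g⁻¹ * x * g) * g⁻¹ = x
          group
      · rintro _ ⟨x, hx, rfl⟩
        have h2 := mem_centralizer_singleton_iff.1 hx.2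
        show g * x * g⁻¹ * t = t * (g * x * g⁻¹)
        calc g * x * g⁻¹ * t = g * (x * f) * g⁻¹ := by rw [← hgf]; group
          _ = g * (f * x) * g⁻¹ := by rw [h2]
          _ = t * (g * x * g⁻¹) := by rw [← hgf]; group
    exact h1 ⟨t, ⟨D.TS D.tT, mem_centralizer_singleton_iff.2 D.tf⟩, rfl⟩
  set V : Subgroup G := Us.map (MulAut.conj g⁻¹).toMonoidHom with hV
  have hmemV : ∀ x, x ∈ V ↔ g * x * g⁻¹ ∈ Us := by
    intro x
    constructor
    · rintro ⟨u, hu, rfl⟩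
      have : g * ((MulAut.conj g⁻¹).toMonoidHom u) * g⁻¹ = u := by
        show g * (g⁻¹ * u * g⁻¹⁻¹) * g⁻¹ = u
        group
      rw [this]; exact hu
    · intro hx
      exact ⟨_, hx, by show g⁻¹ * (g * x * g⁻¹) * g⁻¹⁻¹ = x; group⟩
  have hVt : ∀ x ∈ V, t * x * t ∈ V := by
    intro x hx
    rw [hmemV] at hx ⊢
    have h1 := D.nS _ (D.TS hgt) _ hx
    have h2 : g * t * g⁻¹ * (g * x * g⁻¹) * (g * t * g⁻¹)⁻¹ = g * (t * x * t) * g⁻¹ := by
      calc g * t * g⁻¹ * (g * x * g⁻¹) * (g * t * g⁻¹)⁻¹ = g * (t * x * t⁻¹) * g⁻¹ := by group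
        _ = _ := by rw [D.tinv]
    rwa [h2] at h1
  have hVM : V ≤ M := by
    intro x hx
    rw [hmemV] at hx
    rw [hmemM]
    intro a ha
    have h1 := D.PQc _ (hPQ a ha) _ hx
    calc x * a = g⁻¹ * (g * x * g⁻¹ * (g * a * g⁻¹)) * g := by group
      _ = g⁻¹ * (g * a * g⁻¹ * (g * x * g⁻¹)) * g := by rw [h1]
      _ = a * x := by group
  set H2 : Subgroup G := adj V t D.tt hVt with hH2
  have hpUs : IsPGroup 2 Us := D.pS.to_le D.UsS
  obtain ⟨l, hl, hlH⟩ := exists_conj_le (L := L) (H1 := H1) (H2 := H2) (adj_two hpUs) (by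
      rintro x (hx | hx)
      · exact Or.inl (hUM hx)
      · exact Or.inr (hUM hx)) (by
      intro R hR hHR hRL
      have htR : t ∈ R := hHR (Or.inr (by rw [D.tt]; exact one_mem _))
      have hUR : Us ≤ R := fun u hu => hHR (Or.inl hu)
      have key := D.le_Us hR hUR htR (by
        intro x hx
        rcases hRL hx with h | h
        · exact Or.inl ((hmemM x).1 h)
        · right
          have h1 := htM _ h
          have h2 : t * (t * x) * t = x * t := by rw [← mul_assoc, D.tt, one_mul]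
          rw [h2] at h1
          exact (hmemM _).1 h1)
      intro x hx
      rcases hRL hx with h | h
      · exact Or.inl (key x hx ((hmemM x).1 h))
      · exact Or.inr (key _ (mul_mem htR hx) ((hmemM _).1 h))) (adj_two (hpUs.map _)) (by
      rintro x (hx | hx)
      · exact Or.inl (hVM hx)
      · exact Or.inr (hVM hx))
  have htM' : t ∉ M := fun h => D.not_cent ((hmemM t).1 h)
  have hH1M : ∀ x ∈ H1, x ∈ M → x ∈ Us := by
    rintro x (hx | hx) hxM
    · exact hx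
    · exfalso
      apply htM'
      have : t = t * x * x⁻¹ := by group
      rw [this]; exact mul_mem (hUM hx) (inv_mem hxM)
  have ht1 : t ∈ H1 := Or.inr (by rw [D.tt]; exact one_mem _)
  obtain ⟨c, hc, hcH⟩ : ∃ c ∈ M, ∀ x ∈ H2, c * x * c⁻¹ ∈ H1 := by
    rcases hl with h | h
    · exact ⟨l, h, hlH⟩
    · refine ⟨t * l, h, fun x hx => ?_⟩
      have : t * l * x * (t * l)⁻¹ = t * (l * x * l⁻¹) * t⁻¹ := by group
      rw [this]
      exact mul_mem (mul_mem ht1 (hlH x hx)) (inv_mem ht1)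
  refine ⟨c, (hmemM c).1 hc, fun u hu => ?_⟩
  have h1 : g⁻¹ * u * g ∈ V := (hmemV _).2 (by
    have : g * (g⁻¹ * u * g) * g⁻¹ = u := by group
    rw [this]; exact hu)
  apply hH1M _ (hcH _ (Or.inl h1))
  exact mul_mem (mul_mem hc (hVM h1)) (inv_mem hc)

omit [Finite G] in
/-- commutators of elements of the second centre -/
theorem comm_z2 {a b z y1 y2 : G} (ha : a ∈ P1) (hb : b ∈ Q1) (hz : z ∈ P ⊔ Q) (hy1 : y1 ∈ P2) (hy2 : y2 ∈ Q2) :
    (a * b * z) * (y1 * y2) * (a * b * z)⁻¹ * (y1 * y2)⁻¹ =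
      (a * y1 * a⁻¹ * y1⁻¹) * (b * y2 * b⁻¹ * y2⁻¹) := by
  have hyU : y1 * y2 ∈ Us := mul_mem (D.P2U hy1) (D.Q2U hy2)
  have h1 : z * (y1 * y2) * z⁻¹ = y1 * y2 := by
    rw [D.PQc z hz _ hyU, mul_inv_cancel_right]
  have h2 := D.coQ b hb y1 hy1
  have h3 := D.coP a ha y2 hy2
  have h4 := D.brQ b hb y2 (D.Q2U hy2)
  set d : G := b * y2 * b⁻¹ * y2⁻¹ with hd
  have h5 : b * y2 * b⁻¹ = d * y2 := by rw [hd]; group
  have h6 := fun u hu => D.Qc d h4 u hu
  calc (a * b * z) * (y1 * y2) * (a * b * z)⁻¹ * (y1 * y2)⁻¹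
      = a * b * (z * (y1 * y2) * z⁻¹) * b⁻¹ * a⁻¹ * (y1 * y2)⁻¹ := by group
    _ = a * (b * y1) * y2 * b⁻¹ * a⁻¹ * (y1 * y2)⁻¹ := by rw [h1]; group
    _ = a * (y1 * b) * y2 * b⁻¹ * a⁻¹ * (y1 * y2)⁻¹ := by rw [h2]
    _ = a * y1 * (b * y2 * b⁻¹) * a⁻¹ * (y1 * y2)⁻¹ := by group
    _ = (a * y1) * d * y2 * a⁻¹ * (y1 * y2)⁻¹ := by rw [h5]; group
    _ = d * (a * y1) * y2 * a⁻¹ * (y1 * y2)⁻¹ := by
        rw [← h6 _ (mul_mem (D.P1U ha) (D.P2U hy1))]
    _ = d * (a * y1) * (y2 * a⁻¹) * (y1 * y2)⁻¹ := by group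
    _ = d * (a * y1) * (a⁻¹ * (a * y2) * a⁻¹) * (y1 * y2)⁻¹ := by group
    _ = d * (a * y1) * (a⁻¹ * (y2 * a) * a⁻¹) * (y1 * y2)⁻¹ := by rw [h3]
    _ = d * (a * y1 * a⁻¹ * y1⁻¹) := by group
    _ = (a * y1 * a⁻¹ * y1⁻¹) * d := h6 _ (mul_mem (mul_mem (mul_mem (D.P1U ha) (D.P2U hy1))
        (inv_mem (D.P1U ha))) (inv_mem (D.P2U hy1)))

/-- **A graph involution is impossible.** -/
theorem false_of_perfect (hG : commutator G = ⊤) : False := by
  obtain ⟨g, hg, hgf⟩ := D.exists_conj_f hG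
  obtain ⟨g', hg'⟩ := D.exists_conj_tf hG
  have hPQ := D.conj_PQ hg hgf hg'
  obtain ⟨c, hc, hcU⟩ := D.exists_norm hg hgf hg'
  -- `g⁻¹` and `g` normalise `P Q`
  have hmap : (P ⊔ Q).map (MulAut.conj g).toMonoidHom = P ⊔ Q := by
    apply eq_of_le_of_card_ge
    · rintro _ ⟨x, hx, rfl⟩
      exact hPQ x hx
    · exact (Nat.card_congr ((P ⊔ Q).equivMapOfInjective _ (MulAut.conj g).injective).toEquiv).le
  have hPQ' : ∀ n ∈ P ⊔ Q, g⁻¹ * n * g ∈ P ⊔ Q := by
    intro n hn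
    rw [← hmap] at hn
    obtain ⟨m, hm, hmn⟩ := hn
    have : g⁻¹ * n * g = m := by
      rw [← hmn]
      show g⁻¹ * (g * m * g⁻¹) * g = m
      group
    rw [this]; exact hm
  -- `c g⁻¹` normalises `Us`
  set n : G := c * g⁻¹ with hn
  have hnU : ∀ u ∈ Us, n * u * n⁻¹ ∈ Us := by
    intro u hu
    have : n * u * n⁻¹ = c * (g⁻¹ * u * g) * c⁻¹ := by rw [hn]; group
    rw [this]; exact hcU u hu
  have hmapU : Us.map (MulAut.conj n).toMonoidHom = Us := by
    apply eq_of_le_of_card_ge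
    · rintro _ ⟨x, hx, rfl⟩
      exact hnU x hx
    · exact (Nat.card_congr (Us.equivMapOfInjective _ (MulAut.conj n).injective).toEquiv).le
  have hnU' : ∀ u ∈ Us, n⁻¹ * u * n ∈ Us := by
    intro u hu
    rw [← hmapU] at hu
    obtain ⟨m, hm, hmn⟩ := hu
    have : n⁻¹ * u * n = m := by
      rw [← hmn]
      show n⁻¹ * (n * m * n⁻¹) * n = m
      group
    rw [this]; exact hm
  have hnP : ∀ a ∈ P ⊔ Q, n * a * n⁻¹ = g⁻¹ * a * g := by
    intro a ha
    have h1 := hc _ (hPQ' a ha)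
    calc n * a * n⁻¹ = c * (g⁻¹ * a * g) * c⁻¹ := by rw [hn]; group
      _ = g⁻¹ * a * g * c * c⁻¹ := by rw [h1]
      _ = g⁻¹ * a * g := by group
  -- `P^g`
  set Pg : Subgroup G := P.map (MulAut.conj g⁻¹).toMonoidHom with hPg
  have hmemPg : ∀ x, x ∈ Pg ↔ ∃ a ∈ P, x = g⁻¹ * a * g := by
    intro x
    constructor
    · rintro ⟨a, ha, rfl⟩
      exact ⟨a, ha, by show g⁻¹ * a * g⁻¹⁻¹ = _; group⟩
    · rintro ⟨a, ha, rfl⟩
      exact ⟨a, ha, by show g⁻¹ * a * g⁻¹⁻¹ = _; group⟩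
  have hcardPg : Nat.card Pg = Nat.card P :=
    (Nat.card_congr (P.equivMapOfInjective _ (MulAut.conj g⁻¹).injective).toEquiv).symm
  obtain ⟨a0, ha01⟩ := (P1.ne_bot_iff_exists_ne_one.1 D.P1n)
  have ha0 : (a0 : G) ∈ P1 := a0.2
  have ha0' : (a0 : G) ≠ 1 := fun h => ha01 (Subtype.ext h)
  set x : G := n * a0 * n⁻¹ with hx
  have hxU : x ∈ Us := hnU _ (D.P1U ha0)
  -- the set of commutators `[x, Us]` is `Pg`
  have hcx : ∀ y ∈ Us, x * y * x⁻¹ * y⁻¹ ∈ Pg := by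
    intro y hy
    rw [hmemPg]
    refine ⟨_, D.brP _ ha0 _ (hnU' y hy), ?_⟩
    rw [← hnP _ (mem_sup_left (D.brP _ ha0 _ (hnU' y hy))), hx]
    group
  have hcx' : ∀ p ∈ Pg, ∃ y ∈ Us, x * y * x⁻¹ * y⁻¹ = p := by
    intro p hp
    obtain ⟨a, ha, rfl⟩ := (hmemPg _).1 hp
    obtain ⟨y, hy, hya⟩ := D.soP _ ha0 ha0' a ha
    refine ⟨n * y * n⁻¹, hnU _ (D.P2U hy), ?_⟩
    rw [← hnP _ (mem_sup_left ha), ← hya, hx]
    group
  have hPgPQ : Pg ≤ P ⊔ Q := by
    intro p hp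
    obtain ⟨a, ha, rfl⟩ := (hmemPg _).1 hp
    exact hPQ' a (mem_sup_left ha)
  obtain ⟨a, ha, b, hb, z, hz, hxe⟩ := D.z2 x hxU fun y hy => hPgPQ (hcx y hy)
  -- `P^g` is `P` or `Q`
  have key : Pg = P ∨ Pg = Q := by
    have hcardQ : Nat.card Q = Nat.card P := by
      apply le_antisymm
      · apply Nat.card_le_card_of_injective (fun b : Q => (⟨f * b * f, D.fQ b b.2⟩ : P))
        intro b b' h
        have h1 := congrArg Subtype.val h
        have h2 : f * (b : G) * f = f * b' * f := h1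
        exact Subtype.ext (mul_left_cancel (mul_right_cancel h2))
      · apply Nat.card_le_card_of_injective (fun b : P => (⟨f * b * f, D.fP b b.2⟩ : Q))
        intro b b' h
        have h1 := congrArg Subtype.val h
        have h2 : f * (b : G) * f = f * b' * f := h1
        exact Subtype.ext (mul_left_cancel (mul_right_cancel h2))
    by_cases ha1 : a = 1
    · by_cases hb1 : b = 1
      · exfalso
        -- `x` is central
        rw [ha1, hb1, mul_one, one_mul] at hxe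
        have h1 : Pg = ⊥ := by
          rw [eq_bot_iff]
          intro p hp
          obtain ⟨y, hy, rfl⟩ := hcx' p hp
          rw [mem_bot, hxe, D.PQc z hz y hy, mul_inv_cancel_right, mul_inv_cancel]
        rw [h1] at hcardPg
        have h2 := D.big
        rw [← hcardPg] at h2
        simp at h2
      · right
        apply eq_of_le_of_card_ge _ (by rw [hcardPg, hcardQ])
        intro p hp
        obtain ⟨y, hy, rfl⟩ := hcx' p hp
        have h1 := D.brQ b hb y hy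
        have h2 : x * y * x⁻¹ * y⁻¹ = b * y * b⁻¹ * y⁻¹ := by
          rw [hxe, ha1, one_mul]
          calc b * z * y * (b * z)⁻¹ * y⁻¹ = b * (z * y) * z⁻¹ * b⁻¹ * y⁻¹ := by group
            _ = b * (y * z) * z⁻¹ * b⁻¹ * y⁻¹ := by rw [D.PQc z hz y hy]
            _ = b * y * b⁻¹ * y⁻¹ := by group
        rw [h2]; exact h1
    · by_cases hb1 : b = 1
      · left
        apply eq_of_le_of_card_ge _ hcardPg.ge
        intro p hp
        obtain ⟨y, hy, rfl⟩ := hcx' p hp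
        have h1 := D.brP a ha y hy
        have h2 : x * y * x⁻¹ * y⁻¹ = a * y * a⁻¹ * y⁻¹ := by
          rw [hxe, hb1, mul_one]
          calc a * z * y * (a * z)⁻¹ * y⁻¹ = a * (z * y) * z⁻¹ * a⁻¹ * y⁻¹ := by group
            _ = a * (y * z) * z⁻¹ * a⁻¹ * y⁻¹ := by rw [D.PQc z hz y hy]
            _ = a * y * a⁻¹ * y⁻¹ := by group
        rw [h2]; exact h1
      · exfalso
        -- all of `P` and `Q` are commutators
        have h1 : P ≤ Pg := by
          intro p hp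
          obtain ⟨y1, hy1, h1⟩ := D.soP a ha ha1 p hp
          have h3 := D.comm_z2 ha hb hz hy1 (one_mem Q2)
          have h4 := hcx _ (mul_mem (D.P2U hy1) (D.Q2U (one_mem Q2)))
          rw [hxe, h3, h1] at h4
          simpa using h4
        have h2 : Q ≤ Pg := by
          intro p hp
          obtain ⟨y1, hy1, h1⟩ := D.soQ b hb hb1 p hp
          have h3 := D.comm_z2 ha hb hz (one_mem P2) hy1
          have h4 := hcx _ (mul_mem (D.P2U (one_mem P2)) (D.Q2U hy1))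
          rw [hxe, h3, h1] at h4
          simpa using h4
        have h3 : P = Pg := eq_of_le_of_card_ge h1 hcardPg.le
        have h4 : Q = Pg := eq_of_le_of_card_ge h2 (by rw [hcardPg, hcardQ])
        have h5 := D.PQ
        rw [← h4] at h3
        rw [h3, inf_idem] at h5
        exact D.Pne (h3.trans h5)
  -- `f` normalises `P^g`
  have hfPg : ∀ p ∈ Pg, f * p * f ∈ Pg := by
    intro p hp
    obtain ⟨a, ha, rfl⟩ := (hmemPg _).1 hp
    rw [hmemPg]
    refine ⟨_, D.tP a ha, ?_⟩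
    rw [← hgf]; group
  have hfin : ∀ p ∈ Pg, p = 1 := by
    intro p hp
    have h1 := hfPg p hp
    rcases key with h | h
    · rw [h] at hp h1
      have h2 : f * p * f ∈ P ⊓ Q := ⟨h1, D.fP p hp⟩
      rw [D.PQ, mem_bot] at h2
      calc p = (f * f) * p * (f * f) := by rw [D.ff]; group
        _ = f * (f * p * f) * f := by group
        _ = 1 := by rw [h2, mul_one, D.ff]
    · rw [h] at hp h1
      have h2 : f * p * f ∈ P ⊓ Q := ⟨D.fQ p hp, h1⟩
      rw [D.PQ, mem_bot] at h2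
      calc p = (f * f) * p * (f * f) := by rw [D.ff]; group
        _ = f * (f * p * f) * f := by group
        _ = 1 := by rw [h2, mul_one, D.ff]
  have h1 : Pg = ⊥ := (eq_bot_iff_forall _).2 hfin
  rw [h1] at hcardPg
  have h2 := D.big
  rw [← hcardPg] at h2
  simp at h2

end g

end GData

end Cfsg.Agent.OddHalf.D7F4.GraphKill
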