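import Cfsg.Agent.KFacts.F4Perf
import Cfsg.Agent.KFacts.RgdFixU
import Cfsg.Agent.KFacts.RgdAutCent
import Cfsg.Agent.OddHalf.D7Out.FrGen
import Cfsg.Agent.OddHalf.D7F4.FusionOut
import Cfsg.Agent.OddHalf.D7F4.Frame

/-!
# `F₄(q)`, `q ≥ 4` even: the facts for the front and the fusion (ODD D7; helper588)

`UK` the Sylow 2-subgroup `⟨X_c : c > 0⟩`, `X1 = X_ρ` (long, `ρ = v 47`), `X2 = X_σ` (short, `σ = v 44`), `ZK = X1 X2`.

* `kf0` : `FrGen.KF0 UK ZK`;
* `LK` : `⟨X_c : ⟨c,ρ⟩, ⟨c,σ⟩ ≥ 0⟩` is perfect (`LK_perfect`), contains `UK`, centralises `ZK`;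
* `Frame.ctx` : a frame gives `FusionOut.Ctx`.
-/

set_option autoImplicit false
set_option Elab.async false
set_option linter.unusedSectionVars false

namespace Cfsg.Agent.OddHalf.D7F4.KFront

open CoxeterSystem Cfsg.Agent.ChevalleyStructure.CoxeterGeom Cfsg.Agent.Tits.Roots Cfsg.Agent.Tits.Core
open Cfsg.Lie Cfsg.Agent.ChevalleyStructure Cfsg.Agent.ChevalleyStructure.Elts
  Cfsg.Agent.ChevalleyStructure.RootVec Cfsg.Agent.ChevalleyStructure.CoxeterGeomTypes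
open Cfsg.Agent.Nodes Cfsg.Agent.Nodes.Reps Cfsg.Agent.Nodes.BNOf Cfsg.Agent.Nodes.RGDChev Cfsg.Agent.Nodes.Coroot
  Cfsg.Agent.Nodes.KindF Cfsg.Agent.Nodes.Bruhat Cfsg.Agent.KFacts.ChevTwo Cfsg.Agent.KFacts.ChevTwoTab
  Cfsg.Agent.KFacts.ChevTwoInst Cfsg.Agent.KFacts.RgdTI
  Cfsg.Agent.KFacts.F4Star Cfsg.Agent.KFacts.F4Cent Cfsg.Agent.KFacts.F4Pair Cfsg.Agent.KFacts.F4Torus
  Cfsg.Agent.KFacts.F4Perf
open scoped commutatorElement

universe u

/-- the Coxeter system -/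
abbrev c4 : CoxeterSystem CoxeterMatrix.F₄ CoxeterMatrix.F₄.Group := CoxeterMatrix.F₄.toCoxeterSystem

instance : Finite CoxeterMatrix.F₄.Group := finite_W isType c4

variable (K : Type u) [Field K]

/-- the Sylow 2-subgroup -/
abbrev UK : Subgroup ↥(chevF4.group K) := RGD.Sup (XF K) (RGD.Pos c4 isType.isCartan)

/-- the long root group in the centre -/
abbrev X1 : Subgroup ↥(chevF4.group K) := XF K (v 47)

/-- the short root group in the centre -/
abbrev X2 : Subgroup ↥(chevF4.group K) := XF K (v 44)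

/-- the centre of `UK` -/
abbrev ZK : Subgroup ↥(chevF4.group K) := X1 K ⊔ X2 K

/-- the roots which are not negative on `ρ` and `σ` -/
def SL : Set (Fin 4 → ℤ) := {x | x ∈ Ge c4 isType.isCartan (v 47) ∧ x ∈ Ge c4 isType.isCartan (v 44)}

/-- the perfect subgroup -/
abbrev LK : Subgroup ↥(chevF4.group K) := RGD.Sup (XF K) SL

variable {K}
variable [Finite K] [CharP K 2]

/-! ### Checks -/

theorem chkPos : ((List.range 48).all fun r => decide (r < 24) || ((nn 47).testBit r && (nn 44).testBit r)) = true := by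
  decide +kernel

theorem chk46 : ((List.range 48).all fun c => decide (c < 24) || decide (c = 24) || (nn c).testBit 46) = true := by
  decide +kernel

theorem chk40 : ((List.range 48).all fun c => decide (c < 24) || decide (c = 33) || (nn c).testBit 40) = true := by
  decide +kernel

/-- the mask of `SL` -/
def SM : ℕ := Nat.land (nn 47) (nn 44)

/-- some `b`, `-b` in `SL` is not orthogonal to `c` -/
def tor (c : ℕ) : Bool := (List.range 48).any fun b => SM.testBit b && SM.testBit (47 - b) && !decide (carB chevF4 b c = 0)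

/-- `c = b + d`, same length, `b, d` in `SL` -/
def o1 (c : ℕ) : Bool := (decs.getD c []).any fun q =>
  SM.testBit q.1 && SM.testBit q.2 && decide (carB chevF4 q.1 q.2 = -1) && decide (carB chevF4 q.2 q.1 = -1) &&
    lin 1 c 1 q.1 1 q.2

/-- `c = b + d`, `⟨b,d⟩ = -2`, `⟨d,b⟩ = -1`, `tor (b + 2 d)` -/
def o2 (c : ℕ) : Bool := (decs.getD c []).any fun q =>
  SM.testBit q.1 && SM.testBit q.2 && lin 1 c 1 q.1 1 q.2 &&
    ((decide (carB chevF4 q.2 q.1 = -2) && decide (carB chevF4 q.1 q.2 = -1) &&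
        (List.range 48).any fun f => lin 1 f 1 q.1 2 q.2 && SM.testBit f && tor f) ||
     (decide (carB chevF4 q.1 q.2 = -2) && decide (carB chevF4 q.2 q.1 = -1) &&
        (List.range 48).any fun f => lin 1 f 1 q.2 2 q.1 && SM.testBit f && tor f))

/-- `c = b + 2 d`, `⟨b,d⟩ = -2`, `⟨d,b⟩ = -1`, `tor (b + d)` -/
def o3 (c : ℕ) : Bool := (List.range 48).any fun f => SM.testBit f && tor f && (decs.getD f []).any fun q =>
  SM.testBit q.1 && SM.testBit q.2 && lin 1 f 1 q.1 1 q.2 &&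
    ((decide (carB chevF4 q.2 q.1 = -2) && decide (carB chevF4 q.1 q.2 = -1) && lin 1 c 1 q.1 2 q.2) ||
     (decide (carB chevF4 q.1 q.2 = -2) && decide (carB chevF4 q.2 q.1 = -1) && lin 1 c 1 q.2 2 q.1))

theorem chkL : ((List.range 48).all fun c => !(SM.testBit c) || tor c || o1 c || o2 c || o3 c) = true := by
  decide +kernel

/-- every non-simple positive root is `b + d` (same length) or comes from a pair of positive roots with
`⟨b,d⟩ = -2` -/
def p1 (c : ℕ) : Bool := (decs.getD c []).any fun q =>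
  decide (24 ≤ q.1) && decide (24 ≤ q.2) && decide (carB chevF4 q.1 q.2 = -1) && decide (carB chevF4 q.2 q.1 = -1) &&
    lin 1 c 1 q.1 1 q.2

def p2 (c : ℕ) : Bool := (List.range 48).any fun b => (List.range 48).any fun d =>
  decide (24 ≤ b) && decide (24 ≤ d) && decide (carB chevF4 d b = -2) && decide (carB chevF4 b d = -1) &&
    ((List.range 48).any fun f => lin 1 c 1 b 1 d && lin 1 f 1 b 2 d || lin 1 c 1 b 2 d && lin 1 f 1 b 1 d)

theorem chkN : ((List.range 48).all fun c => !(nsM.testBit c) || p1 c || p2 c) = true := by decide +kernel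

theorem chk4724 : (lin 1 47 1 46 1 24 && decide (carB chevF4 46 24 = -1) && decide (carB chevF4 24 46 = -1) &&
    lin 1 44 1 40 1 33 && decide (carB chevF4 40 33 = -1) && decide (carB chevF4 33 40 = -1) &&
    (nn 46).testBit 40 && (nn 33).testBit 46 && (nn 24).testBit 40) = true := by decide +kernel

/-! ### Elementary consequences -/

theorem dat : Data c4 isType.isCartan (eF K) := (sysF (K := K) c4).data

theorem rv {r : ℕ} (hr : r < 48) : IsRoot c4 isType.isCartan (v r) := isRoot_v c4 hr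

theorem mem_XF {x : Fin 4 → ℤ} (hx : IsRoot c4 isType.isCartan x) {g : ↥(chevF4.group K)} :
    g ∈ XF K x ↔ ∃ t, eF K x t = g := mem_XF_iff c4 hx

theorem e_mem_X {x : Fin 4 → ℤ} (hx : IsRoot c4 isType.isCartan x) (t : K) : eF K x t ∈ XF K x :=
  (mem_XF hx).2 ⟨t, rfl⟩

theorem e_mem_U {r : ℕ} (hr : r < 48) (h : 24 ≤ r) (t : K) : eF K (v r) t ∈ UK K :=
  RGD.le_Sup ((mem_pos_iff c4 hr).2 h) (e_mem_X (rv hr) t)

theorem X_le_U {r : ℕ} (hr : r < 48) (h : 24 ≤ r) : XF K (v r) ≤ UK K :=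
  RGD.le_Sup ((mem_pos_iff c4 hr).2 h)

theorem X1_le_U : X1 K ≤ UK K := X_le_U (by norm_num) (by norm_num)

theorem X2_le_U : X2 K ≤ UK K := X_le_U (by norm_num) (by norm_num)

theorem pos_SL : RGD.Pos c4 isType.isCartan ⊆ SL := by
  intro x hx
  obtain ⟨r, hr, rfl⟩ := exists_v c4 hx.1
  have h1 := (mem_pos_iff c4 hr).1 hx
  have h2 := List.all_eq_true.1 chkPos r (List.mem_range.2 hr)
  rw [Bool.or_eq_true, decide_eq_true_eq, Bool.and_eq_true] at h2
  have h3 := h2.resolve_left (by omega)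
  exact ⟨(mem_Ge_v c4 (by norm_num) hr).2 h3.1, (mem_Ge_v c4 (by norm_num) hr).2 h3.2⟩

theorem U_le_L : UK K ≤ LK K := RGD.Sup_mono pos_SL

theorem L_comm1 {u z : ↥(chevF4.group K)} (hu : u ∈ LK K) (hz : z ∈ X1 K) : u * z = z * u :=
  ((sysF (K := K) c4).lr (rv (by norm_num))).comm' (RGD.Sup_mono (fun _ hx => hx.1) hu) hz

theorem L_comm2 {u z : ↥(chevF4.group K)} (hu : u ∈ LK K) (hz : z ∈ X2 K) : u * z = z * u :=
  ((sysF (K := K) c4).lr (rv (by norm_num))).comm' (RGD.Sup_mono (fun _ hx => hx.2) hu) hz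

theorem mem_ZK {z : ↥(chevF4.group K)} : z ∈ ZK K ↔ ∃ a ∈ X1 K, ∃ b ∈ X2 K, z = a * b :=
  KFacts.RgdAutCent.mem_sup_comm (fun _ ha _ hb => L_comm2 (U_le_L (X1_le_U ha)) hb)

theorem L_commZ {u z : ↥(chevF4.group K)} (hu : u ∈ LK K) (hz : z ∈ ZK K) : u * z = z * u := by
  obtain ⟨a, ha, b, hb, rfl⟩ := mem_ZK.1 hz
  have h1 : Commute u a := L_comm1 hu ha
  have h2 : Commute u b := L_comm2 hu hb
  exact h1.mul_right h2

theorem sq_X {r : ℕ} (hr : r < 48) {x : ↥(chevF4.group K)} (hx : x ∈ XF K (v r)) : x * x = 1 := by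
  obtain ⟨t, rfl⟩ := (mem_XF (rv hr)).1 hx
  exact (dat (K := K)).sq (rv hr) t

theorem Zsq {z : ↥(chevF4.group K)} (hz : z ∈ ZK K) : z * z = 1 := by
  obtain ⟨a, ha, b, hb, rfl⟩ := mem_ZK.1 hz
  have h1 : a * b = b * a := L_comm2 (U_le_L (X1_le_U ha)) hb
  calc a * b * (a * b) = a * (b * a) * b := by group
    _ = (a * a) * (b * b) := by rw [← h1]; group
    _ = 1 := by rw [sq_X (by norm_num) ha, sq_X (by norm_num) hb, one_mul]

theorem mem_Z_of_Sup {z : ↥(chevF4.group K)} (hz : z ∈ RGD.Sup (XF K) {v 47, v 44}) : z ∈ ZK K := by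
  refine (RGD.Sup_le ?_ : RGD.Sup (XF K) {v 47, v 44} ≤ ZK K) hz
  rintro x (rfl | rfl)
  · exact le_sup_left
  · exact le_sup_right

/-- `C_K(U) = Z` -/
theorem mem_Z_of_comm {z : ↥(chevF4.group K)} (hz : ∀ u ∈ UK K, z * u = u * z) : z ∈ ZK K := by
  refine mem_Z_of_Sup (cent_pos c4 fun c hc => ?_)
  refine ⟨eF K c 1, e_mem_X hc.1 1, (dat (K := K)).ne_one hc.1 one_ne_zero, hz _ ?_⟩
  exact RGD.le_Sup hc (e_mem_X hc.1 1)

/-! ### `LK` is perfect -/

theorem mem_SL {r : ℕ} (hr : r < 48) : v r ∈ SL ↔ SM.testBit r = true := by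
  have e : SM = nn 47 &&& nn 44 := rfl
  rw [e, Nat.testBit_and, Bool.and_eq_true, ← mem_Ge_v c4 (by norm_num) hr, ← mem_Ge_v c4 (by norm_num) hr]
  rfl

theorem e_mem_L {x : Fin 4 → ℤ} (hx : x ∈ SL) (t : K) : eF K x t ∈ LK K := RGD.le_Sup hx (e_mem_X hx.1.1 t)

theorem lt_of_testBit {b : ℕ} (h : SM.testBit b = true) : b < 48 := by
  by_contra h0
  have h1 : SM < 2 ^ 48 := by decide +kernel
  have h2 : SM < 2 ^ b := lt_of_lt_of_le h1 (Nat.pow_le_pow_right (by norm_num) (by omega))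
  rw [Nat.testBit_lt_two_pow h2] at h
  exact absurd h (by decide)

theorem exists_zpow_ne (hK : 2 < Nat.card K) : ∃ c : K, c ≠ 0 ∧ ∀ k : ℤ, k ≠ 0 → -2 ≤ k → k ≤ 2 → c ^ k ≠ 1 := by
  classical
  have : Fintype K := Fintype.ofFinite K
  obtain ⟨c, hc⟩ : ∃ c : K, c ∉ ({0, 1} : Finset K) := by
    by_contra hcon
    push Not at hcon
    have h1 : (Finset.univ : Finset K) ⊆ {0, 1} := fun x _ => hcon x
    have h2 := Finset.card_le_card h1
    rw [Finset.card_univ, ← Nat.card_eq_fintype_card] at h2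
    have h3 : ({0, 1} : Finset K).card ≤ 2 := Finset.card_le_two
    omega
  rw [Finset.mem_insert, Finset.mem_singleton, not_or] at hc
  have h2 : c ^ 2 ≠ 1 := by
    intro h
    apply hc.2
    have h3 : (c - 1) ^ 2 = 0 := by
      have : (c - 1) ^ 2 = c ^ 2 - 1 := by
        have h4 : (2 : K) = 0 := CharTwo.two_eq_zero
        linear_combination (1 - c) * h4
      rw [this, h, sub_self]
    exact sub_eq_zero.1 (pow_eq_zero_iff (two_ne_zero)|>.1 h3)
  refine ⟨c, hc.1, fun k hk h1 h3 => ?_⟩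
  have : k = -2 ∨ k = -1 ∨ k = 1 ∨ k = 2 := by omega
  rcases this with rfl | rfl | rfl | rfl
  · intro h
    rw [zpow_neg, inv_eq_one] at h
    exact h2 (by exact_mod_cast h)
  · intro h
    rw [zpow_neg, inv_eq_one, zpow_one] at h
    exact hc.2 h
  · rw [zpow_one]; exact hc.2
  · intro h
    exact h2 (by exact_mod_cast h)

/-- **`LK` is perfect.** -/
theorem LK_perfect (hK : 2 < Nat.card K) : ⁅LK K, LK K⁆ = LK K := by
  have D := dat (K := K)
  refine le_antisymm (Subgroup.commutator_le_self _) (RGD.Sup_le fun c hc => ?_)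
  have key : ∀ b d, b ∈ SL → d ∈ SL → ∀ t u : K, ⁅eF K b t, eF K d u⁆ ∈ ⁅LK K, LK K⁆ := fun b d hb hd t u =>
    Subgroup.commutator_mem_commutator (e_mem_L hb t) (e_mem_L hd u)
  obtain ⟨l, hl, hl2⟩ := exists_zpow_ne hK
  -- torus
  have ht : ∀ c < 48, SM.testBit c = true → tor c = true → ∀ t : K, eF K (v c) t ∈ ⁅LK K, LK K⁆ := by
    intro c hc hcS h t
    obtain ⟨b, hb, h1⟩ := List.any_eq_true.1 h
    rw [List.mem_range] at hb
    simp only [Bool.and_eq_true, Bool.not_eq_true', decide_eq_false_iff_not] at h1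
    obtain ⟨⟨h1, h2⟩, h3⟩ := h1
    have h4 : cpr c4 isType.isCartan (v c) (v b) ≠ 0 := by rw [cpr_v c4 hb hc]; exact h3
    have hbS := (mem_SL hb).2 h1
    have hbS' : -v b ∈ SL := by
      rw [← v_neg hb]
      exact (mem_SL (by omega)).2 h2
    have hcS' := (mem_SL hc).2 hcS
    set k := cpr c4 isType.isCartan (v c) (v b) with hk
    have hk2 : -2 ≤ k ∧ k ≤ 2 := by
      obtain ⟨h5, h6⟩ := cpr_abs_le c4 (rv hc) (rv hb)
      omega
    have h5 := hl2 k h4 hk2.1 hk2.2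
    have h6 : l ^ k - 1 ≠ 0 := sub_ne_zero.2 h5
    set t' : K := t * (l ^ k - 1)⁻¹ with ht'
    have h7 := D.hel_conj (rv hc) (rv hb) hl t'
    have h8 : ⁅hel (eF K) (v b) l, eF K (v c) t'⁆ = eF K (v c) t := by
      rw [commutatorElement_def, h7, D.inv (rv hc), ← D.add _ (rv hc), ht']
      congr 1
      have h9 : (2 : K) = 0 := CharTwo.two_eq_zero
      rw [← hk]
      have h10 : l ^ k * (t * (l ^ k - 1)⁻¹) + t * (l ^ k - 1)⁻¹ =
          t * ((l ^ k - 1)⁻¹ * (l ^ k - 1)) + 2 * (t * (l ^ k - 1)⁻¹) := by ring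
      rw [h10, h9, inv_mul_cancel₀ h6, mul_one, zero_mul, add_zero]
    rw [← h8]
    exact Subgroup.commutator_mem_commutator (hel_mem_of c4 (rv hb) hbS hbS' l) (e_mem_L hcS' t')
  intro z hz
  obtain ⟨t, rfl⟩ := (mem_XF hc.1.1).1 hz
  obtain ⟨r, hr, rfl⟩ := exists_v c4 hc.1.1
  have hrS := (mem_SL hr).1 hc
  have h1 := List.all_eq_true.1 chkL r (List.mem_range.2 hr)
  rw [hrS, Bool.not_true, Bool.false_or, Bool.or_eq_true, Bool.or_eq_true, Bool.or_eq_true] at h1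
  rcases h1 with ((h1 | h1) | h1) | h1
  · exact ht r hr hrS h1 t
  · obtain ⟨q, hq, h1⟩ := List.any_eq_true.1 h1
    simp only [Bool.and_eq_true, decide_eq_true_eq] at h1
    obtain ⟨⟨⟨⟨h1, h2⟩, h3⟩, h4⟩, h5⟩ := h1
    have l1 := lt_of_testBit h1
    have l2 := lt_of_testBit h2
    have h6 := key _ _ ((mem_SL l1).2 h1) ((mem_SL l2).2 h2) t 1
    rwa [D.comm1 _ _ (rv l1) (rv l2) (by rw [cpr_v c4 l2 l1]; exact h4) (by rw [cpr_v c4 l1 l2]; exact h3), mul_one,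
      ← lin_one h5] at h6
  · obtain ⟨q, hq, h1⟩ := List.any_eq_true.1 h1
    simp only [Bool.and_eq_true, Bool.or_eq_true, decide_eq_true_eq] at h1
    obtain ⟨⟨⟨h1, h2⟩, h3⟩, h4⟩ := h1
    have l1 := lt_of_testBit h1
    have l2 := lt_of_testBit h2
    rcases h4 with ⟨⟨h5, h6⟩, h7⟩ | ⟨⟨h5, h6⟩, h7⟩
    · obtain ⟨f, hf, h8⟩ := List.any_eq_true.1 h7
      simp only [Bool.and_eq_true] at h8
      rw [List.mem_range] at hf
      have h9 := key _ _ ((mem_SL l1).2 h1) ((mem_SL l2).2 h2) t 1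
      rw [D.comm2 _ _ (rv l1) (rv l2) (by rw [cpr_v c4 l2 l1]; exact h5) (by rw [cpr_v c4 l1 l2]; exact h6), mul_one,
        ← lin_one h3, ← lin_two h8.1.1] at h9
      exact (Subgroup.mul_mem_cancel_right _ (ht f hf h8.1.2 h8.2 _)).1 h9
    · obtain ⟨f, hf, h8⟩ := List.any_eq_true.1 h7
      simp only [Bool.and_eq_true] at h8
      rw [List.mem_range] at hf
      have h9 := key _ _ ((mem_SL l2).2 h2) ((mem_SL l1).2 h1) t 1
      rw [D.comm2 _ _ (rv l2) (rv l1) (by rw [cpr_v c4 l1 l2]; exact h5) (by rw [cpr_v c4 l2 l1]; exact h6), mul_one,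
        add_comm (v q.2) (v q.1), ← lin_one h3, ← lin_two h8.1.1] at h9
      exact (Subgroup.mul_mem_cancel_right _ (ht f hf h8.1.2 h8.2 _)).1 h9
  · obtain ⟨f, hf, h1⟩ := List.any_eq_true.1 h1
    rw [List.mem_range] at hf
    simp only [Bool.and_eq_true] at h1
    obtain ⟨⟨h0, h0'⟩, h1⟩ := h1
    obtain ⟨q, hq, h1⟩ := List.any_eq_true.1 h1
    simp only [Bool.and_eq_true, Bool.or_eq_true, decide_eq_true_eq] at h1
    obtain ⟨⟨⟨h1, h2⟩, h3⟩, h4⟩ := h1
    have l1 := lt_of_testBit h1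
    have l2 := lt_of_testBit h2
    rcases h4 with ⟨⟨h5, h6⟩, h7⟩ | ⟨⟨h5, h6⟩, h7⟩
    · have h9 := key _ _ ((mem_SL l1).2 h1) ((mem_SL l2).2 h2) t 1
      rw [D.comm2 _ _ (rv l1) (rv l2) (by rw [cpr_v c4 l2 l1]; exact h5) (by rw [cpr_v c4 l1 l2]; exact h6), mul_one,
        one_pow, mul_one, ← lin_one h3, ← lin_two h7] at h9
      exact (Subgroup.mul_mem_cancel_left _ (ht f hf h0 h0' _)).1 h9
    · have h9 := key _ _ ((mem_SL l2).2 h2) ((mem_SL l1).2 h1) t 1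
      rw [D.comm2 _ _ (rv l2) (rv l1) (by rw [cpr_v c4 l1 l2]; exact h5) (by rw [cpr_v c4 l2 l1]; exact h6), mul_one,
        one_pow, mul_one, add_comm (v q.2) (v q.1), ← lin_one h3, ← lin_two h7] at h9
      exact (Subgroup.mul_mem_cancel_left _ (ht f hf h0 h0' _)).1 h9

/-! ### The front -/

theorem simple_comm (i : Fin 4) : ∀ a ∈ XF K (sr i), ∀ b ∈ XF K (sr i), a * b = b * a := by
  intro a ha b hb
  obtain ⟨t, rfl⟩ := (mem_XF (isRoot_sr c4 _ i)).1 ha
  obtain ⟨u, rfl⟩ := (mem_XF (isRoot_sr c4 _ i)).1 hb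
  exact (dat (K := K)).comm_same (isRoot_sr c4 _ i) t u

/-- **The facts of the front.** -/
theorem kf0 (hK : 2 < Nat.card K) : D7Out.FrGen.KF0 (UK K) (ZK K) where
  pU := RGD.isPGroup_Upos (rgd (K := K) isType c4 2)
  maxU := by
    intro P hP hU
    have : Fact (Nat.Prime 2) := ⟨Nat.prime_two⟩
    have h1 := NormalForm.eq_U_of_isPGroup (rgd (K := K) isType c4 2) hP hU (by
      have h2 : GG c4 isType.isCartan (TF K) (XF K) = ⊤ := by
        rw [eq_top_iff]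
        have h3 : RGDLib.G1 c4 isType.isCartan (XF K) ≤ GG c4 isType.isCartan (TF K) (XF K) :=
          RGD.Sup_le fun x hx => X_le_GG hx
        rwa [show RGDLib.G1 c4 isType.isCartan (XF K) = ⊤ from G1_eq_top isType c4] at h3
      rw [h2]; exact le_top)
    exact h1.le
  ZU := sup_le X1_le_U X2_le_U
  Zc := fun z hz u hu => L_commZ (U_le_L hu) hz
  Zsq := fun z hz => Zsq hz
  Z1 := by
    intro h
    have h1 : eF K (v 47) 1 ∈ ZK K := Subgroup.mem_sup_left (e_mem_X (rv (by norm_num)) 1)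
    rw [h, Subgroup.mem_bot] at h1
    exact (dat (K := K)).ne_one (rv (by norm_num)) one_ne_zero h1
  aut := by
    rintro α - hα
    obtain ⟨z, hz, hzU, rfl⟩ := KFacts.RgdFixU.eq_conj_of_fix_U (rgd (K := K) isType c4 2)
      (G1_eq_top isType c4) simple_comm hα
    exact ⟨z, mem_Z_of_comm hzU, fun x => rfl⟩
  P2' := fun z hz => ⟨LK K, LK_perfect hK, U_le_L (sup_le X1_le_U X2_le_U hz), fun y hy => L_commZ hy hz⟩

/-! ### The second centre -/

theorem comm_mul {g u w : ↥(chevF4.group K)} {Z' : Subgroup ↥(chevF4.group K)} (hZ : Z' ≤ ZK K) (hu : u ∈ UK K)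
    (hw : ⁅g, w⁆ ∈ Z') : ⁅g, u * w⁆ = ⁅g, u⁆ * ⁅g, w⁆ := by
  have h1 : u * ⁅g, w⁆ = ⁅g, w⁆ * u := L_commZ (U_le_L hu) (hZ hw)
  calc ⁅g, u * w⁆ = ⁅g, u⁆ * (u * ⁅g, w⁆ * u⁻¹) := by
        rw [commutatorElement_def, commutatorElement_def, commutatorElement_def]; group
    _ = ⁅g, u⁆ * ⁅g, w⁆ := by rw [h1, mul_inv_cancel_right]

theorem comm_mem_of_gen {g : ↥(chevF4.group K)} {Z' : Subgroup ↥(chevF4.group K)} (hZ : Z' ≤ ZK K)
    (hg : ∀ r < 48, 24 ≤ r → ∀ t : K, ⁅g, eF K (v r) t⁆ ∈ Z') : ∀ u ∈ UK K, ⁅g, u⁆ ∈ Z' := by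
  let S : Subgroup ↥(chevF4.group K) :=
    { carrier := {u | u ∈ UK K ∧ ⁅g, u⁆ ∈ Z'}
      one_mem' := ⟨one_mem _, by rw [commutatorElement_one_right]; exact one_mem _⟩
      mul_mem' := by
        rintro a b ⟨ha, ha'⟩ ⟨hb, hb'⟩
        exact ⟨mul_mem ha hb, by rw [comm_mul hZ ha hb']; exact mul_mem ha' hb'⟩
      inv_mem' := by
        rintro a ⟨ha, ha'⟩
        refine ⟨inv_mem ha, ?_⟩
        have h1 : a * ⁅g, a⁆ = ⁅g, a⁆ * a := L_commZ (U_le_L ha) (hZ ha')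
        have h2 : ⁅g, a⁻¹⁆ = ⁅g, a⁆⁻¹ := by
          have h3 : ⁅g, a⁻¹⁆ = (a⁻¹ * ⁅g, a⁆ * a)⁻¹ := by
            rw [commutatorElement_def, commutatorElement_def]; group
          have h4 : a⁻¹ * ⁅g, a⁆ * a = ⁅g, a⁆ := by rw [mul_assoc, ← h1, inv_mul_cancel_left]
          rw [h3, h4]
        rw [h2]; exact inv_mem ha' }
  have h1 : UK K ≤ S := by
    refine RGD.Sup_le fun x hx y hy => ?_
    obtain ⟨t, rfl⟩ := (mem_XF hx.1).1 hy
    obtain ⟨r, hr, rfl⟩ := exists_v c4 hx.1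
    have h2 := (mem_pos_iff c4 hr).1 hx
    exact ⟨e_mem_U hr h2 t, hg r hr h2 t⟩
  exact fun u hu => (h1 hu).2

theorem chk_facts : v 47 = v 46 + v 24 ∧ cpr c4 isType.isCartan (v 24) (v 46) = -1 ∧
    cpr c4 isType.isCartan (v 46) (v 24) = -1 ∧ v 44 = v 40 + v 33 ∧ cpr c4 isType.isCartan (v 33) (v 40) = -1 ∧
    cpr c4 isType.isCartan (v 40) (v 33) = -1 ∧ 0 ≤ cpr c4 isType.isCartan (v 40) (v 46) ∧
    0 ≤ cpr c4 isType.isCartan (v 46) (v 33) ∧ 0 ≤ cpr c4 isType.isCartan (v 40) (v 24) := by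
  have h := chk4724
  simp only [Bool.and_eq_true, decide_eq_true_eq] at h
  obtain ⟨⟨⟨⟨⟨⟨⟨⟨h1, h2⟩, h3⟩, h4⟩, h5⟩, h6⟩, h7⟩, h8⟩, h9⟩ := h
  refine ⟨lin_one h1, ?_, ?_, lin_one h4, ?_, ?_, ?_, ?_, ?_⟩
  · rw [cpr_v c4 (by norm_num) (by norm_num)]; exact h2
  · rw [cpr_v c4 (by norm_num) (by norm_num)]; exact h3
  · rw [cpr_v c4 (by norm_num) (by norm_num)]; exact h5
  · rw [cpr_v c4 (by norm_num) (by norm_num)]; exact h6
  · exact (testBit_nn c4 (by norm_num) (by norm_num)).1 h7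
  · exact (testBit_nn c4 (by norm_num) (by norm_num)).1 h8
  · exact (testBit_nn c4 (by norm_num) (by norm_num)).1 h9

theorem c46_24 (a t : K) : ⁅eF K (v 46) a, eF K (v 24) t⁆ = eF K (v 47) (a * t) := by
  obtain ⟨h1, h2, h3, -⟩ := chk_facts
  rw [(dat (K := K)).comm1 _ _ (rv (by norm_num)) (rv (by norm_num)) h3 h2, ← h1]

theorem c40_33 (a t : K) : ⁅eF K (v 40) a, eF K (v 33) t⁆ = eF K (v 44) (a * t) := by
  obtain ⟨-, -, -, h1, h2, h3, -⟩ := chk_facts
  rw [(dat (K := K)).comm1 _ _ (rv (by norm_num)) (rv (by norm_num)) h3 h2, ← h1]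

theorem comm_one {r s : ℕ} (hr : r < 48) (hs : s < 48) (h : 0 ≤ cpr c4 isType.isCartan (v r) (v s)) (a t : K) :
    ⁅eF K (v r) a, eF K (v s) t⁆ = 1 := by
  rw [commutatorElement_eq_one_iff_mul_comm]
  exact (dat (K := K)).comm_of_nonneg (rv hr) (rv hs) h a t

theorem comm46 (a : K) : ∀ u ∈ UK K, ⁅eF K (v 46) a, u⁆ ∈ X1 K := by
  refine comm_mem_of_gen le_sup_left fun r hr h24 t => ?_
  by_cases h : r = 24
  · subst h
    rw [c46_24]; exact e_mem_X (rv (by norm_num)) _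
  · have h1 := List.all_eq_true.1 chk46 r (List.mem_range.2 hr)
    rw [Bool.or_eq_true, Bool.or_eq_true, decide_eq_true_eq, decide_eq_true_eq] at h1
    have h2 : (nn r).testBit 46 = true := by
      rcases h1 with (h1 | h1) | h1
      · omega
      · exact absurd h1 h
      · exact h1
    rw [comm_one (by norm_num) hr ((testBit_nn c4 hr (by norm_num)).1 h2)]; exact one_mem _

theorem comm40 (a : K) : ∀ u ∈ UK K, ⁅eF K (v 40) a, u⁆ ∈ X2 K := by
  refine comm_mem_of_gen le_sup_right fun r hr h24 t => ?_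
  by_cases h : r = 33
  · subst h
    rw [c40_33]; exact e_mem_X (rv (by norm_num)) _
  · have h1 := List.all_eq_true.1 chk40 r (List.mem_range.2 hr)
    rw [Bool.or_eq_true, Bool.or_eq_true, decide_eq_true_eq, decide_eq_true_eq] at h1
    have h2 : (nn r).testBit 40 = true := by
      rcases h1 with (h1 | h1) | h1
      · omega
      · exact absurd h1 h
      · exact h1
    rw [comm_one (by norm_num) hr ((testBit_nn c4 hr (by norm_num)).1 h2)]; exact one_mem _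

theorem X1_le_der : X1 K ≤ ⁅UK K, UK K⁆ := by
  intro z hz
  obtain ⟨t, rfl⟩ := (mem_XF (rv (by norm_num))).1 hz
  have h1 := Subgroup.commutator_mem_commutator (e_mem_U (K := K) (r := 46) (by norm_num) (by norm_num) t)
    (e_mem_U (K := K) (r := 24) (by norm_num) (by norm_num) 1)
  rwa [c46_24, mul_one] at h1

theorem X2_le_der : X2 K ≤ ⁅UK K, UK K⁆ := by
  intro z hz
  obtain ⟨t, rfl⟩ := (mem_XF (rv (by norm_num))).1 hz
  have h1 := Subgroup.commutator_mem_commutator (e_mem_U (K := K) (r := 40) (by norm_num) (by norm_num) t)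
    (e_mem_U (K := K) (r := 33) (by norm_num) (by norm_num) 1)
  rwa [c40_33, mul_one] at h1

/-- a nontrivial element of every non-simple positive root group in `U'` -/
theorem exists_der (hK : 2 < Nat.card K) {r : ℕ} (hr : r < 48) (hns : nsM.testBit r = true) :
    ∃ z ∈ XF K (v r), z ≠ 1 ∧ z ∈ ⁅UK K, UK K⁆ := by
  have D := dat (K := K)
  obtain ⟨l, hl, hl2⟩ := exists_zpow_ne hK
  have hl1 : l ≠ 1 := by
    have := hl2 1 one_ne_zero (by norm_num) (by norm_num)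
    rwa [zpow_one] at this
  have key : ∀ b d, b < 48 → d < 48 → 24 ≤ b → 24 ≤ d → ∀ t u : K, ⁅eF K (v b) t, eF K (v d) u⁆ ∈ ⁅UK K, UK K⁆ :=
    fun b d hb hd hb' hd' t u => Subgroup.commutator_mem_commutator (e_mem_U hb hb' t) (e_mem_U hd hd' u)
  have h1 := List.all_eq_true.1 chkN r (List.mem_range.2 hr)
  rw [hns, Bool.not_true, Bool.false_or, Bool.or_eq_true] at h1
  rcases h1 with h1 | h1
  · obtain ⟨q, hq, h1⟩ := List.any_eq_true.1 h1
    obtain ⟨l1, l2⟩ := decs_lt hr hq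
    simp only [Bool.and_eq_true, decide_eq_true_eq] at h1
    obtain ⟨⟨⟨⟨h1, h2⟩, h3⟩, h4⟩, h5⟩ := h1
    refine ⟨eF K (v r) 1, e_mem_X (rv hr) 1, D.ne_one (rv hr) one_ne_zero, ?_⟩
    have h6 := key _ _ l1 l2 h1 h2 1 1
    rwa [D.comm1 _ _ (rv l1) (rv l2) (by rw [cpr_v c4 l2 l1]; exact h4) (by rw [cpr_v c4 l1 l2]; exact h3), mul_one,
      ← lin_one h5] at h6
  · obtain ⟨b, hb, h1⟩ := List.any_eq_true.1 h1
    obtain ⟨d, hd, h1⟩ := List.any_eq_true.1 h1
    rw [List.mem_range] at hb hd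
    simp only [Bool.and_eq_true, decide_eq_true_eq] at h1
    obtain ⟨⟨⟨⟨h1, h2⟩, h3⟩, h4⟩, h5⟩ := h1
    obtain ⟨f, hf, h5⟩ := List.any_eq_true.1 h5
    rw [List.mem_range] at hf
    rw [Bool.or_eq_true, Bool.and_eq_true, Bool.and_eq_true] at h5
    have hc2 : ∀ t u : K, ⁅eF K (v b) t, eF K (v d) u⁆ =
        eF K (v b + v d) (t * u) * eF K (v b + (2 : ℤ) • v d) (t * u ^ 2) := fun t u =>
      D.comm2 _ _ (rv hb) (rv hd) (by rw [cpr_v c4 hd hb]; exact h3) (by rw [cpr_v c4 hb hd]; exact h4) t u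
    have hne : ∀ m : K, m ≠ 1 → (1 : K) + m ≠ 0 := by
      intro m hm h
      apply hm
      have h9 : (2 : K) = 0 := CharTwo.two_eq_zero
      linear_combination h - h9
    rcases h5 with ⟨h5, h6⟩ | ⟨h5, h6⟩
    · rw [lin_one h5]
      have hbd : IsRoot c4 isType.isCartan (v b + v d) := by rw [← lin_one h5]; exact rv hr
      have hbd2 : IsRoot c4 isType.isCartan (v b + (2 : ℤ) • v d) := by rw [← lin_two h6]; exact rv hf
      refine ⟨eF K (v b + v d) (1 + l⁻¹), e_mem_X hbd _, D.ne_one hbd (hne _ (fun h => hl1 (inv_eq_one.1 h))), ?_⟩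
      have h7 := mul_mem (key b d hb hd h1 h2 1 1) (inv_mem (key b d hb hd h1 h2 ((l ^ 2)⁻¹) l))
      rw [hc2, hc2] at h7
      have e1 : (l ^ 2)⁻¹ * l = l⁻¹ := by field_simp
      have e2 : (l ^ 2)⁻¹ * l ^ 2 = 1 := inv_mul_cancel₀ (pow_ne_zero 2 hl)
      rw [e1, e2, one_pow, mul_one, mul_inv_rev, D.inv hbd2, D.inv hbd] at h7
      have e3 : eF K (v b + v d) 1 * eF K (v b + (2 : ℤ) • v d) 1 * (eF K (v b + (2 : ℤ) • v d) 1 *
          eF K (v b + v d) l⁻¹) = eF K (v b + v d) (1 + l⁻¹) := by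
        rw [D.add _ hbd]
        calc _ = eF K (v b + v d) 1 * (eF K (v b + (2 : ℤ) • v d) 1 * eF K (v b + (2 : ℤ) • v d) 1) *
              eF K (v b + v d) l⁻¹ := by group
          _ = _ := by rw [D.sq hbd2, mul_one]
      rwa [e3] at h7
    · rw [lin_two h5]
      have hbd : IsRoot c4 isType.isCartan (v b + v d) := by rw [← lin_one h6]; exact rv hf
      have hbd2 : IsRoot c4 isType.isCartan (v b + (2 : ℤ) • v d) := by rw [← lin_two h5]; exact rv hr
      refine ⟨eF K (v b + (2 : ℤ) • v d) (1 + l), e_mem_X hbd2 _, D.ne_one hbd2 (hne _ hl1), ?_⟩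
      have h7 := mul_mem (inv_mem (key b d hb hd h1 h2 1 1)) (key b d hb hd h1 h2 l⁻¹ l)
      rw [hc2, hc2] at h7
      have e1 : l⁻¹ * l = 1 := inv_mul_cancel₀ hl
      have e2 : l⁻¹ * l ^ 2 = l := by field_simp
      rw [e1, e2, one_pow, mul_one, mul_inv_rev, D.inv hbd2, D.inv hbd] at h7
      have e3 : eF K (v b + (2 : ℤ) • v d) 1 * eF K (v b + v d) 1 * (eF K (v b + v d) 1 *
          eF K (v b + (2 : ℤ) • v d) l) = eF K (v b + (2 : ℤ) • v d) (1 + l) := by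
        rw [D.add _ hbd2]
        calc _ = eF K (v b + (2 : ℤ) • v d) 1 * (eF K (v b + v d) 1 * eF K (v b + v d) 1) *
              eF K (v b + (2 : ℤ) • v d) l := by group
          _ = _ := by rw [D.sq hbd, mul_one]
      rwa [e3] at h7

theorem comm4640 (a b : K) : eF K (v 46) a * eF K (v 40) b = eF K (v 40) b * eF K (v 46) a := by
  obtain ⟨-, -, -, -, -, -, h1, -⟩ := chk_facts
  exact ((dat (K := K)).comm_of_nonneg (rv (by norm_num)) (rv (by norm_num)) h1 b a).symm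

/-- The second centre of `U`. -/
theorem mem_Z2 (hK : 2 < Nat.card K) {g : ↥(chevF4.group K)} (hg : ∀ u ∈ UK K, ⁅g, u⁆ ∈ ZK K) :
    ∃ a b : K, ∃ z ∈ ZK K, g = eF K (v 46) a * eF K (v 40) b * z := by
  -- `g` centralises `U'`
  have h1 : ∀ x ∈ UK K, ∀ y ∈ UK K, g * ⁅x, y⁆ = ⁅x, y⁆ * g := by
    intro x hx y hy
    obtain ⟨z, hz⟩ : ∃ z, ⁅g, x⁆ = z := ⟨_, rfl⟩
    obtain ⟨z', hz'⟩ : ∃ z', ⁅g, y⁆ = z' := ⟨_, rfl⟩
    have hzZ : z ∈ ZK K := hz ▸ hg x hx
    have hzZ' : z' ∈ ZK K := hz' ▸ hg y hy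
    have e1 : g * x * g⁻¹ = z * x := by rw [← hz, commutatorElement_def]; group
    have e2 : g * y * g⁻¹ = z' * y := by rw [← hz', commutatorElement_def]; group
    have k1 : x * z' = z' * x := L_commZ (U_le_L hx) hzZ'
    have k2 : y * z = z * y := L_commZ (U_le_L hy) hzZ
    have k3 : z * z' = z' * z := L_commZ (U_le_L (sup_le X1_le_U X2_le_U hzZ)) hzZ'
    have k4 : y⁻¹ * z'⁻¹ = z'⁻¹ * y⁻¹ := by
      have : z' * y = y * z' := (L_commZ (U_le_L hy) hzZ').symm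
      rw [← mul_inv_rev, ← mul_inv_rev, this]
    have e3 : g * ⁅x, y⁆ * g⁻¹ = ⁅z * x, z' * y⁆ := by
      rw [← e1, ← e2, commutatorElement_def, commutatorElement_def]; group
    have cz : Commute z x := (L_commZ (U_le_L hx) hzZ).symm
    have cz2 : Commute z y := (L_commZ (U_le_L hy) hzZ).symm
    have cz' : Commute z' x := (L_commZ (U_le_L hx) hzZ').symm
    have cz3 : Commute z' y := (L_commZ (U_le_L hy) hzZ').symm
    have czz : Commute z z' := k3
    have e4 : ⁅z * x, z' * y⁆ = ⁅x, y⁆ := by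
      have c1 : Commute z (x * (z' * y) * x⁻¹) := (cz.mul_right (czz.mul_right cz2)).mul_right cz.inv_right
      rw [commutatorElement_def, commutatorElement_def]
      calc z * x * (z' * y) * (z * x)⁻¹ * (z' * y)⁻¹
          = z * (x * (z' * y) * x⁻¹) * z⁻¹ * (z' * y)⁻¹ := by group
        _ = (x * (z' * y) * x⁻¹) * z * z⁻¹ * (z' * y)⁻¹ := by rw [c1.eq]
        _ = x * z' * y * x⁻¹ * (z' * y)⁻¹ := by group
        _ = z' * (x * y * x⁻¹) * (z' * y)⁻¹ := by rw [← cz'.eq]; group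
        _ = (x * y * x⁻¹) * z' * (z' * y)⁻¹ := by
            rw [((cz'.mul_right cz3).mul_right cz'.inv_right).eq]
        _ = x * y * x⁻¹ * y⁻¹ := by rw [cz3.eq]; group
    calc g * ⁅x, y⁆ = g * ⁅x, y⁆ * g⁻¹ * g := by group
      _ = ⁅x, y⁆ * g := by rw [e3, e4]
  have h2 : ∀ w ∈ ⁅UK K, UK K⁆, g * w = w * g := by
    have : ⁅UK K, UK K⁆ ≤ Subgroup.centralizer ({g} : Set ↥(chevF4.group K)) := by
      rw [Subgroup.commutator_le]
      intro x hx y hy
      exact Subgroup.mem_centralizer_singleton_iff.2 (h1 x hx y hy).symm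
    exact fun w hw => (Subgroup.mem_centralizer_singleton_iff.1 (this hw)).symm
  have h3 : g ∈ RGD.Sup (XF K) {v 47, v 46, v 44, v 40} := by
    refine cent_nonsimple c4 ?_
    rw [← SetOf_ns c4]
    rintro x ⟨r, hr, hr', rfl⟩
    obtain ⟨z, hz, hz1, hzd⟩ := exists_der hK hr hr'
    exact ⟨z, hz, hz1, h2 z hzd⟩
  have c1 : ∀ a ∈ XF K (v 46), ∀ b ∈ XF K (v 40), a * b = b * a := by
    intro a ha b hb
    obtain ⟨s, rfl⟩ := (mem_XF (rv (by norm_num))).1 ha
    obtain ⟨t, rfl⟩ := (mem_XF (rv (by norm_num))).1 hb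
    exact comm4640 s t
  have hle : XF K (v 46) ⊔ XF K (v 40) ≤ UK K :=
    sup_le (X_le_U (by norm_num) (by norm_num)) (X_le_U (by norm_num) (by norm_num))
  have h4 : g ∈ (XF K (v 46) ⊔ XF K (v 40)) ⊔ ZK K := by
    refine (RGD.Sup_le ?_ : RGD.Sup (XF K) {v 47, v 46, v 44, v 40} ≤ _) h3
    rintro x (rfl | rfl | rfl | rfl)
    · exact le_sup_left.trans le_sup_right
    · exact le_sup_left.trans le_sup_left
    · exact le_sup_right.trans le_sup_right
    · exact le_sup_right.trans le_sup_left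
  obtain ⟨y, hy, z, hz, rfl⟩ := (KFacts.RgdAutCent.mem_sup_comm (fun a ha b hb => L_commZ (U_le_L (hle ha)) hb)).1 h4
  obtain ⟨a, ha, b, hb, rfl⟩ := (KFacts.RgdAutCent.mem_sup_comm c1).1 hy
  obtain ⟨s, rfl⟩ := (mem_XF (rv (by norm_num))).1 ha
  obtain ⟨t, rfl⟩ := (mem_XF (rv (by norm_num))).1 hb
  exact ⟨s, t, z, hz, rfl⟩

/-- The three types of elements of the second centre. -/
theorem tri (hK : 2 < Nat.card K) {g : ↥(chevF4.group K)} (hg : ∀ u ∈ UK K, ⁅g, u⁆ ∈ ZK K) :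
    (∀ u ∈ UK K, ⁅g, u⁆ ∈ X1 K) ∨ (∀ u ∈ UK K, ⁅g, u⁆ ∈ X2 K) ∨
      ∀ a ∈ X1 K, ∀ b ∈ X2 K, ∃ u ∈ UK K, ⁅g, u⁆ = a * b := by
  obtain ⟨a, b, z, hz, rfl⟩ := mem_Z2 hK hg
  have D := dat (K := K)
  have h1 : ∀ u ∈ UK K, ⁅eF K (v 46) a * eF K (v 40) b * z, u⁆ = ⁅eF K (v 46) a, u⁆ * ⁅eF K (v 40) b, u⁆ := by
    intro u hu
    have k1 : u * z = z * u := L_commZ (U_le_L hu) hz
    have k2 := L_commZ (U_le_L (e_mem_U (K := K) (r := 46) (by norm_num) (by norm_num) a))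
      (Subgroup.mem_sup_right (S := X1 K) (comm40 b u hu))
    calc ⁅eF K (v 46) a * eF K (v 40) b * z, u⁆
        = eF K (v 46) a * eF K (v 40) b * (z * u) * z⁻¹ * (eF K (v 40) b)⁻¹ * (eF K (v 46) a)⁻¹ * u⁻¹ := by
          rw [commutatorElement_def]; group
      _ = eF K (v 46) a * ⁅eF K (v 40) b, u⁆ * (u * (eF K (v 46) a)⁻¹ * u⁻¹) := by
          rw [← k1, commutatorElement_def]; group
      _ = ⁅eF K (v 40) b, u⁆ * ⁅eF K (v 46) a, u⁆ := by
          rw [k2]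
          simp only [commutatorElement_def]; group
      _ = ⁅eF K (v 46) a, u⁆ * ⁅eF K (v 40) b, u⁆ :=
          (L_comm2 (U_le_L (X1_le_U (comm46 a u hu))) (comm40 b u hu)).symm
  by_cases ha : a = 0
  · right; left
    intro u hu
    rw [h1 u hu, ha, D.zero (rv (by norm_num)), commutatorElement_one_left, one_mul]
    exact comm40 b u hu
  by_cases hb : b = 0
  · left
    intro u hu
    rw [h1 u hu, hb, D.zero (rv (by norm_num)), commutatorElement_one_left, mul_one]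
    exact comm46 a u hu
  right; right
  intro x hx y hy
  obtain ⟨s, rfl⟩ := (mem_XF (rv (by norm_num))).1 hx
  obtain ⟨t, rfl⟩ := (mem_XF (rv (by norm_num))).1 hy
  obtain ⟨-, -, -, -, -, -, -, q1, q2⟩ := chk_facts
  have m1 := e_mem_U (K := K) (r := 24) (by norm_num) (by norm_num) (a⁻¹ * s)
  have m2 := e_mem_U (K := K) (r := 33) (by norm_num) (by norm_num) (b⁻¹ * t)
  refine ⟨eF K (v 24) (a⁻¹ * s) * eF K (v 33) (b⁻¹ * t), mul_mem m1 m2, ?_⟩
  rw [h1 _ (mul_mem m1 m2), comm_mul le_sup_left m1 (comm46 a _ m2), comm_mul le_sup_right m1 (comm40 b _ m2),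
    c46_24, c40_33, comm_one (by norm_num) (by norm_num) q1, comm_one (by norm_num) (by norm_num) q2, mul_one, one_mul,
    mul_inv_cancel_left₀ ha, mul_inv_cancel_left₀ hb]

end Cfsg.Agent.OddHalf.D7F4.KFront
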