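import Cfsg.Agent.KFacts.F4Model
import Cfsg.Agent.OddHalf.D7F4.OutO

/-!
# F4(q): the level sets are independent (S1765, node D7)

`ind_up`, `ind_up_dual` : a root group meets the product of the root groups of higher level trivially, for the functional
`lv` and for `lv ∘ dual`; `exists_other`, `not_mem_Up`: the remaining K-facts of `not_mem_short`, `not_mem_long`.
-/

set_option autoImplicit false

namespace Cfsg.Agent.OddHalf.D7F4.KInd

open CoxeterSystem Cfsg.Agent.ChevalleyStructure.CoxeterGeom Cfsg.Agent.Tits.Roots Cfsg.Agent.Tits.Core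
open Cfsg.Lie Cfsg.Agent.ChevalleyStructure Cfsg.Agent.ChevalleyStructure.CoxeterGeomTypes
open Cfsg.Agent.Nodes Cfsg.Agent.Nodes.Reps Cfsg.Agent.Nodes.BNOf Cfsg.Agent.Nodes.Unique Cfsg.Agent.Nodes.RGDChev
  Cfsg.Agent.Nodes.KindF Cfsg.Agent.KFacts.ChevTwo Cfsg.Agent.KFacts.ChevTwoTab Cfsg.Agent.KFacts.ChevTwoInst
  Cfsg.Agent.KFacts.F4Star Cfsg.Agent.KFacts.F4Cent Cfsg.Agent.KFacts.F4Pair Cfsg.Agent.KFacts.F4Torus
  Cfsg.Agent.KFacts.F4Model Cfsg.Agent.KFacts.RgdInd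
open Cfsg.Agent.OddHalf.D7F4.Model hiding add

theorem B_le : ∀ x ∈ rts, ∀ z ∈ rts, B x z ≤ B z z := by decide +kernel

theorem lv_smul (m : ℤ) (x : Fin 4 → ℤ) : lv (m • x) = m * lv x := by
  unfold lv; simp only [Pi.smul_apply, smul_eq_mul]; ring

theorem B_smul (m : ℤ) (x y : Fin 4 → ℤ) : B (m • x) y = m * B x y := by
  unfold B; simp only [Pi.smul_apply, smul_eq_mul]; ring

/-- `lv` as a homomorphism -/
def lvh : (Fin 4 → ℤ) →+ ℤ where
  toFun := lv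
  map_zero' := by decide
  map_add' := lv_add

/-- `lv ∘ tau` -/
def lvt (x : Fin 4 → ℤ) : ℤ := lv (tau x)

theorem lvt_add (x y : Fin 4 → ℤ) : lvt (x + y) = lvt x + lvt y := by
  simp only [lvt, lv, tau, Pi.add_apply]
  simp
  ring

theorem lvt_smul (m : ℤ) (x : Fin 4 → ℤ) : lvt (m • x) = m * lvt x := by
  simp only [lvt, lv, tau, Pi.smul_apply, smul_eq_mul]
  simp
  ring

/-- `lv ∘ tau` as a homomorphism -/
def lvth : (Fin 4 → ℤ) →+ ℤ where
  toFun := lvt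
  map_zero' := by decide
  map_add' := lvt_add

theorem lvt_eq : ∀ x ∈ rts, 2 * lvt x = B x x * lv (dual x) := by decide +kernel

theorem closed_lv (k : ℤ) (hk : 0 ≤ k) : Closed cF isType.isCartan {x | x ∈ Phi ∧ k < lv x} := by
  rintro x ⟨hx, hkx⟩ y ⟨hy, hky⟩ z ⟨hz, m, a, b, hm, ha, hb, he⟩
  have hz' : z ∈ Phi := (phi_iff cF z).2 hz
  refine ⟨hz', ?_⟩
  have e1 : m * B z z = a * B x z + b * B y z := by
    rw [← B_smul, he, B_add, B_smul, B_smul]
  have e2 : m * lv z = a * lv x + b * lv y := by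
    rw [← lv_smul, he, lv_add, lv_smul, lv_smul]
  have h1 := B_le x hx z hz'
  have h2 := B_le y hy z hz'
  have h3 : 0 < B z z := by rcases norm z hz' with h | h <;> omega
  have h4 : m ≤ a + b := by
    by_contra hlt
    push Not at hlt
    nlinarith
  have h5 : m * k < m * lv z := by nlinarith
  exact lt_of_mul_lt_mul_left h5 hm.le

theorem closed_dual (k : ℤ) (hk : 0 ≤ k) : Closed cF isType.isCartan {x | x ∈ Phi ∧ k < lv (dual x)} := by
  rintro x ⟨hx, hkx⟩ y ⟨hy, hky⟩ z ⟨hz, m, a, b, hm, ha, hb, he⟩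
  have hz' : z ∈ Phi := (phi_iff cF z).2 hz
  refine ⟨hz', ?_⟩
  have e1 : m * B z z = a * B x z + b * B y z := by
    rw [← B_smul, he, B_add, B_smul, B_smul]
  have e2 : m * lvt z = a * lvt x + b * lvt y := by
    rw [← lvt_smul, he, lvt_add, lvt_smul, lvt_smul]
  have f1 := lvt_eq x hx
  have f2 := lvt_eq y hy
  have f3 := lvt_eq z hz'
  have h1 : B x z ≤ B x x := by rw [B_symm]; exact B_le z hz' x hx
  have h2 : B y z ≤ B y y := by rw [B_symm]; exact B_le z hz' y hy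
  have h3 : 0 < B z z := by rcases norm z hz' with h | h <;> omega
  have h4 : 0 < B x x := by rcases norm x hx with h | h <;> omega
  have h5 : 0 < B y y := by rcases norm y hy with h | h <;> omega
  have h6 : m * B z z ≤ a * B x x + b * B y y := by
    rw [e1]
    exact add_le_add (mul_le_mul_of_nonneg_left h1 ha.le) (mul_le_mul_of_nonneg_left h2 hb.le)
  have h7 : (m * B z z) * lv (dual z) = a * B x x * lv (dual x) + b * B y y * lv (dual y) := by
    calc (m * B z z) * lv (dual z) = m * (2 * lvt z) := by rw [f3]; ring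
      _ = a * (2 * lvt x) + b * (2 * lvt y) := by linear_combination 2 * e2
      _ = _ := by rw [f1, f2]; ring
  have h8 : 0 < a * B x x := mul_pos ha h4
  have h9 : 0 < b * B y y := mul_pos hb h5
  have h10 : 0 < m * B z z := mul_pos hm h3
  have h11 : (m * B z z) * k < (m * B z z) * lv (dual z) := by
    rw [h7]
    have g1 : a * B x x * k < a * B x x * lv (dual x) := mul_lt_mul_of_pos_left hkx h8
    have g2 : b * B y y * k < b * B y y * lv (dual y) := mul_lt_mul_of_pos_left hky h9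
    nlinarith
  exact lt_of_mul_lt_mul_left h11 h10.le

universe u

variable {F : Type u} [Field F] [Finite F] [CharP F 2]

theorem ind_of (f : (Fin 4 → ℤ) →+ ℤ) {S : Set (Fin 4 → ℤ)} (hS : ∀ x ∈ S, x ∈ Phi ∧ 0 < f x)
    (hc : Closed cF isType.isCartan S) {a : Fin 4 → ℤ} (ha : a ∈ Phi) (hfa : 0 < f a) (haS : a ∉ S) :
    ∀ x ∈ XF F a, x ∈ RGD.Sup (XF F) S → x = 1 := by
  have := finW
  have : Fact (Nat.Prime 2) := ⟨Nat.prime_two⟩
  intro x hx hx'
  have h1 := inf_eq_of_pos (rgd (K := F) isType cF 2) f (S := {a}) (S' := S)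
    (by intro w hw; rw [Set.mem_singleton_iff] at hw; rw [hw]; exact ⟨(phi_iff cF a).1 ha, hfa⟩)
    (fun w hw => ⟨(phi_iff cF w).1 (hS w hw).1, (hS w hw).2⟩)
    (closed_singleton ((phi_iff cF a).1 ha)) hc
  have h2 : x ∈ RGD.Sup (XF F) {a} ⊓ RGD.Sup (XF F) S :=
    Subgroup.mem_inf.2 ⟨RGD.le_Sup (S := {a}) rfl hx, hx'⟩
  rw [h1] at h2
  have h3 : ({a} ∩ S : Set (Fin 4 → ℤ)) = ∅ := by
    ext w
    simp only [Set.mem_inter_iff, Set.mem_singleton_iff, Set.mem_empty_iff_false, iff_false]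
    rintro ⟨rfl, h4⟩
    exact haS h4
  rw [h3] at h2
  exact Subgroup.mem_bot.1 ((RGD.Sup_le fun z hz => absurd hz (Set.notMem_empty z) : RGD.Sup (XF F) ∅ ≤ ⊥) h2)

theorem ind_up : ∀ a ∈ rts, 0 < lv a → ∀ x ∈ XF F a,
    x ∈ (⨆ b : Fin 4 → ℤ, ⨆ _ : b ∈ Phi ∧ lv a < lv b, XF F b) → x = 1 := by
  intro a ha h0 x hx hx'
  refine ind_of lvh (S := {x | x ∈ Phi ∧ lv a < lv x}) (fun w hw => ⟨hw.1, lt_trans h0 hw.2⟩)
    (closed_lv _ h0.le) ha h0 (fun h => lt_irrefl _ h.2) x hx ?_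
  have hle : (⨆ b : Fin 4 → ℤ, ⨆ _ : b ∈ Phi ∧ lv a < lv b, XF F b) ≤ RGD.Sup (XF F) {x | x ∈ Phi ∧ lv a < lv x} :=
    iSup₂_le fun b hb => RGD.le_Sup (S := {x | x ∈ Phi ∧ lv a < lv x}) hb
  exact hle hx'

theorem dual_pos : ∀ a ∈ rts, 0 < lv (dual a) → 0 < lvt a := by decide +kernel

theorem ind_up_dual : ∀ a ∈ rts, 0 < lv a → ∀ x ∈ XF F (dual a),
    x ∈ (⨆ b : Fin 4 → ℤ, ⨆ _ : b ∈ Phi ∧ lv a < lv b, XF F (dual b)) → x = 1 := by
  intro a ha h0 x hx hx'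
  have hda := dual_dual a ha
  refine ind_of lvth (S := {x | x ∈ Phi ∧ lv a < lv (dual x)})
    (fun w hw => ⟨hw.1, dual_pos w hw.1 (lt_trans h0 hw.2)⟩)
    (closed_dual _ h0.le) (dual_mem a ha) (dual_pos _ (dual_mem a ha) (by rw [hda]; exact h0))
    (fun h => by have := h.2; rw [hda] at this; exact lt_irrefl _ this) x hx ?_
  have hle : (⨆ b : Fin 4 → ℤ, ⨆ _ : b ∈ Phi ∧ lv a < lv b, XF F (dual b)) ≤
      RGD.Sup (XF F) {x | x ∈ Phi ∧ lv a < lv (dual x)} :=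
    iSup₂_le fun b hb => RGD.le_Sup (S := {x | x ∈ Phi ∧ lv a < lv (dual x)})
      ⟨dual_mem b hb.1, by rw [dual_dual b hb.1]; exact hb.2⟩
  exact hle hx'

/-- `|F| > 2` -/
theorem exists_other (h2 : ∃ c : F, c ≠ 0 ∧ c ≠ 1) : ∀ s ∈ rts, ∀ x ∈ XF F s, ∃ y ∈ XF F s, y ≠ 1 ∧ y ≠ x := by
  intro s hs x hx
  obtain ⟨u, rfl⟩ := (mem_X hs).1 hx
  obtain ⟨c, hc0, hc1⟩ := h2
  have D := dat (K := F)
  have hinj : ∀ v w : F, eF F s v = eF F s w → v = w := by
    intro v w h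
    exact D.injective ((phi_iff cF s).1 hs) h
  by_cases hu : u = 1
  · refine ⟨eF F s c, (mem_X hs).2 ⟨c, rfl⟩, fun h => hc0 (e_eq_one hs h), fun h => hc1 ?_⟩
    rw [hinj _ _ h, hu]
  · refine ⟨eF F s 1, (mem_X hs).2 ⟨1, rfl⟩, fun h => one_ne_zero (e_eq_one hs h), fun h => hu ?_⟩
    exact (hinj _ _ h).symm

end Cfsg.Agent.OddHalf.D7F4.KInd
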