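import Mathlib
import Cfsg.Agent.StdSpSix.TR

/-!
# Growth with two root lengths of which only one is moved (S1765, node D7)

`t` an involution, `V 1, V 2, …, V M` elementary abelian 2-groups (one root group, doubled or not, per level),
`X i = C_{V i}(t)`; a level is either *moved* (`t` acts freely on `V i`) or *not moved* (`V i = X i`; then
`L i = X i`, whereas `L i = ⊥` for the moved levels). `[V i, V j] ≤ ⟨V k : k ≥ i + j⟩`. Then

* every involution of `t ⟨V i⟩` is conjugate to `t l`, `l ∈ ⟨L i⟩` (`exists_conj`);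
* if `|C(t l)|` is as large as `|C(t)|` then `l ∈ L M` (`mem_top`);
* **END**: `t` is not conjugate to `t x`, `1 ≠ x ∈ L M`: then `t ↦ -1` for some `G →* ℤˣ` (`exists_hom`).
-/

set_option autoImplicit false
set_option linter.unusedSectionVars false

namespace Cfsg.Agent.OddHalf.D7F4.Levels

variable {G : Type*} [Group G]

/-- The group generated by the terms of level `≥ k`. -/
def N (V : ℕ → Subgroup G) (k : ℕ) : Subgroup G := ⨆ i : ℕ, ⨆ _ : k ≤ i, V i

theorem le_N (V : ℕ → Subgroup G) {i k : ℕ} (h : k ≤ i) : V i ≤ N V k :=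
  le_iSup₂_of_le (f := fun i (_ : k ≤ i) => V i) i h le_rfl

theorem N_anti (V : ℕ → Subgroup G) {j k : ℕ} (h : j ≤ k) : N V k ≤ N V j :=
  iSup₂_le fun _ hi => le_N V (h.trans hi)

theorem N_eq (V : ℕ → Subgroup G) (k : ℕ) : N V k = V k ⊔ N V (k + 1) := by
  apply le_antisymm
  · refine iSup₂_le fun i hi => ?_
    rcases Nat.lt_or_ge k i with h | h
    · exact le_sup_of_le_right (le_N V h)
    · obtain rfl : i = k := le_antisymm h hi
      exact le_sup_left
  · exact sup_le (le_N V le_rfl) (N_anti V (Nat.le_succ k))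

/-- The hypotheses. -/
structure Lvl (t : G) (V X L : ℕ → Subgroup G) (M : ℕ) : Prop where
  tt : t * t = 1
  zero : V 0 = ⊥
  top : ∀ i, M < i → V i = ⊥
  sq : ∀ i, ∀ v ∈ V i, v * v = 1
  X_le : ∀ i, X i ≤ V i
  L_le : ∀ i, L i ≤ X i
  cent : ∀ i, ∀ v ∈ V i, t * v * t = v → v ∈ X i
  X_fix : ∀ i, ∀ v ∈ X i, t * v * t = v
  brk : ∀ i, ∀ v ∈ V i, v⁻¹ * (t * v * t) ∈ X i
  alt : ∀ i, V i ≤ L i ∨ (L i = ⊥ ∧ ∀ x ∈ X i, ∃ v ∈ V i, v⁻¹ * (t * v * t) = x)
  comm : ∀ i j, ∀ v ∈ V i, ∀ w ∈ V j, v * w * v⁻¹ * w⁻¹ ∈ N V (i + j)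
  commL : ∀ i j, ∀ v ∈ L i, ∀ w ∈ L j, v * w * v⁻¹ * w⁻¹ ∈ N L (i + j)
  ind : ∀ k, X k ⊓ N X (k + 1) = ⊥

/-! ### Filtrations -/

/-- A filtration with `[V i, V j] ≤ N V (i + j)`. -/
def Filt (V : ℕ → Subgroup G) : Prop := ∀ i j, ∀ v ∈ V i, ∀ w ∈ V j, v * w * v⁻¹ * w⁻¹ ∈ N V (i + j)

namespace Filt

variable {V : ℕ → Subgroup G}

theorem conj_gen (h : Filt V) {k j : ℕ} {v w : G} (hv : v ∈ V j) (hw : w ∈ N V k) :
    v * w * v⁻¹ ∈ N V k := by
  have hle : N V k ≤ (N V k).comap (MulAut.conj v).toMonoidHom := by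
    refine iSup₂_le fun i hi u hu => ?_
    show v * u * v⁻¹ ∈ N V k
    have h1 := h j i v hv u hu
    have h2 := (N V k).mul_mem (N_anti V (by omega) h1) (le_N V hi hu)
    have h3 : v * u * v⁻¹ * u⁻¹ * u = v * u * v⁻¹ := by group
    rwa [h3] at h2
  exact hle hw

theorem conj (h : Filt V) {k j : ℕ} {v w : G} (hv : v ∈ N V j) (hw : w ∈ N V k) :
    v * w * v⁻¹ ∈ N V k := by
  have hle : N V j ≤ Subgroup.normalizer (N V k : Set G) := by
    refine iSup₂_le fun i _ u hu => ?_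
    rw [Subgroup.mem_normalizer_iff]
    intro x
    refine ⟨fun hx => h.conj_gen hu hx, fun hx => ?_⟩
    have h1 := h.conj_gen (inv_mem hu) hx
    have h2 : u⁻¹ * (u * x * u⁻¹) * u⁻¹⁻¹ = x := by group
    rwa [h2] at h1
  exact (Subgroup.mem_normalizer_iff.1 (hle hv) w).1 hw

theorem comm_gen (h : Filt V) {k j : ℕ} {v w : G} (hv : v ∈ V j) (hw : w ∈ N V k) :
    v * w * v⁻¹ * w⁻¹ ∈ N V (j + k) := by
  let S : Subgroup G :=
    { carrier := {w | w ∈ N V 0 ∧ v * w * v⁻¹ * w⁻¹ ∈ N V (j + k)}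
      one_mem' := ⟨one_mem _, by rw [mul_one, mul_inv_cancel, inv_one, mul_one]; exact one_mem _⟩
      mul_mem' := by
        rintro a b ⟨ha', ha⟩ ⟨hb', hb⟩
        refine ⟨mul_mem ha' hb', ?_⟩
        have h1 := mul_mem ha (h.conj ha' hb)
        have h2 : v * a * v⁻¹ * a⁻¹ * (a * (v * b * v⁻¹ * b⁻¹) * a⁻¹) = v * (a * b) * v⁻¹ * (a * b)⁻¹ := by group
        rwa [h2] at h1
      inv_mem' := by
        rintro a ⟨ha', ha⟩
        refine ⟨inv_mem ha', ?_⟩
        have h1 := h.conj (inv_mem ha') (inv_mem ha)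
        have h2 : a⁻¹ * (v * a * v⁻¹ * a⁻¹)⁻¹ * a⁻¹⁻¹ = v * a⁻¹ * v⁻¹ * a⁻¹⁻¹ := by group
        rwa [h2] at h1 }
  have hle : N V k ≤ S := by
    refine iSup₂_le fun i hi u hu => ⟨le_N V (Nat.zero_le i) hu, ?_⟩
    exact N_anti V (by omega) (h j i v hv u hu)
  exact (hle hw).2

theorem comm (h : Filt V) {k j : ℕ} {v w : G} (hv : v ∈ N V j) (hw : w ∈ N V k) :
    v * w * v⁻¹ * w⁻¹ ∈ N V (j + k) := by
  let S : Subgroup G :=
    { carrier := {v | v ∈ N V 0 ∧ v * w * v⁻¹ * w⁻¹ ∈ N V (j + k)}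
      one_mem' := ⟨one_mem _, by rw [one_mul, inv_one, mul_one, mul_inv_cancel]; exact one_mem _⟩
      mul_mem' := by
        rintro a b ⟨ha', ha⟩ ⟨hb', hb⟩
        refine ⟨mul_mem ha' hb', ?_⟩
        have h1 := mul_mem (h.conj ha' hb) ha
        have h2 : a * (b * w * b⁻¹ * w⁻¹) * a⁻¹ * (a * w * a⁻¹ * w⁻¹) = a * b * w * (a * b)⁻¹ * w⁻¹ := by group
        rwa [h2] at h1
      inv_mem' := by
        rintro a ⟨ha', ha⟩
        refine ⟨inv_mem ha', ?_⟩
        have h1 := h.conj (inv_mem ha') (inv_mem ha)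
        have h2 : a⁻¹ * (a * w * a⁻¹ * w⁻¹)⁻¹ * a⁻¹⁻¹ = a⁻¹ * w * a⁻¹⁻¹ * w⁻¹ := by group
        rwa [h2] at h1 }
  have hle : N V j ≤ S := by
    refine iSup₂_le fun i hi u hu => ⟨le_N V (Nat.zero_le i) hu, ?_⟩
    exact N_anti V (by omega) (h.comm_gen hu hw)
  exact (hle hv).2

theorem split (h : Filt V) {k : ℕ} {w : G} (hw : w ∈ N V k) :
    ∃ v ∈ V k, ∃ u ∈ N V (k + 1), w = v * u := by
  let S : Subgroup G :=
    { carrier := {w | ∃ v ∈ V k, ∃ u ∈ N V (k + 1), w = v * u}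
      one_mem' := ⟨1, one_mem _, 1, one_mem _, (mul_one 1).symm⟩
      mul_mem' := by
        rintro _ _ ⟨v, hv, u, hu, rfl⟩ ⟨v', hv', u', hu', rfl⟩
        refine ⟨v * v', mul_mem hv hv', v'⁻¹ * u * v' * u', mul_mem ?_ hu', by group⟩
        have := h.conj_gen (inv_mem hv') hu
        rwa [inv_inv] at this
      inv_mem' := by
        rintro _ ⟨v, hv, u, hu, rfl⟩
        exact ⟨v⁻¹, inv_mem hv, v * u⁻¹ * v⁻¹, h.conj_gen hv (inv_mem hu), by group⟩ }
  have hS : N V k ≤ S := by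
    rw [N_eq, sup_le_iff]
    exact ⟨fun v hv => ⟨v, hv, 1, one_mem _, (mul_one v).symm⟩, fun u hu => ⟨1, one_mem _, u, hu, (one_mul u).symm⟩⟩
  exact hS hw

end Filt

namespace Lvl

variable {t : G} {V X L : ℕ → Subgroup G} {M : ℕ}

theorem filt (h : Lvl t V X L M) : Filt V := h.comm

theorem filtL (h : Lvl t V X L M) : Filt L := h.commL

theorem t_inv (h : Lvl t V X L M) : t⁻¹ = t := inv_eq_of_mul_eq_one_left h.tt

theorem conj_mul (h : Lvl t V X L M) (a b : G) : t * (a * b) * t = (t * a * t) * (t * b * t) := by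
  calc t * (a * b) * t = t * a * 1 * b * t := by group
    _ = t * a * (t * t) * b * t := by rw [h.tt]
    _ = (t * a * t) * (t * b * t) := by group

theorem conj_inv (h : Lvl t V X L M) (a : G) : t * a⁻¹ * t = (t * a * t)⁻¹ := by
  rw [mul_inv_rev, mul_inv_rev, h.t_inv, mul_assoc]

theorem conj_conj (h : Lvl t V X L M) (a : G) : t * (t * a * t) * t = a := by
  calc t * (t * a * t) * t = (t * t) * a * (t * t) := by group
    _ = a := by rw [h.tt, one_mul, mul_one]

theorem conj_V (h : Lvl t V X L M) {i : ℕ} {v : G} (hv : v ∈ V i) : t * v * t ∈ V i := by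
  have h1 := mul_mem hv (h.X_le i (h.brk i v hv))
  rwa [mul_inv_cancel_left] at h1

theorem N_top (h : Lvl t V X L M) {k : ℕ} (hk : M < k) : N V k = ⊥ := by
  rw [eq_bot_iff]
  exact iSup₂_le fun i hi => (h.top i (lt_of_lt_of_le hk hi)).le

theorem X_le_N (h : Lvl t V X L M) (k : ℕ) : N X k ≤ N V k :=
  iSup₂_le fun i hi => (h.X_le i).trans (le_N V hi)

theorem L_le_N (h : Lvl t V X L M) (k : ℕ) : N L k ≤ N X k :=
  iSup₂_le fun i hi => (h.L_le i).trans (le_N X hi)

theorem conj_N (h : Lvl t V X L M) {k : ℕ} {w : G} (hw : w ∈ N V k) : t * w * t ∈ N V k := by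
  have hle : N V k ≤ (N V k).comap (MulAut.conj t).toMonoidHom := by
    refine iSup₂_le fun i hi v hv => ?_
    show t * v * t⁻¹ ∈ N V k
    rw [h.t_inv]
    exact le_N V hi (h.conj_V hv)
  have h1 : t * w * t⁻¹ ∈ N V k := hle hw
  rwa [h.t_inv] at h1

theorem N_fix (h : Lvl t V X L M) {k : ℕ} {w : G} (hw : w ∈ N X k) : t * w * t = w := by
  let S : Subgroup G := Subgroup.centralizer {t}
  have hS : N X k ≤ S := by
    refine iSup₂_le fun i _ v hv => ?_
    rw [Subgroup.mem_centralizer_singleton_iff]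
    have h1 := h.X_fix i v hv
    calc v * t = t * v * t * t := by rw [h1]
      _ = t * v * (t * t) := by group
      _ = t * v := by rw [h.tt, mul_one]
  have h1 := Subgroup.mem_centralizer_singleton_iff.1 (hS hw)
  rw [mul_assoc, h1, ← mul_assoc, h.tt, one_mul]

theorem comm_V (h : Lvl t V X L M) {i : ℕ} {a b : G} (ha : a ∈ V i) (hb : b ∈ V i) : a * b = b * a := by
  have e1 := h.sq i (a * b) (mul_mem ha hb)
  have e2 := h.sq i a ha
  have e3 := h.sq i b hb
  calc a * b = a * ((a * b) * (a * b)) * b := by rw [e1, mul_one]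
    _ = (a * a) * (b * a) * (b * b) := by group
    _ = b * a := by rw [e2, e3, one_mul, mul_one]

/-- `V k ⊓ N V (k + 1) = ⊥`, and the fixed points of `t` on `N V k`. -/
theorem main (h : Lvl t V X L M) : ∀ n k : ℕ, M < n + k →
    (∀ w ∈ N V k, t * w * t = w → w ∈ N X k) ∧ (∀ v ∈ V k, v ∈ N V (k + 1) → v = 1) := by
  intro n
  induction n with
  | zero =>
    intro k hk
    rw [zero_add] at hk
    constructor
    · intro w hw _
      rw [h.N_top hk] at hw
      rw [Subgroup.mem_bot.1 hw]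
      exact one_mem _
    · intro v _ hv
      rw [h.N_top (Nat.lt_succ_of_lt hk)] at hv
      exact Subgroup.mem_bot.1 hv
  | succ n ih =>
    intro k hk
    obtain ⟨h1, -⟩ := ih (k + 1) (by omega)
    have hX : ∀ v ∈ V k, v ∈ N V (k + 1) → t * v * t = v → v = 1 := by
      intro v hv hw hf
      have h3 : v ∈ X k ⊓ N X (k + 1) := ⟨h.cent k v hv hf, h1 v hw hf⟩
      rw [h.ind k] at h3
      exact Subgroup.mem_bot.1 h3
    have hV : ∀ v ∈ V k, v ∈ N V (k + 1) → v = 1 := by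
      intro v hv hw
      have hv' := h.conj_V hv
      have hw' := h.conj_N hw
      have e : v * (t * v * t) = 1 := by
        apply hX _ (mul_mem hv hv') (mul_mem hw hw')
        rw [h.conj_mul, h.conj_conj]
        exact h.comm_V hv' hv
      have e1 : t * v * t = v := mul_left_cancel (e.trans (h.sq k v hv).symm)
      exact hX v hv hw e1
    refine ⟨?_, hV⟩
    intro w hw hf
    obtain ⟨v, hv, u, hu, rfl⟩ := h.filt.split hw
    rw [h.conj_mul] at hf
    have hu' := h.conj_N hu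
    have hv' := h.conj_V hv
    have e1 : v⁻¹ * (t * v * t) = u * (t * u * t)⁻¹ := by
      rw [inv_mul_eq_iff_eq_mul, ← mul_assoc, eq_mul_inv_iff_mul_eq]
      exact hf
    have e2 : v⁻¹ * (t * v * t) = 1 := hV _ (mul_mem (inv_mem hv) hv') (by
      rw [e1]
      exact mul_mem hu (inv_mem hu'))
    have e3 : t * v * t = v := (inv_mul_eq_one.1 e2).symm
    have e4 : t * u * t = u := by
      rw [e2] at e1
      exact (mul_inv_eq_one.1 e1.symm).symm
    exact mul_mem (le_N X le_rfl (h.cent k v hv e3)) (N_anti X (Nat.le_succ k) (h1 u hu e4))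

theorem mem_N_of_fix (h : Lvl t V X L M) {k : ℕ} {w : G} (hw : w ∈ N V k) (hf : t * w * t = w) : w ∈ N X k :=
  (h.main (M + 1) k (by omega)).1 w hw hf

theorem eq_one (h : Lvl t V X L M) {k : ℕ} {v : G} (hv : v ∈ V k) (hv' : v ∈ N V (k + 1)) : v = 1 :=
  (h.main (M + 1) k (by omega)).2 v hv hv'

theorem filtX (h : Lvl t V X L M) : Filt X := by
  intro i j v hv w hw
  apply h.mem_N_of_fix (h.comm i j v (h.X_le i hv) w (h.X_le j hw))
  rw [h.conj_mul, h.conj_mul, h.conj_mul, h.conj_inv, h.conj_inv, h.X_fix i v hv, h.X_fix j w hw]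

/-- `N L j ⊓ N X k ≤ N L k`. -/
theorem L_inf (h : Lvl t V X L M) (j : ℕ) {k : ℕ} {w : G} (hw : w ∈ N L j) (hw' : w ∈ N V k) : w ∈ N L k := by
  rcases Nat.lt_or_ge j k with hjk | hjk
  · obtain ⟨n, rfl⟩ := Nat.exists_eq_add_of_le hjk.le
    clear hjk
    induction n generalizing j w with
    | zero => exact hw
    | succ n ih =>
      obtain ⟨v, hv, u, hu, rfl⟩ := h.filtL.split hw
      have hv1 : v = 1 := by
        apply h.eq_one (h.X_le j (h.L_le j hv))
        have h1 : v * u ∈ N V (j + 1) := N_anti V (by omega) hw'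
        have h2 : u ∈ N V (j + 1) := h.X_le_N _ (h.L_le_N _ hu)
        have h3 := mul_mem h1 (inv_mem h2)
        rwa [mul_inv_cancel_right] at h3
      rw [hv1, one_mul] at hw' ⊢
      have := ih (j + 1) hu (by rw [show j + 1 + n = j + (n + 1) by omega]; exact hw')
      rwa [show j + 1 + n = j + (n + 1) by omega] at this
  · exact N_anti L hjk hw

/-! ### Involutions of `t N V 1` -/

theorem exists_conj_aux (h : Lvl t V X L M) : ∀ n k : ℕ, M < n + k → 1 ≤ k → ∀ l ∈ N L 1, ∀ u ∈ N V k,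
    (t * (l * u)) * (t * (l * u)) = 1 → ∃ c ∈ N V 1, ∃ l' ∈ N L 1, t * (l * u) = c * (t * l') * c⁻¹ := by
  intro n
  induction n with
  | zero =>
    intro k hk _ l hl u hu _
    rw [zero_add] at hk
    rw [h.N_top hk] at hu
    exact ⟨1, one_mem _, l, hl, by rw [Subgroup.mem_bot.1 hu]; group⟩
  | succ n ih =>
    intro k hk hk1 l hl u hu hinv
    obtain ⟨v, hv, u', hu1, rfl⟩ := h.filt.split hu
    clear hu
    rename' u' => u, hu1 => hu
    rcases h.alt k with hL | ⟨hL, hsurj⟩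
    · have hlv : l * v ∈ N L 1 := mul_mem hl (le_N L hk1 (hL hv))
      have := ih (k + 1) (by omega) (by omega) (l * v) hlv u hu (by rw [mul_assoc l v u]; exact hinv)
      rwa [mul_assoc l v u] at this
    · -- `l ^ 2 * d` lies in `N V (k + 1)`
      have hlt : t * l * t = l := h.N_fix (h.L_le_N _ hl)
      have hlV : l ∈ N V 1 := h.X_le_N _ (h.L_le_N _ hl)
      have e1 : l * l * (l⁻¹ * ((t * v * t) * (t * u * t)) * l) * (v * u) = 1 := by
        rw [← hinv, ← h.conj_mul]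
        have : t * (l * (v * u)) * (t * (l * (v * u))) = (t * l * t) * (t * (v * u) * t) * (l * (v * u)) := by
          rw [← h.conj_mul]
          group
        rw [this, hlt]
        group
      have hv' := h.conj_V hv
      have hu' := h.conj_N hu
      -- `(t v t) v ∈ X k`
      have hd : (t * v * t) * v ∈ X k := by
        have h1 := h.brk k v hv
        have h2 : (t * v * t) * v = v⁻¹ * (t * v * t) := by
          rw [h.comm_V hv' hv, ← eq_inv_mul_iff_mul_eq]
          have h3 : v⁻¹ = v := inv_eq_of_mul_eq_one_left (h.sq k v hv)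
          rw [h3, ← mul_assoc, h.sq k v hv, one_mul]
        rw [h2]; exact h1
      have hmod : l * l * ((t * v * t) * v) ∈ N V (k + 1) := by
        -- move everything
        have hA : l⁻¹ * (t * v * t) * l * (t * v * t)⁻¹ ∈ N V (k + 1) := by
          have h1 := h.filt.comm (inv_mem hlV) (le_N V le_rfl hv' : t * v * t ∈ N V k)
          rw [inv_inv, add_comm] at h1
          exact h1
        have hB : l⁻¹ * (t * u * t) * l ∈ N V (k + 1) := by
          have := h.filt.conj (inv_mem hlV) hu'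
          rwa [inv_inv] at this
        -- `1 = l² A (tvt) B v u`
        have e2 : l * l * ((l⁻¹ * (t * v * t) * l * (t * v * t)⁻¹) * ((t * v * t) * ((l⁻¹ * (t * u * t) * l) *
            (v * u)))) = 1 := by
          rw [← e1]; group
        set A := l⁻¹ * (t * v * t) * l * (t * v * t)⁻¹ with hAdef
        set B := l⁻¹ * (t * u * t) * l with hBdef
        set a := t * v * t with ha
        -- `l² = (A a B v u)⁻¹`, so `l² a v = (v u)⁻¹ B⁻¹ a⁻¹ A⁻¹ a v`
        have e3 : l * l * (a * v) = (u⁻¹ * (v⁻¹ * B⁻¹ * v⁻¹⁻¹)) * (v⁻¹ * a⁻¹) * A⁻¹ * (v⁻¹ * a⁻¹)⁻¹ := by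
          have : l * l = (A * (a * (B * (v * u))))⁻¹ := eq_inv_of_mul_eq_one_left e2
          rw [this]; group
        rw [e3]
        have hva : v⁻¹ * a⁻¹ ∈ N V k := le_N V le_rfl (mul_mem (inv_mem hv) (inv_mem hv'))
        have h4 : (v⁻¹ * a⁻¹) * A⁻¹ * (v⁻¹ * a⁻¹)⁻¹ ∈ N V (k + 1) := h.filt.conj hva (inv_mem hA)
        have h5 : v⁻¹ * B⁻¹ * v⁻¹⁻¹ ∈ N V (k + 1) := h.filt.conj_gen (inv_mem hv) (inv_mem hB)
        have h6 := mul_mem (mul_mem (inv_mem hu) h5) h4
        have h7 : u⁻¹ * (v⁻¹ * B⁻¹ * v⁻¹⁻¹) * (v⁻¹ * a⁻¹ * A⁻¹ * (v⁻¹ * a⁻¹)⁻¹) =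
          u⁻¹ * (v⁻¹ * B⁻¹ * v⁻¹⁻¹) * (v⁻¹ * a⁻¹) * A⁻¹ * (v⁻¹ * a⁻¹)⁻¹ := by group
        rwa [h7] at h6
      -- `l² ∈ N L k`
      have hll : l * l ∈ N L k := by
        apply h.L_inf 1 (mul_mem hl hl)
        have h1 := mul_mem (N_anti V (Nat.le_succ k) hmod) (inv_mem (le_N V le_rfl (h.X_le k hd) :
          (t * v * t) * v ∈ N V k))
        rwa [mul_inv_cancel_right] at h1
      have hll' : l * l ∈ N V (k + 1) := by
        obtain ⟨a, ha, b, hb, hab⟩ := h.filtL.split hll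
        rw [hL] at ha
        rw [hab, Subgroup.mem_bot.1 ha, one_mul]
        exact h.X_le_N _ (h.L_le_N _ hb)
      have hd1 : (t * v * t) * v = 1 := by
        apply h.eq_one (h.X_le k hd)
        have h1 := mul_mem (inv_mem hll') hmod
        rwa [inv_mul_cancel_left] at h1
      have hvf : t * v * t = v := mul_right_cancel (hd1.trans (h.sq k v hv).symm)
      obtain ⟨c, hc, hcv⟩ := hsurj v (h.cent k v hv hvf)
      have hc' := h.conj_V hc
      have hcc : c * c = 1 := h.sq k c hc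
      have hci : c⁻¹ = c := inv_eq_of_mul_eq_one_left hcc
      -- `t l v u = c (t l u'') c⁻¹`
      have htc : t * c * t = c * v := by rw [← hcv, mul_inv_cancel_left]
      have hcomm : c * v = v * c := h.comm_V hc (h.X_le k (h.cent k v hv hvf))
      refine ?_
      -- `c⁻¹ (t l v u) c = t (v c⁻¹) l v u c`
      set u1 := l⁻¹ * (c⁻¹ * v) * l * (v * u) * c with hu1
      have e5 : t * (l * (v * u)) = c * (t * (l * u1)) * c⁻¹ := by
        have h1 : c * t = t * (c * v) := by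
          rw [← htc, ← mul_assoc, ← mul_assoc, h.tt, one_mul]
        have h2 : c * (t * (l * u1)) * c⁻¹ = (c * t) * (c⁻¹ * v) * l * (v * u) := by
          rw [hu1]; group
        rw [h2, h1]
        have h3 : t * (c * v) * (c⁻¹ * v) * l * (v * u) = t * ((v * c) * (c⁻¹ * v)) * l * (v * u) := by
          rw [← hcomm]; group
        rw [h3]
        have h4 : v * c * (c⁻¹ * v) = 1 := by
          rw [mul_assoc, mul_inv_cancel_left, h.sq k v hv]
        rw [h4]; group
      have hu1m : u1 ∈ N V (k + 1) := by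
        have hcv' : c⁻¹ * v ∈ V k := mul_mem (inv_mem hc) hv
        have h1 := h.filt.comm (inv_mem hlV) (le_N V le_rfl hcv' : c⁻¹ * v ∈ N V k)
        rw [inv_inv, add_comm] at h1
        have h2 : u1 = (l⁻¹ * (c⁻¹ * v) * l * (c⁻¹ * v)⁻¹) * ((c⁻¹ * v) * v * c) * (c⁻¹ * u * c⁻¹⁻¹) := by
          rw [hu1]; group
        have h3 : (c⁻¹ * v) * v * c = 1 := by
          rw [mul_assoc c⁻¹ v v, h.sq k v hv, mul_one, inv_mul_cancel]
        rw [h2, h3, mul_one]
        exact mul_mem h1 (h.filt.conj_gen (inv_mem hc) hu)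
      have hinv' : (t * (l * u1)) * (t * (l * u1)) = 1 := by
        have h1 : t * (l * u1) = c⁻¹ * (t * (l * (v * u))) * c := by rw [e5]; group
        rw [h1]
        calc c⁻¹ * (t * (l * (v * u))) * c * (c⁻¹ * (t * (l * (v * u))) * c)
            = c⁻¹ * ((t * (l * (v * u))) * (t * (l * (v * u)))) * c := by group
          _ = 1 := by rw [hinv]; group
      obtain ⟨c', hc', l', hl', he⟩ := ih (k + 1) (by omega) (by omega) l hl u1 hu1m hinv'
      refine ⟨c * c', mul_mem (le_N V hk1 hc) hc', l', hl', ?_⟩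
      rw [e5, he]
      group

/-- Every involution of `t N V 1` is conjugate to `t l`, `l ∈ N L 1`. -/
theorem exists_conj (h : Lvl t V X L M) {w : G} (hw : w ∈ N V 1) (hinv : (t * w) * (t * w) = 1) :
    ∃ c ∈ N V 1, ∃ l ∈ N L 1, t * w = c * (t * l) * c⁻¹ := by
  have := h.exists_conj_aux (M + 1) 1 (by omega) le_rfl 1 (one_mem _) w hw (by rw [one_mul]; exact hinv)
  rwa [one_mul] at this

end Lvl

end Cfsg.Agent.OddHalf.D7F4.Levels
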