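import Cfsg.Agent.OddHalf.D7F4.CC
import Cfsg.Agent.OddHalf.Out.Grow

/-!
# Enumerations of the positive roots of `F₄` and the doubled root groups (helper84)

* `Cm`: sequences of subgroups with `[V i, V j] ≤ ⟨V k : k < i⟩` for `i < j`; `Cm.indep_of_card`;
* `Enm`: enumerations of the positive roots compatible with the cones, `Enm.growth`;
* `canon`: an element of `C_G(t)` permuting the root groups permutes the doubled root groups;
* `free_of_free`: an involution acting freely on `X` acts freely on `W`.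
-/

set_option autoImplicit false

namespace Cfsg.Agent.OddHalf.D7F4.OutEnm

open Cfsg.Agent.Doubling Cfsg.Agent.Doubling.Growth Cfsg.Agent.OddHalf.D7F4.TypeC Cfsg.Agent.OddHalf.D7F4.CC Subgroup

variable {G : Type*} [Group G]

/-! ### Sequences -/

/-- `[V i, V j] ≤ ⟨V k : k < i⟩` for `i < j` -/
def Cm (V : ℕ → Subgroup G) (n : ℕ) : Prop :=
  ∀ i j, i < j → j < n → ∀ v ∈ V i, ∀ w ∈ V j, v * w * v⁻¹ * w⁻¹ ∈ Growth.W V i

namespace Cm

variable {V : ℕ → Subgroup G} {n : ℕ}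

theorem normal (h : Cm V n) {k j : ℕ} (hkj : k ≤ j) (hj : j < n) {v w : G} (hv : v ∈ V j)
    (hw : w ∈ Growth.W V k) : v * w * v⁻¹ ∈ Growth.W V k := by
  have hle : Growth.W V k ≤ (Growth.W V k).comap (MulAut.conj v).toMonoidHom := by
    refine iSup₂_le fun i hi u hu => ?_
    show v * u * v⁻¹ ∈ Growth.W V k
    have h1 := h i j (lt_of_lt_of_le hi hkj) hj u hu v hv
    have h2 := (Growth.W V k).mul_mem ((Growth.W V k).inv_mem (W_mono V hi.le h1)) (le_W V hi hu)
    have h3 : (u * v * u⁻¹ * v⁻¹)⁻¹ * u = v * u * v⁻¹ := by group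
    rwa [h3] at h2
  exact hle hw

theorem normal_W (h : Cm V n) {k : ℕ} {v w : G} (hv : v ∈ Growth.W V n)
    (hw : w ∈ Growth.W V k) : v * w * v⁻¹ ∈ Growth.W V k := by
  let S : Subgroup G :=
    { carrier := {v | ∀ w, w ∈ Growth.W V k ↔ v * w * v⁻¹ ∈ Growth.W V k}
      one_mem' := fun w => by rw [one_mul, inv_one, mul_one]
      mul_mem' := by
        intro a b ha hb w
        rw [hb w, ha]
        have : a * (b * w * b⁻¹) * a⁻¹ = a * b * w * (a * b)⁻¹ := by group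
        rw [this]
      inv_mem' := by
        intro a ha w
        rw [ha (a⁻¹ * w * a⁻¹⁻¹)]
        have : a * (a⁻¹ * w * a⁻¹⁻¹) * a⁻¹ = w := by group
        rw [this] }
  have hS : Growth.W V n ≤ S := by
    refine iSup₂_le fun j hj u hu => ?_
    intro w
    rcases lt_or_ge j k with h1 | h1
    · have hu' : u ∈ Growth.W V k := le_W V h1 hu
      refine ⟨fun hw => mul_mem (mul_mem hu' hw) (inv_mem hu'), fun hw => ?_⟩
      have h2 := mul_mem (mul_mem (inv_mem hu') hw) hu'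
      have h3 : u⁻¹ * (u * w * u⁻¹) * u = w := by group
      rwa [h3] at h2
    · refine ⟨fun hw => h.normal h1 hj hu hw, fun hw => ?_⟩
      have h2 := h.normal h1 hj (inv_mem hu) hw
      have h3 : u⁻¹ * (u * w * u⁻¹) * u⁻¹⁻¹ = w := by group
      rwa [h3] at h2
  exact (hS hv w).1 hw

theorem mem_succ (h : Cm V n) {k : ℕ} (hk : k < n) {w : G} (hw : w ∈ Growth.W V (k + 1)) :
    ∃ u ∈ Growth.W V k, ∃ v ∈ V k, w = u * v := by
  let S : Subgroup G :=
    { carrier := {w | ∃ u ∈ Growth.W V k, ∃ v ∈ V k, w = u * v}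
      one_mem' := ⟨1, one_mem _, 1, one_mem _, (mul_one 1).symm⟩
      mul_mem' := by
        rintro _ _ ⟨u, hu, v, hv, rfl⟩ ⟨u', hu', v', hv', rfl⟩
        exact ⟨u * (v * u' * v⁻¹), mul_mem hu (h.normal le_rfl hk hv hu'), v * v', mul_mem hv hv', by group⟩
      inv_mem' := by
        rintro _ ⟨u, hu, v, hv, rfl⟩
        exact ⟨v⁻¹ * u⁻¹ * v⁻¹⁻¹, h.normal le_rfl hk (inv_mem hv) (inv_mem hu), v⁻¹, inv_mem hv, by group⟩ }
  have hS : Growth.W V (k + 1) ≤ S := by
    rw [W_succ, sup_le_iff]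
    exact ⟨fun u hu => ⟨u, hu, 1, one_mem _, (mul_one u).symm⟩, fun v hv => ⟨1, one_mem _, v, hv, (one_mul v).symm⟩⟩
  exact hS hw

theorem card_le_mul [Finite G] (h : Cm V n) {Q : ℕ} (hQ : ∀ i < n, Nat.card (V i) ≤ Q) {k m : ℕ}
    (hkm : k + m ≤ n) : Nat.card (Growth.W V (k + m)) ≤ Nat.card (Growth.W V k) * Q ^ m := by
  induction m with
  | zero => rw [add_zero, pow_zero, mul_one]
  | succ m ih =>
    have hk : k + m < n := by omega
    have h1 : Nat.card (Growth.W V (k + m + 1)) ≤ Nat.card (Growth.W V (k + m) × V (k + m)) := by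
      refine Nat.card_le_card_of_surjective
        (fun z : Growth.W V (k + m) × V (k + m) => (⟨z.1 * z.2, mul_mem (W_mono V (Nat.le_succ _) z.1.2)
          (le_W V (Nat.lt_succ_self _) z.2.2)⟩ : Growth.W V (k + m + 1))) ?_
      rintro ⟨w, hw⟩
      obtain ⟨u, hu, v, hv, rfl⟩ := h.mem_succ hk hw
      exact ⟨⟨⟨u, hu⟩, ⟨v, hv⟩⟩, rfl⟩
    rw [Nat.card_prod] at h1
    calc Nat.card (Growth.W V (k + (m + 1))) ≤ Nat.card (Growth.W V (k + m)) * Nat.card (V (k + m)) := h1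
      _ ≤ (Nat.card (Growth.W V k) * Q ^ m) * Q := Nat.mul_le_mul (ih hk.le) (hQ _ hk)
      _ = _ := by rw [pow_succ]; ring

/-- Independence from the order. -/
theorem indep_of_card [Finite G] (h : Cm V n) {Q : ℕ} (hQ : ∀ i < n, Nat.card (V i) ≤ Q)
    (hcard : Q ^ n ≤ Nat.card (Growth.W V n)) {k : ℕ} (hk : k < n) : V k ⊓ Growth.W V k = ⊥ := by
  by_contra hne
  obtain ⟨z, hz1⟩ := Subgroup.ne_bot_iff_exists_ne_one.1 hne
  have hQ0 : 0 < Q := lt_of_lt_of_le Nat.card_pos (hQ k hk)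
  have h1 : Nat.card (Growth.W V (k + 1)) < Nat.card (Growth.W V k × V k) := by
    set f : Growth.W V k × V k → Growth.W V (k + 1) := fun z => ⟨z.1 * z.2,
      mul_mem (W_mono V (Nat.le_succ _) z.1.2) (le_W V (Nat.lt_succ_self _) z.2.2)⟩ with hf
    have hs : Function.Surjective f := by
      rintro ⟨w, hw⟩
      obtain ⟨u, hu, v, hv, rfl⟩ := h.mem_succ hk hw
      exact ⟨⟨⟨u, hu⟩, ⟨v, hv⟩⟩, rfl⟩
    have h2 := Nat.card_le_card_of_surjective f hs
    rcases h2.lt_or_eq with h3 | h3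
    · exact h3
    · exfalso
      have h4 := (Function.Surjective.bijective_of_nat_card_le hs h3.ge).1
      have h5 : f ⟨1, 1⟩ = f ⟨⟨(z : G)⁻¹, inv_mem z.2.2⟩, ⟨z, z.2.1⟩⟩ := by
        apply Subtype.ext
        change (1 : G) * 1 = (z : G)⁻¹ * z
        group
      have h6 := h4 h5
      have h7 : (1 : G) = z := congrArg (fun p : Growth.W V k × V k => (p.2 : G)) h6
      exact hz1 (Subtype.ext h7.symm)
  rw [Nat.card_prod] at h1
  obtain ⟨m, rfl⟩ : ∃ m, n = (k + 1) + m := ⟨n - (k + 1), by omega⟩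
  have h2 := h.card_le_mul hQ (k := 0) (m := k) (by omega)
  rw [zero_add, W_zero, card_bot, one_mul] at h2
  have h3 := h.card_le_mul hQ (k := k + 1) (m := m) le_rfl
  have h4 : Nat.card (Growth.W V k) * Nat.card (V k) ≤ Q ^ (k + 1) := by
    rw [pow_succ]
    exact Nat.mul_le_mul h2 (hQ k hk)
  have h5 : Nat.card (Growth.W V (k + 1 + m)) < Q ^ (k + 1) * Q ^ m :=
    lt_of_le_of_lt h3 (Nat.mul_lt_mul_of_pos_right (lt_of_lt_of_le h1 h4) (Nat.pow_pos hQ0))
  rw [← pow_add] at h5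
  omega

end Cm

/-- `|W k|` for independent sequences. -/
theorem card_W [Finite G] {V : ℕ → Subgroup G} {n : ℕ} (h : Cm V n) (indep : ∀ k < n, V k ⊓ Growth.W V k = ⊥)
    {Q : ℕ} (hQ : ∀ i < n, Nat.card (V i) = Q) {k : ℕ} (hk : k ≤ n) : Nat.card (Growth.W V k) = Q ^ k := by
  induction k with
  | zero => rw [W_zero, card_bot, pow_zero]
  | succ k ih =>
    have hk' : k < n := hk
    rw [pow_succ, ← ih hk'.le, ← hQ k hk', ← Nat.card_prod]
    symm
    refine Nat.card_eq_of_bijective (fun z : Growth.W V k × V k => (⟨z.1 * z.2,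
      mul_mem (W_mono V (Nat.le_succ _) z.1.2) (le_W V (Nat.lt_succ_self _) z.2.2)⟩ : Growth.W V (k + 1))) ⟨?_, ?_⟩
    · rintro ⟨⟨u, hu⟩, ⟨v, hv⟩⟩ ⟨⟨u', hu'⟩, ⟨v', hv'⟩⟩ he
      have h1 : u * v = u' * v' := congrArg Subtype.val he
      have h2 : u'⁻¹ * u = v' * v⁻¹ := by
        rw [inv_mul_eq_iff_eq_mul, ← mul_assoc, eq_mul_inv_iff_mul_eq]; exact h1
      have h3 : v' * v⁻¹ ∈ V k ⊓ Growth.W V k := Subgroup.mem_inf.2 ⟨mul_mem hv' (inv_mem hv), by
        rw [← h2]; exact mul_mem (inv_mem hu') hu⟩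
      rw [indep k hk', mem_bot] at h3
      have h4 : v' = v := mul_inv_eq_one.1 h3
      subst h4
      have h5 : u = u' := mul_right_cancel h1
      subst h5
      rfl
    · rintro ⟨w, hw⟩
      obtain ⟨u, hu, v, hv, rfl⟩ := h.mem_succ hk' hw
      exact ⟨⟨⟨u, hu⟩, ⟨v, hv⟩⟩, rfl⟩

/-! ### Enumerations -/

section enm

variable {L : Type*} [AddCommGroup L] {B : L → L → ℤ} {Φ : Set L}

/-- An enumeration of the positive roots: the cone of `l i`, `l j` (`i < j`) lies in `{l k : k < i}`. -/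
structure Enm (B : L → L → ℤ) (Φ : Set L) (l : ℕ → L) (n : ℕ) : Prop where
  mem : ∀ i < n, l i ∈ Φ
  pos : ∀ i < n, ∀ j < n, l i ≠ -(l j)
  up : ∀ i j, i < j → j < n → B (l i) (l j) < 0 → ∀ c, Cn B (l i) (l j) c → ∃ k < i, l k = c

variable {t : G} {X W : L → Subgroup G} {l : ℕ → L} {n : ℕ}

theorem N_le (E : Enm B Φ l n) (V : L → Subgroup G) {i j : ℕ} (hij : i < j) (hj : j < n)
    (hB : B (l i) (l j) < 0) : CC.N B V (l i) (l j) ≤ Growth.W (fun i => V (l i)) i := by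
  refine iSup₂_le fun c hc => ?_
  obtain ⟨k, hk, rfl⟩ := E.up i j hij hj hB c hc
  exact le_W (fun i => V (l i)) hk

theorem Enm.cmX (E : Enm B Φ l n) (h : Hyp t B Φ X W) : Cm (fun i => X (l i)) n := by
  intro i j hij hj v hv w hw
  have hi := hij.trans hj
  rcases lt_or_ge (B (l i) (l j)) 0 with hB | hB
  · exact N_le E X hij hj hB (h.cX (E.mem i hi) (E.mem j hj) hB (E.pos i hi j hj) hv hw)
  · have h1 := h.WX _ (E.mem i hi) _ (E.mem j hj) hB v ((h.isW _ (E.mem i hi)).XW hv) w hw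
    have h2 : v * w * v⁻¹ * w⁻¹ = 1 := by rw [h1]; group
    rw [h2]; exact one_mem _

theorem Enm.cmW [Finite G] (E : Enm B Φ l n) (h : Hyp t B Φ X W) : Cm (fun i => W (l i)) n := by
  intro i j hij hj v hv w hw
  have hi := hij.trans hj
  rcases lt_or_ge (B (l i) (l j)) 0 with hB | hB
  · exact N_le E W hij hj hB (h.cWW (E.mem i hi) (E.mem j hj) hB (E.pos i hi j hj) hv hw)
  · have h1 := h.WW (E.mem i hi) (E.mem j hj) hB hv hw
    have h2 : v * w * v⁻¹ * w⁻¹ = 1 := by rw [h1]; group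
    rw [h2]; exact one_mem _

theorem Enm.growth [Finite G] (E : Enm B Φ l n) (h : Hyp t B Φ X W)
    (indep : ∀ k < n, X (l k) ⊓ Growth.W (fun i => X (l i)) k = ⊥) :
    Growth.Dbl t (fun i => W (l i)) (fun i => X (l i)) n where
  tt := h.tt
  conj := fun i hi v hv => (h.isW _ (E.mem i hi)).conj_mem hv
  sq := fun i hi v hv => (h.isW _ (E.mem i hi)).sq v hv
  fix := fun i hi v hv h1 => by
    refine (h.isW _ (E.mem i hi)).cent v hv ?_
    calc t * v = t * v * (t * t) := by rw [h.tt, mul_one]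
      _ = (t * v * t) * t := by group
      _ = v * t := by rw [h1]
  X_le := fun i hi => (h.isW _ (E.mem i hi)).XW
  X_fix := fun i hi v hv => by
    have h1 := (h.isW _ (E.mem i hi)).tX v hv
    rw [h1, mul_assoc, h.tt, mul_one]
  free := fun i hi v hv => by
    have hI := h.isW _ (E.mem i hi)
    obtain ⟨w, hw, h1⟩ := hI.surj v hv
    have htw := hI.conj_mem hw
    refine ⟨w, hw, ?_⟩
    calc v = v⁻¹ := (hI.inv (hI.XW hv)).symm
      _ = (w⁻¹ * (t * w * t))⁻¹ := by rw [h1]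
      _ = (t * w * t)⁻¹ * w := by group
      _ = (t * w * t) * w := by rw [hI.inv htw]
      _ = t * w * t * w⁻¹ := by rw [hI.inv hw]
  comm := E.cmW h
  indep := indep

/-- **Canonicity**: an element of `C_G(t)` permuting the root groups permutes the doubled root groups. -/
theorem canon (h : Hyp t B Φ X W) {y : G} (yt : t * y = y * t) {π : L → L} (hπ : ∀ a ∈ Φ, π a ∈ Φ)
    (sur : ∀ c ∈ Φ, ∃ f ∈ Φ, π f = c) (sg : ∀ a ∈ Φ, ∀ b ∈ Φ, 0 ≤ B (π a) (π b) → 0 ≤ B a b)
    (act : ∀ a ∈ Φ, ∀ x ∈ X a, y * x * y⁻¹ ∈ X (π a)) (act' : ∀ a ∈ Φ, ∀ x ∈ X (π a), y⁻¹ * x * y ∈ X a)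
    {a : L} (ha : a ∈ Φ) {w : G} (hw : w ∈ W a) : y * w * y⁻¹ ∈ W (π a) := by
  have hI := h.isW a ha
  have hJ := h.isW (π a) (hπ a ha)
  set u := y * w * y⁻¹ with hu
  have hDu : D t u = y * D t w * y⁻¹ := D_conj' yt w
  obtain ⟨w', hw', hDw'⟩ := hJ.surj _ (act a ha _ (hI.brk w hw))
  have hDw : D t w' = y * D t w * y⁻¹ := hDw'
  have hkt := t_comm_of_D_eq h.tt (hDu.trans hDw.symm)
  have hk : ∀ f ∈ Φ, 0 ≤ B f (π a) → ∀ x ∈ X f, (u * w'⁻¹) * x = x * (u * w'⁻¹) := by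
    intro c hc hB x hx
    obtain ⟨f, hf, rfl⟩ := sur c hc
    have c1 : Commute w (y⁻¹ * x * y) := h.WX a ha f hf (by
      rw [h.roots.symm]; exact sg f hf a ha hB) w hw _ (act' f hf x hx)
    have c2 : Commute u x := by
      have h1 : u * x = y * (w * (y⁻¹ * x * y)) * y⁻¹ := by rw [hu]; group
      have h2 : x * u = y * ((y⁻¹ * x * y) * w) * y⁻¹ := by rw [hu]; group
      change u * x = x * u
      rw [h1, h2, c1.eq]
    have c3 : Commute w' x := h.WX (π a) (hπ a ha) (π f) hc (by rw [h.roots.symm]; exact hB) w' hw' x hx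
    exact (c2.mul_left c3.inv_left).eq
  obtain ⟨p, hp, h1⟩ := h.KP (π a) (hπ a ha) _ hkt hk
  have hpW := hJ.XW hp
  rcases h1 with h1 | h1
  · have h2 : u = p * w' := by rw [← h1]; group
    rw [h2]; exact mul_mem hpW hw'
  · -- `u = t p w'`
    have h2 : u = t * (p * w') := by
      calc u = (u * w'⁻¹) * w' := by group
        _ = t * (p * w') := by rw [h1]; group
    have hm : p * w' ∈ W (π a) := mul_mem hpW hw'
    have h3 : u * u = 1 := by
      rw [hu]
      calc y * w * y⁻¹ * (y * w * y⁻¹) = y * (w * w) * y⁻¹ := by group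
        _ = 1 := by rw [hI.sq w hw]; group
    have h4 : t * (p * w') * t * (p * w') = 1 := by
      rw [h2] at h3
      rw [← h3]; group
    have h5 : t * (p * w') * t = p * w' := by
      rw [eq_inv_of_mul_eq_one_left h4, hJ.inv hm]
    have h6 : t * (p * w') = (p * w') * t := by
      calc t * (p * w') = t * (p * w') * (t * t) := by rw [h.tt, mul_one]
        _ = (t * (p * w') * t) * t := by group
        _ = p * w' * t := by rw [h5]
    have h7 : D t u = 1 := by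
      rw [D_eq_one h.tt, h2, ← mul_assoc t, h.tt, one_mul, mul_assoc, ← h6, ← mul_assoc, h.tt, one_mul]
    have h8 : D t w = 1 := by
      rw [hDu] at h7
      have : D t w = y⁻¹ * (y * D t w * y⁻¹) * y := by group
      rw [this, h7]; group
    exact hJ.XW (act a ha w (hI.cent w hw ((D_eq_one h.tt).1 h8)))

end enm

/-- **Freeness.** -/
theorem free_of_free {t : G} (tt : t * t = 1) {X W : Subgroup G} (h : IsW t X W) {v : G} (vt : t * v = v * t)
    (vv : v * v = 1) (vW : ∀ w ∈ W, v * w * v ∈ W)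
    (fX : ∀ x ∈ X, v * x * v = x → ∃ y ∈ X, x = v * y * v * y⁻¹) {w : G} (hw : w ∈ W) (hvw : v * w * v = w) :
    ∃ c ∈ W, w = v * c * v * c⁻¹ := by
  have vi : v⁻¹ = v := inv_eq_of_mul_eq_one_left vv
  have hDv : ∀ z : G, D t (v * z * v) = v * D t z * v := by
    intro z
    have := D_conj' (t := t) (x := v) vt z
    rwa [vi] at this
  have cm : ∀ a b : G, v * (a * b) * v = (v * a * v) * (v * b * v) := by
    intro a b
    calc v * (a * b) * v = v * a * 1 * b * v := by group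
      _ = v * a * (v * v) * b * v := by rw [vv]
      _ = _ := by group
  have cc : ∀ a : G, v * (v * a * v) * v = a := by
    intro a
    calc v * (v * a * v) * v = (v * v) * a * (v * v) := by group
      _ = a := by rw [vv, one_mul, mul_one]
  have ci : ∀ a : G, v * a⁻¹ * v = (v * a * v)⁻¹ := by
    intro a
    rw [mul_inv_rev, mul_inv_rev, vi, mul_assoc]
  have hd : D t w ∈ X := h.brk w hw
  obtain ⟨y, hy, hdy⟩ := fX _ hd (by rw [← hDv, hvw])
  obtain ⟨c, hc, hcy'⟩ := h.surj y hy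
  have hcy : D t c = y := hcy'
  have hcv := vW c hc
  set e := v * c * v * c⁻¹ with he
  have heW : e ∈ W := mul_mem hcv (inv_mem hc)
  have hDe : D t e = D t w := by
    rw [he, D_mul tt, D_inv tt, hDv, hcy, hdy]
    have hyv : v * y * v ∈ X := by
      rw [← hcy, ← hDv]
      exact h.brk _ hcv
    have c1 : c⁻¹⁻¹ * (v * y * v) * c⁻¹ = v * y * v := by
      rw [inv_inv, h.ab hc (h.XW hyv), mul_inv_cancel_right]
    have c2 : c * y⁻¹ * c⁻¹ = y⁻¹ := by
      rw [h.ab hc (inv_mem (h.XW hy)), mul_inv_cancel_right]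
    rw [c1, c2]
  have hev : v * e * v = e := by
    rw [he, cm, cc, ci, h.ab hc (inv_mem hcv)]
    have h1 : v * c * v * c⁻¹ = (v * c * v)⁻¹ * c := by
      rw [h.inv hcv, h.inv hc]
    rw [h1]
  have h1 : e⁻¹ * w ∈ X := by
    refine h.cent _ (mul_mem (inv_mem heW) hw) ?_
    rw [← D_eq_one tt, D_mul tt, D_inv tt, hDe]
    have c1 : w⁻¹ * (e * (D t w)⁻¹ * e⁻¹) * w = (D t w)⁻¹ := by
      have hdi : (D t w)⁻¹ ∈ W := inv_mem (h.XW hd)
      rw [h.ab heW hdi, mul_inv_cancel_right, h.ab (inv_mem hw) hdi, inv_mul_cancel_right]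
    rw [c1, inv_mul_cancel]
  obtain ⟨y', hy', h2⟩ := fX _ h1 (by rw [cm, ci, hev, hvw])
  have hy'W := h.XW hy'
  have hy'v := vW y' hy'W
  refine ⟨c * y', mul_mem hc hy'W, ?_⟩
  have h3 : w = e * (v * y' * v * y'⁻¹) := by rw [← h2]; group
  rw [h3, he, cm, mul_inv_rev]
  calc v * c * v * c⁻¹ * (v * y' * v * y'⁻¹) = v * c * v * (c⁻¹ * (v * y' * v * y'⁻¹)) := by group
    _ = v * c * v * ((v * y' * v * y'⁻¹) * c⁻¹) := by
      rw [h.ab (inv_mem hc) (mul_mem hy'v (inv_mem hy'W))]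
    _ = v * c * v * (v * y' * v) * (y'⁻¹ * c⁻¹) := by group

end Cfsg.Agent.OddHalf.D7F4.OutEnm
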