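import Cfsg.Agent.OddHalf.D7F4.CCModel
import Cfsg.Agent.OddHalf.D7F4.Lead
import Cfsg.Agent.OddHalf.D7F4.OutEnm

/-!
# Enumerations of the positive roots of `F₄` (helper84)

`e0`: by decreasing `lv`; `e1`: pairs `{a, dual a}`, the last ones are `(α₂ + 2α₁, α₁ + α₂)`, `(α₂, α₁)`; `e3`: starts with
`ρ`, `σ`, ends with `α₃`.
-/

set_option autoImplicit false

namespace Cfsg.Agent.OddHalf.D7F4.OutModel

open Model TypeC CC OutEnm Cfsg.Agent.Doubling Subgroup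
open Lead (Ab Dir Ab_le Ab_mono ρ σ ρ' σ' α3 α0)

/-! ### The lists -/

def L0 : List (Fin 4 → ℤ) := [![2, 4, 3, 2], ![2, 4, 3, 1], ![2, 4, 2, 1], ![2, 3, 2, 1], ![1, 3, 2, 1], ![2, 2, 2, 1],
  ![2, 2, 1, 1], ![2, 2, 1, 0], ![1, 2, 2, 1], ![1, 2, 1, 1], ![1, 2, 1, 0], ![0, 2, 2, 1], ![0, 2, 1, 1], ![1, 1, 1, 1],
  ![0, 2, 1, 0], ![1, 1, 1, 0], ![1, 1, 0, 0], ![0, 1, 1, 1], ![0, 1, 1, 0], ![0, 1, 0, 0], ![1, 0, 0, 0], ![0, 0, 1, 1],
  ![0, 0, 0, 1], ![0, 0, 1, 0]]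

def L1 : List (Fin 4 → ℤ) := [![2, 4, 3, 2], ![2, 3, 2, 1], ![2, 4, 3, 1], ![1, 3, 2, 1], ![2, 4, 2, 1], ![1, 2, 2, 1],
  ![2, 2, 2, 1], ![1, 2, 1, 1], ![2, 2, 1, 1], ![1, 1, 1, 1], ![2, 2, 1, 0], ![0, 1, 1, 1], ![0, 2, 2, 1], ![1, 2, 1, 0],
  ![0, 2, 1, 1], ![1, 1, 1, 0], ![0, 0, 1, 1], ![1, 1, 0, 0], ![0, 0, 0, 1], ![1, 0, 0, 0], ![0, 2, 1, 0], ![0, 1, 1, 0],
  ![0, 0, 1, 0], ![0, 1, 0, 0]]

def L3 : List (Fin 4 → ℤ) := [![2, 4, 3, 2], ![2, 3, 2, 1], ![1, 3, 2, 1], ![2, 4, 3, 1], ![1, 2, 2, 1], ![2, 4, 2, 1],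
  ![1, 2, 1, 1], ![2, 2, 2, 1], ![1, 2, 1, 0], ![0, 2, 2, 1], ![1, 1, 1, 1], ![2, 2, 1, 1], ![0, 1, 1, 1], ![2, 2, 1, 0],
  ![1, 1, 1, 0], ![0, 2, 1, 1], ![0, 1, 1, 0], ![0, 2, 1, 0], ![1, 1, 0, 0], ![0, 0, 1, 1], ![0, 1, 0, 0], ![0, 0, 1, 0],
  ![1, 0, 0, 0], ![0, 0, 0, 1]]

/-- the `i`-th element -/
def en (l : List (Fin 4 → ℤ)) (i : ℕ) : Fin 4 → ℤ := l.getD i 0

/-- the combinatorial condition -/
def Ok (l : List (Fin 4 → ℤ)) : Prop :=
  (∀ i ∈ List.range 24, en l i ∈ rts ∧ 0 < lv (en l i)) ∧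
  (∀ a ∈ rts, 0 < lv a → ∃ i ∈ List.range 24, en l i = a) ∧
  ∀ j ∈ List.range 24, ∀ i ∈ List.range j, B (en l i) (en l j) < 0 →
    (∃ k ∈ List.range i, en l k = en l i + en l j) ∧
    (B (en l i) (en l i) = 4 → B (en l j) (en l j) = 2 → ∃ k ∈ List.range i, en l k = en l i + en l j + en l j) ∧
    (B (en l i) (en l i) = 2 → B (en l j) (en l j) = 4 → ∃ k ∈ List.range i, en l k = en l j + en l i + en l i)

instance (l : List (Fin 4 → ℤ)) : Decidable (Ok l) := by unfold Ok; infer_instance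

theorem ok0 : Ok L0 := by decide +kernel
theorem ok1 : Ok L1 := by decide +kernel
theorem ok3 : Ok L3 := by decide +kernel

theorem dec0 : ∀ j ∈ List.range 24, ∀ i ∈ List.range j, lv (en L0 j) < lv (en L0 i) := by decide +kernel

theorem enm {l : List (Fin 4 → ℤ)} (h : Ok l) : Enm B Phi (en l) 24 where
  mem i hi := (h.1 i (List.mem_range.2 hi)).1
  pos i hi j hj := Lead.pos_ne_neg (h.1 i (List.mem_range.2 hi)).2 (h.1 j (List.mem_range.2 hj)).2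
  up i j hij hj hB c hc := by
    obtain ⟨⟨k, hk, h1⟩, h2, h3⟩ := h.2.2 j (List.mem_range.2 hj) i (List.mem_range.2 hij) hB
    rcases hc with rfl | ⟨k1, k2, rfl⟩ | ⟨k1, k2, rfl⟩
    · exact ⟨k, List.mem_range.1 hk, h1⟩
    · obtain ⟨k, hk, h4⟩ := h2 k1 k2
      exact ⟨k, List.mem_range.1 hk, h4⟩
    · obtain ⟨k, hk, h4⟩ := h3 k1 k2
      exact ⟨k, List.mem_range.1 hk, h4⟩

variable {G : Type*} [Group G] {t : G} {X W : (Fin 4 → ℤ) → Subgroup G}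

theorem W_eq {l : List (Fin 4 → ℤ)} (h : Ok l) (V : (Fin 4 → ℤ) → Subgroup G) :
    Growth.W (fun i => V (en l i)) 24 = Ab V 0 := by
  apply le_antisymm
  · exact iSup₂_le fun i hi => Lead.le_Ab (h.1 i (List.mem_range.2 hi)).1 (h.1 i (List.mem_range.2 hi)).2
  · refine Ab_le fun a ha ha0 => ?_
    obtain ⟨i, hi, rfl⟩ := h.2.1 a ha ha0
    exact Growth.le_W (fun i => V (en l i)) (List.mem_range.1 hi)

/-- the cardinality of `U` -/
theorem card_U [Finite G] (h : CC.Hyp t B Phi X W) (hD : Dir X) {q : ℕ} (hq : ∀ a ∈ rts, Nat.card (X a) = q) :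
    Nat.card (Ab X 0) = q ^ 24 := by
  have E := enm ok0
  rw [← W_eq ok0 X]
  refine card_W (E.cmX h) (fun k hk => ?_) (fun i hi => hq _ (E.mem i hi)) le_rfl
  rw [eq_bot_iff]
  rintro x ⟨hx, hx'⟩
  rw [mem_bot]
  have hk' := ok0.1 k (List.mem_range.2 hk)
  refine hD _ hk'.1 hk'.2 x hx ?_
  have hle : Growth.W (fun i => X (en L0 i)) k ≤ Ab X (lv (en L0 k)) := by
    refine iSup₂_le fun i hi => ?_
    exact Lead.le_Ab (ok0.1 i (List.mem_range.2 (hi.trans hk))).1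
      (dec0 k (List.mem_range.2 hk) i (List.mem_range.2 hi))
  exact hle hx'

/-- independence for every enumeration -/
theorem indep [Finite G] (h : CC.Hyp t B Phi X W) (hD : Dir X) {q : ℕ} (hq : ∀ a ∈ rts, Nat.card (X a) = q)
    {l : List (Fin 4 → ℤ)} (hl : Ok l) : ∀ k < 24, X (en l k) ⊓ Growth.W (fun i => X (en l i)) k = ⊥ := by
  intro k hk
  have E := enm hl
  refine (E.cmX h).indep_of_card (Q := q) (fun i hi => (hq _ (E.mem i hi)).le) ?_ hk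
  rw [W_eq hl, card_U h hD hq]

/-- **Growth** -/
theorem dbl [Finite G] (h : CC.Hyp t B Phi X W) (hD : Dir X) {q : ℕ} (hq : ∀ a ∈ rts, Nat.card (X a) = q)
    {l : List (Fin 4 → ℤ)} (hl : Ok l) :
    Growth.Dbl t (fun i => W (en l i)) (fun i => X (en l i)) 24 :=
  (enm hl).growth h (indep h hD hq hl)

/-- `|W a| = |X a|²` -/
theorem card_W_eq [Finite G] {t : G} (tt : t * t = 1) {X W : Subgroup G} (h : IsW t X W) :
    Nat.card W = Nat.card X ^ 2 := by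
  have key : ∀ w : G, t * w * t = w ↔ t * w = w * t := by
    intro w
    constructor
    · intro h1
      calc t * w = t * w * (t * t) := by rw [tt, mul_one]
        _ = (t * w * t) * t := by group
        _ = w * t := by rw [h1]
    · intro h1
      rw [h1, mul_assoc, tt, mul_one]
  have h1 := Out.Grow.card_eq_sq (v := t) (A := W) (fun a ha b hb => h.ab ha hb) tt (fun w hw => h.conj_mem hw)
    (fun w hw hwt => by
      obtain ⟨c, hc, he⟩ := h.surj w (h.cent w hw ((key w).1 hwt))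
      refine ⟨c, hc, ?_⟩
      have hwi := h.inv hw
      calc w = w⁻¹ := hwi.symm
        _ = (c⁻¹ * (t * c * t))⁻¹ := by rw [he]
        _ = (t * c * t)⁻¹ * c := by group
        _ = (t * c * t) * c := by rw [h.inv (h.conj_mem hc)]
        _ = t * c * t * c⁻¹ := by rw [h.inv hc]) h.sq
  have h2 : W ⊓ centralizer ({t} : Set G) = X := by
    ext w
    constructor
    · rintro ⟨hw, hw'⟩
      exact h.cent w hw (mem_centralizer_singleton_iff.1 hw').symm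
    · intro hw
      exact ⟨h.XW hw, mem_centralizer_singleton_iff.2 (h.tX w hw).symm⟩
  rw [h1, h2]

/-- `|U*| = q⁴⁸` -/
theorem card_Us [Finite G] (h : CC.Hyp t B Phi X W) (hD : Dir X) {q : ℕ} (hq : ∀ a ∈ rts, Nat.card (X a) = q) :
    Nat.card (Ab W 0) = (q ^ 2) ^ 24 := by
  have D := dbl h hD hq ok0
  rw [← W_eq ok0 W]
  refine card_W ((enm ok0).cmW h) (fun k hk => Out.Grow.disj D hk) (fun i hi => ?_) le_rfl
  rw [card_W_eq h.tt (h.isW _ ((enm ok0).mem i hi)), hq _ ((enm ok0).mem i hi)]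

theorem Us2 [Finite G] (h : CC.Hyp t B Phi X W) (hD : Dir X) {q : ℕ} (hq : ∀ a ∈ rts, Nat.card (X a) = q) :
    IsPGroup 2 (Ab W 0) := by
  rw [← W_eq ok0 W]
  exact Out.Grow.isPGroup (dbl h hD hq ok0) le_rfl

theorem mem_U_iff [Finite G] (h : CC.Hyp t B Phi X W) (hD : Dir X) {q : ℕ} (hq : ∀ a ∈ rts, Nat.card (X a) = q)
    {w : G} : w ∈ Ab X 0 ↔ w ∈ Ab W 0 ∧ w * t = t * w := by
  have D := dbl h hD hq ok0
  rw [← W_eq ok0 W, ← W_eq ok0 X, D.mem_U_iff le_rfl]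
  refine and_congr_right fun _ => ?_
  constructor
  · intro h1
    calc w * t = t * w * t * t := by rw [h1]
      _ = t * w * (t * t) := by group
      _ = t * w := by rw [h.tt, mul_one]
  · intro h1
    rw [mul_assoc, h1, ← mul_assoc, h.tt, one_mul]

/-- involutions of `t U*` are conjugate to `t` -/
theorem conj_t [Finite G] (h : CC.Hyp t B Phi X W) (hD : Dir X) {q : ℕ} (hq : ∀ a ∈ rts, Nat.card (X a) = q)
    {w : G} (hw : w ∈ Ab W 0) (hww : t * w * (t * w) = 1) : ∃ a ∈ Ab W 0, t * w = a * t * a⁻¹ := by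
  have D := dbl h hD hq ok0
  rw [← W_eq ok0 W] at hw ⊢
  exact D.exists_conj hw hww

/-- `W ρ`, `W σ` are central in `U*` -/
theorem central [Finite G] (h : CC.Hyp t B Phi X W) {z w : G} (hz : z ∈ W ρ ⊔ W σ) (hw : w ∈ Ab W 0) :
    z * w = w * z := by
  have hle : W ρ ⊔ W σ ≤ centralizer ((Ab W 0 : Subgroup G) : Set G) := by
    have key : ∀ r ∈ rts, (∀ a ∈ rts, 0 < lv a → 0 ≤ B r a) → W r ≤ centralizer ((Ab W 0 : Subgroup G) : Set G) := by
      intro r hr hB z hz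
      rw [mem_centralizer_iff]
      intro w hw
      have h1 : Ab W 0 ≤ centralizer ({z} : Set G) := Ab_le fun a ha ha0 u hu =>
        mem_centralizer_singleton_iff.2 (h.WW hr ha (hB a ha ha0) hz hu).symm
      exact mem_centralizer_singleton_iff.1 (h1 hw)
    exact sup_le (key ρ Lead.ρ_mem fun a ha ha0 => (Lead.dom a ha ha0).1)
      (key σ Lead.σ_mem fun a ha ha0 => (Lead.dom a ha ha0).2)
  exact (mem_centralizer_iff.1 (hle hz) w hw).symm

end Cfsg.Agent.OddHalf.D7F4.OutModel
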