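import Cfsg.Agent.OddHalf.D7F4.Roots

/-!
# K = F4(q): the pattern "short roots moved, long roots not moved" (S1765, node D7)

`t` an involution of `G`, `X a` (`a ∈ Φ`) the root groups of `K ≤ C(t)` in characteristic 2, `W s ≥ X s` (`s` short)
elementary abelian doubled root groups. The hypotheses are `PatA`; the conclusions are the relations between the `W s`:

* `sixty` : `[W s, W s'] = 1` at 60°; `X120`, `W120`: `[X d, W s] ≤ W (s + d)`, `[W s, W s'] ≤ W (s + s')` at 120°;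
* `ninety` : `[W s, W s'] ≤ X (s + s')` at 90°; `X135` : `[X r, W s] ≤ W (r + s) X (r + 2 s)` at 135°.

By the duality of F4 in characteristic 2 the same theorem covers "long moved, short not moved".
-/

set_option autoImplicit false

namespace Cfsg.Agent.OddHalf.D7F4

/-- The hypotheses: K-facts, the doubled root groups `W s` (`s` short), long roots not moved. -/
structure PatA {L G : Type*} [AddCommGroup L] [Group G] (t : G) (B : L → L → ℤ) (Φ : Set L)
    (X W : L → Subgroup G) : Prop where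
  roots : Roots B Φ
  tt : t * t = 1
  tX : ∀ a ∈ Φ, ∀ x ∈ X a, t * x = x * t
  Xne : ∀ a ∈ Φ, ∃ x ∈ X a, x ≠ 1
  Xsq : ∀ a ∈ Φ, ∀ x ∈ X a, x * x = 1
  /-- `X a`, `X b` commute for `(a, b) ≥ 0` (characteristic 2: also for orthogonal short roots) -/
  X0 : ∀ a ∈ Φ, ∀ b ∈ Φ, 0 ≤ B a b → ∀ x ∈ X a, ∀ y ∈ X b, x * y = y * x
  X1 : ∀ a ∈ Φ, ∀ b ∈ Φ, B a a = B b b → B a b < 0 → a ≠ -b → ∀ x ∈ X a, ∀ y ∈ X b, x * y * x⁻¹ * y⁻¹ ∈ X (a + b)
  X1nd : ∀ a ∈ Φ, ∀ b ∈ Φ, B a a = B b b → B a b < 0 → a ≠ -b → ∀ x ∈ X a, ∀ y ∈ X b, x * y = y * x →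
    x = 1 ∨ y = 1
  X1surj : ∀ a ∈ Φ, ∀ b ∈ Φ, B a a = B b b → B a b < 0 → a ≠ -b → ∀ y ∈ X b, y ≠ 1 → ∀ z ∈ X (a + b),
    ∃ x ∈ X a, x * y * x⁻¹ * y⁻¹ = z
  X2 : ∀ a ∈ Φ, ∀ b ∈ Φ, B a a = 4 → B b b = 2 → B a b = -2 → ∀ x ∈ X a, ∀ y ∈ X b,
    ∃ z ∈ X (a + b), ∃ w ∈ X (a + b + b), x * y * x⁻¹ * y⁻¹ = z * w
  X2nd : ∀ a ∈ Φ, ∀ b ∈ Φ, B a a = 4 → B b b = 2 → B a b = -2 → ∀ x ∈ X a, ∀ y ∈ X b, x * y = y * x → x = 1 ∨ y = 1
  ind : ∀ a ∈ Φ, ∀ b ∈ Φ, a ≠ b → ∀ x ∈ X a, x ∈ X b → x = 1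
  ind3 : ∀ a ∈ Φ, ∀ b ∈ Φ, B a a = 2 → B b b = 2 → B a b = 0 → ∀ x ∈ X a, ∀ y ∈ X b, ∀ z ∈ X (a + b),
    x * y * z = 1 → x = 1
  -- the doubled root groups
  XW : ∀ s ∈ Φ, B s s = 2 → X s ≤ W s
  Wsq : ∀ s ∈ Φ, B s s = 2 → ∀ w ∈ W s, w * w = 1
  brk : ∀ s ∈ Φ, B s s = 2 → ∀ w ∈ W s, w⁻¹ * (t * w * t) ∈ X s
  cent : ∀ s ∈ Φ, B s s = 2 → ∀ w ∈ W s, t * w = w * t → w ∈ X s
  surj : ∀ s ∈ Φ, B s s = 2 → ∀ x ∈ X s, ∃ w ∈ W s, w⁻¹ * (t * w * t) = x
  /-- `W s` commutes with `X a`: `a` long, `(a, s) ≥ 0` or `a` short, `(a, s) > 0` -/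
  WX : ∀ s ∈ Φ, B s s = 2 → ∀ a ∈ Φ, (B a a = 4 ∧ 0 ≤ B a s ∨ B a a = 2 ∧ 0 < B a s) →
    ∀ w ∈ W s, ∀ x ∈ X a, w * x = x * w
  WX0 : ∀ s ∈ Φ, B s s = 2 → ∀ a ∈ Φ, B a a = 2 → B a s = 0 → ∀ w ∈ W s, ∀ x ∈ X a, w * x * w⁻¹ * x⁻¹ ∈ X (s + a)
  /-- long roots are not moved -/
  NM : ∀ r ∈ Φ, B r r = 4 → ∀ x ∈ X r, ∀ g : G, g⁻¹ * t * g = t * x → x = 1
  /-- the double centraliser -/
  K2 : ∀ s ∈ Φ, ∀ s' ∈ Φ, B s s = 2 → B s' s' = 2 → B s s' < 2 → -2 < B s s' → ∀ c, c * t = t * c →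
    (∀ a ∈ Φ, (B a a = 4 ∧ 0 ≤ B a s ∧ 0 ≤ B a s' ∨ B a a = 2 ∧ 0 < B a s ∧ 0 < B a s') →
      ∀ x ∈ X a, c * x = x * c) →
    ∃ x ∈ X s, ∃ y ∈ X s', ∃ z, (B s s' = 1 ∧ z = 1 ∨ B s s' ≤ 0 ∧ z ∈ X (s + s')) ∧
      (c = x * y * z ∨ c = t * (x * y * z))
  aux90 : ∀ s ∈ Φ, ∀ s' ∈ Φ, B s s = 2 → B s' s' = 2 → B s s' = 0 → ∃ d ∈ Φ, B d d = 2 ∧ B d s = 1 ∧ B d s' = -1
  aux120 : ∀ s ∈ Φ, ∀ s' ∈ Φ, B s s = 2 → B s' s' = 2 → B s s' = -1 →
    ∃ d ∈ Φ, B d d = 2 ∧ B d s = -1 ∧ B d s' = 1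

namespace PatA

variable {L G : Type*} [AddCommGroup L] [Group G]

/-- an equation between products of two factors, in a product -/
theorem ra {x y z : G} (h : x * y = z) (A : G) : x * (y * A) = z * A := by rw [← mul_assoc, h]

theorem inv_of_sq {x : G} (h : x * x = 1) : x⁻¹ = x := inv_eq_of_mul_eq_one_left h

theorem comm_of_sq {x y : G} (hx : x * x = 1) (hy : y * y = 1) (hxy : (x * y) * (x * y) = 1) : x * y = y * x := by
  calc x * y = x * ((x * y) * (x * y)) * y := by rw [hxy, mul_one]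
    _ = (x * x) * (y * x) * (y * y) := by group
    _ = y * x := by rw [hx, hy, one_mul, mul_one]

variable {t : G} {B : L → L → ℤ} {Φ : Set L} {X W : L → Subgroup G}

/-- `W s` is abelian -/
theorem Wab (h : PatA t B Φ X W) {s : L} (hs : s ∈ Φ) (hss : B s s = 2) {v w : G} (hv : v ∈ W s) (hw : w ∈ W s) :
    v * w = w * v :=
  comm_of_sq (h.Wsq s hs hss v hv) (h.Wsq s hs hss w hw) (h.Wsq s hs hss _ (mul_mem hv hw))

/-- The data of an element of `W s`. -/
theorem dat (h : PatA t B Φ X W) {s : L} (hs : s ∈ Φ) (hss : B s s = 2) {w : G} (hw : w ∈ W s) :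
    ∃ a ∈ X s, t * w * t = w * a ∧ a * w = w * a ∧ (a = 1 → w ∈ X s) := by
  refine ⟨w⁻¹ * (t * w * t), h.brk s hs hss w hw, by rw [mul_inv_cancel_left],
    h.Wab hs hss (h.XW s hs hss (h.brk s hs hss w hw)) hw, ?_⟩
  intro h1
  apply h.cent s hs hss w hw
  have h2 : t * w * t = w := (inv_mul_eq_one.1 h1).symm
  calc t * w = t * w * (t * t) := by rw [h.tt, mul_one]
    _ = (t * w * t) * t := by group
    _ = w * t := by rw [h2]

/-- `t w t = w a ⇒ w⁻¹ t w = a t` -/
theorem inv_conj (h : PatA t B Φ X W) {w a : G} (ha : t * w * t = w * a) : w⁻¹ * t * w = a * t := by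
  have h1 : w⁻¹ * t * w = w⁻¹ * (t * w * t) * (t * t) * (t * w * t)⁻¹ * t * w := by
    rw [h.tt]; group
  have h2 : t * w = w * a * t := by rw [← ha, mul_assoc, h.tt, mul_one]
  rw [mul_assoc, h2]; group

/-- `u` commutes with `g⁻¹ (X c) g` for `c` in the cone -/
theorem YD (h : PatA t B Φ X W) {s s' c : L} (hs : s ∈ Φ) (hs' : s' ∈ Φ) (hc : c ∈ Φ) (hss : B s s = 2)
    (hss' : B s' s' = 2) (h1 : B s s' = 1)
    (hY : B c c = 4 ∧ 0 ≤ B c s ∧ 0 ≤ B c s' ∨ B c c = 2 ∧ 0 < B c s ∧ 0 < B c s')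
    {g x u : G} (hg : g ∈ X (s - s')) (hx : x ∈ X c) (hu : u ∈ W s') : u * (g⁻¹ * x * g) = g⁻¹ * x * g * u := by
  have R := h.roots
  obtain ⟨hd, hdd⟩ := R.sub_ss hs hs' hss hss' h1
  have hcd : B c (s - s') = B c s - B c s' := R.sub_right _ _ _
  have hv : B (s - s') s' = -1 := by rw [R.sub_left, h1, hss']; norm_num
  generalize s - s' = δ at hd hdd hcd hv hg
  have hcs' : B c c = 4 ∧ 0 ≤ B c s' ∨ B c c = 2 ∧ 0 < B c s' := by
    rcases hY with ⟨h2, -, h3⟩ | ⟨h2, -, h3⟩
    · exact Or.inl ⟨h2, h3⟩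
    · exact Or.inr ⟨h2, h3⟩
  have hux : u * x = x * u := h.WX s' hs' hss' c hc hcs' u hu x hx
  by_cases h0 : 0 ≤ B c δ
  · have hgx : x * g = g * x := h.X0 c hc _ hd h0 x hx g hg
    have : g⁻¹ * x * g = x := by rw [mul_assoc, hgx, inv_mul_cancel_left]
    rw [this]; exact hux
  · rw [not_le] at h0
    rcases hY with ⟨h2, h3, h4⟩ | ⟨h2, h3, h4⟩
    · -- `c` long
      have h5 := R.ls c hc _ hd h2 hdd
      have h6 : B c δ = -2 := by omega
      have h7 := R.ls c hc s' hs' h2 hss'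
      have h8 : B c s' = 2 := by
        have := R.ls c hc s hs h2 hss
        omega
      obtain ⟨z, hz, w, hw, he⟩ := h.X2 c hc _ hd h2 hdd h6 x hx g⁻¹ (inv_mem hg)
      obtain ⟨hm1, hn1, -, hm2, hn2⟩ := R.add_ls hc hd h2 hdd h6
      have hz' : u * z = z * u := h.WX s' hs' hss' _ hm1 (Or.inr ⟨hn1, by rw [R.add_left, h8, hv]; norm_num⟩) u hu z hz
      have hw' : u * w = w * u := h.WX s' hs' hss' _ hm2
        (Or.inl ⟨hn2, by rw [R.add_left, R.add_left, h8, hv]; norm_num⟩) u hu w hw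
      have he' : g⁻¹ * x * g = (z * w)⁻¹ * x := by
        rw [← he]; group
      rw [he']
      have hzw : Commute u (z * w) := Commute.mul_right hz' hw'
      exact (Commute.mul_right hzw.inv_right hux : Commute u ((z * w)⁻¹ * x))
    · -- `c` short
      have h5 := R.ss c hc s hs h2 hss
      have h6 := R.ss c hc s' hs' h2 hss'
      have h7 : B c δ = -1 := by omega
      obtain ⟨hm1, hn1, hcne⟩ := R.add_ss hc hd h2 hdd h7
      have he := h.X1 c hc _ hd (by rw [h2, hdd]) h0 hcne x hx g⁻¹ (inv_mem hg)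
      have hz' := h.WX s' hs' hss' _ hm1 (Or.inr ⟨hn1, by rw [R.add_left, hv]; omega⟩) u hu _ he
      set z := x * g⁻¹ * x⁻¹ * g⁻¹⁻¹ with hz
      have he' : g⁻¹ * x * g = z⁻¹ * x := by
        rw [hz]; group
      rw [he']
      have hzw : Commute u z := hz'
      exact (Commute.mul_right hzw.inv_right hux : Commute u (z⁻¹ * x))

/-- `u` commutes with `x` and `y`: the neighbours at 60° -/
theorem WX' (h : PatA t B Φ X W) {s a : L} (hs : s ∈ Φ) (ha : a ∈ Φ) (hss : B s s = 2) (haa : B a a = 2)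
    (h1 : 0 < B a s) {w x : G} (hw : w ∈ W s) (hx : x ∈ X a) : w * x = x * w :=
  h.WX s hs hss a ha (Or.inr ⟨haa, h1⟩) w hw x hx

/-- (B) `g u g⁻¹ = τ x y u w` -/
theorem formB (h : PatA t B Φ X W) {s s' : L} (hs : s ∈ Φ) (hs' : s' ∈ Φ) (hss : B s s = 2)
    (hss' : B s' s' = 2) (h1 : B s s' = 1) {g u w a b : G} (hg : g ∈ X (s - s')) (hu : u ∈ W s') (hw : w ∈ W s)
    (ha : a ∈ X s') (hb : b ∈ X s) (hau : t * u * t = u * a) (hbw : t * w * t = w * b)
    (hgab : g * a * g⁻¹ = a * b) :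
    ∃ x ∈ X s, ∃ y ∈ X s', g * u * g⁻¹ = x * y * u * w ∨ g * u * g⁻¹ = t * (x * y) * u * w := by
  have R := h.roots
  obtain ⟨hd, hdd⟩ := R.sub_ss hs hs' hss hss' h1
  have hgt : t * g = g * t := h.tX _ hd g hg
  have htt := h.tt
  have haw : w * a = a * w := h.WX' hs hs' hss hss' (by rw [R.symm, h1]; norm_num) hw ha
  have e1 : u⁻¹ * t * u = a * t := h.inv_conj hau
  have e2 : w⁻¹ * t * w = b * t := h.inv_conj hbw
  set k := g * u * g⁻¹ * (u * w)⁻¹ with hk
  have hgt' : g⁻¹ * t = t * g⁻¹ := by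
    rw [inv_mul_eq_iff_eq_mul, ← mul_assoc, ← hgt, mul_inv_cancel_right]
  have hkt : k * t = t * k := by
    -- `k⁻¹ t k = t`
    have e3 : (g * u * g⁻¹)⁻¹ * t * (g * u * g⁻¹) = a * b * t := by
      calc (g * u * g⁻¹)⁻¹ * t * (g * u * g⁻¹) = g * u⁻¹ * (g⁻¹ * t) * (g * u * g⁻¹) := by group
        _ = g * (u⁻¹ * t * u) * g⁻¹ := by rw [hgt']; group
        _ = g * (a * t) * g⁻¹ := by rw [e1]
        _ = g * a * g⁻¹ * t := by rw [mul_assoc g (a * t), mul_assoc a t, ← hgt']; group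
        _ = a * b * t := by rw [hgab]
    have e4 : (u * w)⁻¹ * t * (u * w) = a * b * t := by
      calc (u * w)⁻¹ * t * (u * w) = w⁻¹ * (u⁻¹ * t * u) * w := by group
        _ = w⁻¹ * (a * t) * w := by rw [e1]
        _ = (w⁻¹ * a * w) * (w⁻¹ * t * w) := by group
        _ = a * (b * t) := by rw [e2, mul_assoc w⁻¹ a w, ← haw]; group
        _ = a * b * t := by group
    have e5 : k⁻¹ * t * k = t := by
      calc k⁻¹ * t * k = (u * w) * ((g * u * g⁻¹)⁻¹ * t * (g * u * g⁻¹)) * (u * w)⁻¹ := by rw [hk]; group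
        _ = (u * w) * ((u * w)⁻¹ * t * (u * w)) * (u * w)⁻¹ := by rw [e3, e4]
        _ = t := by group
    calc k * t = k * (k⁻¹ * t * k) := by rw [e5]
      _ = t * k := by group
  have hY : ∀ c ∈ Φ, (B c c = 4 ∧ 0 ≤ B c s ∧ 0 ≤ B c s' ∨ B c c = 2 ∧ 0 < B c s ∧ 0 < B c s') →
      ∀ x ∈ X c, k * x = x * k := by
    intro c hc hY x hx
    have h2 := h.YD hs hs' hc hss hss' h1 hY hg hx hu
    have h3 : u * x = x * u := h.WX s' hs' hss' c hc (by
      rcases hY with ⟨h4, -, h5⟩ | ⟨h4, -, h5⟩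
      · exact Or.inl ⟨h4, h5⟩
      · exact Or.inr ⟨h4, h5⟩) u hu x hx
    have h4 : w * x = x * w := h.WX s hs hss c hc (by
      rcases hY with ⟨h4, h5, -⟩ | ⟨h4, h5, -⟩
      · exact Or.inl ⟨h4, h5⟩
      · exact Or.inr ⟨h4, h5⟩) w hw x hx
    have h5 : Commute (g * u * g⁻¹) x := by
      show g * u * g⁻¹ * x = x * (g * u * g⁻¹)
      calc g * u * g⁻¹ * x = g * (u * (g⁻¹ * x * g)) * g⁻¹ := by group
        _ = x * (g * u * g⁻¹) := by rw [h2]; group
    have h6 : Commute (u * w) x := Commute.mul_left h3 h4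
    exact Commute.mul_left h5 h6.inv_left
  obtain ⟨x, hx, y, hy, z, hz, hkk⟩ := h.K2 s hs s' hs' hss hss' (by omega) (by omega) k hkt hY
  have hz1 : z = 1 := by
    rcases hz with hz | hz
    · exact hz.2
    · omega
  rw [hz1, mul_one] at hkk
  refine ⟨x, hx, y, hy, ?_⟩
  have e6 : g * u * g⁻¹ = k * u * w := by rw [hk]; group
  rw [e6]
  rcases hkk with hkk | hkk
  · left; rw [hkk]
  · right; rw [hkk]

/-- (B'') `g² = 1` : the `X s'`-component is trivial; `g u g⁻¹ = τ x u w`. -/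
theorem formB' (h : PatA t B Φ X W) {s s' : L} (hs : s ∈ Φ) (hs' : s' ∈ Φ) (hss : B s s = 2)
    (hss' : B s' s' = 2) (h1 : B s s' = 1) {g u w a b : G} (hg : g ∈ X (s - s')) (hg1 : g ≠ 1) (hu : u ∈ W s')
    (hw : w ∈ W s) (ha : a ∈ X s') (hb : b ∈ X s) (hau : t * u * t = u * a) (hbw : t * w * t = w * b)
    (hgab : g * a * g⁻¹ = a * b) :
    ∃ x ∈ X s, g * u * g⁻¹ = x * u * w ∨ g * u * g⁻¹ = t * x * u * w := by
  have R := h.roots
  obtain ⟨hd, hdd⟩ := R.sub_ss hs hs' hss hss' h1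
  obtain ⟨x, hx, y, hy, hA⟩ := h.formB hs hs' hss hss' h1 hg hu hw ha hb hau hbw hgab
  have hgg := h.Xsq _ hd g hg
  have hgi := inv_of_sq hgg
  have hww := h.Wsq s hs hss w hw
  have hgw : g * w = w * g := (h.WX' hs hd hss hdd (by rw [R.sub_left, hss, R.symm, h1]; norm_num) hw hg).symm
  have hgx : g * x = x * g := h.X0 _ hd s hs (by rw [R.sub_left, hss, R.symm, h1]; norm_num) g hg x hx
  have hgt : t * g = g * t := h.tX _ hd g hg
  have hxt := h.tX s hs x hx
  have hyt := h.tX s' hs' y hy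
  have hxx := h.Xsq s hs x hx
  have hyy := h.Xsq s' hs' y hy
  have hxy : x * y = y * x := h.X0 s hs s' hs' (by omega) x hx y hy
  have hvne : s - s' ≠ -s' := R.ne_neg (by rw [R.sub_left, h1, hss']; norm_num)
  -- `[g, y]` lies in `X s`
  have hgy := h.X1 _ hd s' hs' (by rw [hdd, hss']) (by rw [R.sub_left, h1, hss']; norm_num) hvne g hg y hy
  rw [sub_add_cancel] at hgy
  set q := g * y * g⁻¹ * y⁻¹ with hq
  have hgy' : g * y * g⁻¹ = q * y := by rw [hq]; group
  have hqt := h.tX s hs q hgy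
  have hqx : q * x = x * q := h.X0 s hs s hs (by omega) q hgy x hx
  have hqy : q * y = y * q := h.X0 s hs s' hs' (by omega) q hgy y hy
  have hwx : w * x = x * w := h.WX' hs hs hss hss (by omega) hw hx
  have hwy : w * y = y * w := h.WX' hs hs' hss hss' (by rw [R.symm]; omega) hw hy
  have hux : u * x = x * u := h.WX' hs' hs hss' hss (by omega) hu hx
  have huy : u * y = y * u := h.WX' hs' hs' hss' hss' (by omega) hu hy
  have key : q = 1 := by
    -- `u = g (g u g⁻¹) g⁻¹`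
    have e0 : g * (g * u * g⁻¹) * g⁻¹ = u := by
      rw [hgi]
      calc g * (g * u * g) * g = (g * g) * u * (g * g) := by group
        _ = u := by rw [hgg, one_mul, mul_one]
    have gt' : g * t * g⁻¹ = t := by rw [← hgt, mul_inv_cancel_right]
    have gx' : g * x * g⁻¹ = x := by rw [hgx, mul_inv_cancel_right]
    have gw' : g * w * g⁻¹ = w := by rw [hgw, mul_inv_cancel_right]
    rcases hA with hA | hA
    · have e1 : g * (g * u * g⁻¹) * g⁻¹ = x * (q * y) * (x * y * u * w) * w := by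
        calc g * (g * u * g⁻¹) * g⁻¹ = g * (x * y * u * w) * g⁻¹ := by rw [hA]
          _ = (g * x * g⁻¹) * (g * y * g⁻¹) * (g * u * g⁻¹) * (g * w * g⁻¹) := by group
          _ = x * (q * y) * (x * y * u * w) * w := by rw [gx', hgy', gw', hA]
      rw [e0] at e1
      have e2 : x * (q * y) * (x * y * u * w) * w = q * ((x * x) * (y * y)) * u * (w * w) := by
        calc x * (q * y) * (x * y * u * w) * w = (x * q) * (y * x) * y * u * (w * w) := by group
          _ = (q * x) * (x * y) * y * u * (w * w) := by rw [hqx, hxy]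
          _ = _ := by group
      rw [e2, hxx, hyy, hww, mul_one, mul_one, mul_one] at e1
      exact (mul_eq_right.1 e1.symm)
    · have e1 : g * (g * u * g⁻¹) * g⁻¹ = t * (x * (q * y)) * (t * (x * y) * u * w) * w := by
        calc g * (g * u * g⁻¹) * g⁻¹ = g * (t * (x * y) * u * w) * g⁻¹ := by rw [hA]
          _ = (g * t * g⁻¹) * ((g * x * g⁻¹) * (g * y * g⁻¹)) * (g * u * g⁻¹) * (g * w * g⁻¹) := by group
          _ = _ := by rw [gt', gx', hgy', gw', hA]
      rw [e0] at e1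
      have e2 : t * (x * (q * y)) * (t * (x * y) * u * w) * w = q * ((x * x) * (y * y)) * u * (w * w) := by
        have hc : Commute t (x * (q * y)) := Commute.mul_right hxt (Commute.mul_right hqt hyt)
        calc t * (x * (q * y)) * (t * (x * y) * u * w) * w = t * (x * (q * y) * t) * ((x * y) * u * w) * w := by group
          _ = (t * t) * x * q * (y * x) * y * u * (w * w) := by rw [← hc.eq]; group
          _ = (x * q) * (x * y) * y * u * (w * w) := by rw [h.tt, ← hxy]; group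
          _ = _ := by rw [← hqx]; group
      rw [e2, hxx, hyy, hww, mul_one, mul_one, mul_one] at e1
      exact (mul_eq_right.1 e1.symm)
  have hy1 : y = 1 := by
    have h2 : g * y = y * g := by
      rw [key, one_mul] at hgy'
      exact mul_inv_eq_iff_eq_mul.1 hgy'
    rcases h.X1nd _ hd s' hs' (by rw [hdd, hss']) (by rw [R.sub_left, h1, hss']; norm_num) hvne g hg y hy h2 with h3 | h3
    · exact absurd h3 hg1
    · exact h3
  rw [hy1, mul_one] at hA
  exact ⟨x, hx, hA⟩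

/-- the existence of `g ∈ X (s - s')` with `[g, a] = b` -/
theorem exists_g (h : PatA t B Φ X W) {s s' : L} (hs : s ∈ Φ) (hs' : s' ∈ Φ) (hss : B s s = 2)
    (hss' : B s' s' = 2) (h1 : B s s' = 1) {a b : G} (ha : a ∈ X s') (ha1 : a ≠ 1) (hb : b ∈ X s) :
    ∃ g ∈ X (s - s'), g * a * g⁻¹ = a * b := by
  have R := h.roots
  obtain ⟨hd, hdd⟩ := R.sub_ss hs hs' hss hss' h1
  have hvne : s - s' ≠ -s' := R.ne_neg (by rw [R.sub_left, h1, hss']; norm_num)
  have hb' : b ∈ X (s - s' + s') := by rw [sub_add_cancel]; exact hb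
  obtain ⟨g, hg, he⟩ := h.X1surj _ hd s' hs' (by rw [hdd, hss']) (by rw [R.sub_left, h1, hss']; norm_num) hvne
    a ha ha1 b hb'
  refine ⟨g, hg, ?_⟩
  have hab : a * b = b * a := h.X0 s' hs' s hs (by rw [R.symm]; omega) a ha b hb
  rw [hab, ← he]; group

/-- squares of (B'') -/
theorem sq_or (h : PatA t B Φ X W) {s s' : L} (hs : s ∈ Φ) (hs' : s' ∈ Φ) (hss : B s s = 2)
    (hss' : B s' s' = 2) (h1 : B s s' = 1) {u w a b : G} (hu : u ∈ W s')
    (hw : w ∈ W s) (ha : a ∈ X s') (hb : b ∈ X s) (hau : t * u * t = u * a) (hbw : t * w * t = w * b) :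
    (u * w) * (u * w) = 1 ∨ (u * w) * (u * w) = a * b := by
  have R := h.roots
  have hww := h.Wsq s hs hss w hw
  have huu := h.Wsq s' hs' hss' u hu
  have hbw' : b * w = w * b := (h.WX' hs hs hss hss (by omega) hw hb).symm
  have haw : a * w = w * a := (h.WX' hs hs' hss hss' (by rw [R.symm, h1]; norm_num) hw ha).symm
  have hau' : a * u = u * a := (h.WX' hs' hs' hss' hss' (by omega) hu ha).symm
  have hbu : b * u = u * b := (h.WX' hs' hs hss' hss (by rw [h1]; norm_num) hu hb).symm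
  have hab : a * b = b * a := h.X0 s' hs' s hs (by rw [R.symm]; omega) a ha b hb
  have haa := h.Xsq s' hs' a ha
  have hbb := h.Xsq s hs b hb
  by_cases ha1 : a = 1
  · left
    -- `u ∈ X s'`
    obtain ⟨a', ha', hau'', -, himp⟩ := h.dat hs' hss' hu
    have : a' = a := mul_left_cancel (hau''.symm.trans hau)
    have hux : u ∈ X s' := himp (this.trans ha1)
    have huw : w * u = u * w := h.WX' hs hs' hss hss' (by rw [R.symm, h1]; norm_num) hw hux
    calc u * w * (u * w) = u * (w * u) * w := by group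
      _ = (u * u) * (w * w) := by rw [huw]; group
      _ = 1 := by rw [huu, hww, one_mul]
  by_cases hb1 : b = 1
  · left
    obtain ⟨b', hb', hbw'', -, himp⟩ := h.dat hs hss hw
    have : b' = b := mul_left_cancel (hbw''.symm.trans hbw)
    have hwx : w ∈ X s := himp (this.trans hb1)
    have huw : u * w = w * u := h.WX' hs' hs hss' hss (by rw [h1]; norm_num) hu hwx
    calc u * w * (u * w) = u * (w * u) * w := by group
      _ = (u * u) * (w * w) := by rw [← huw]; group
      _ = 1 := by rw [huu, hww, one_mul]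
  obtain ⟨g, hg, hgab⟩ := h.exists_g hs hs' hss hss' h1 ha ha1 hb
  have hg1 : g ≠ 1 := by
    rintro rfl
    rw [one_mul, inv_one, mul_one] at hgab
    exact hb1 (mul_eq_left.1 hgab.symm)
  obtain ⟨x, hx, hA⟩ := h.formB' hs hs' hss hss' h1 hg hg1 hu hw ha hb hau hbw hgab
  have hAA : (g * u * g⁻¹) * (g * u * g⁻¹) = 1 := by
    calc (g * u * g⁻¹) * (g * u * g⁻¹) = g * (u * u) * g⁻¹ := by group
      _ = 1 := by rw [huu]; group
  have hxx := h.Xsq s hs x hx
  have hux : u * x = x * u := h.WX' hs' hs hss' hss (by omega) hu hx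
  have hwx : w * x = x * w := h.WX' hs hs hss hss (by omega) hw hx
  have hxt := h.tX s hs x hx
  rcases hA with hA | hA
  · left
    rw [hA] at hAA
    have hc : Commute (u * w) x := Commute.mul_left hux hwx
    calc u * w * (u * w) = x * x * (u * w) * (u * w) := by rw [hxx]; group
      _ = x * (u * w * x) * (u * w) := by rw [hc.eq]; group
      _ = x * u * w * (x * u * w) := by group
      _ = 1 := hAA
  · right
    rw [hA] at hAA
    have hc : Commute (u * w) x := Commute.mul_left hux hwx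
    have e1 : t * x * u * w * (t * x * u * w) = (a * b) * ((u * w) * (u * w)) := by
      calc t * x * u * w * (t * x * u * w) = t * x * (u * w) * (t * x) * (u * w) := by group
        _ = t * x * (u * w) * (x * t) * (u * w) := by rw [hxt]
        _ = t * x * ((u * w) * x) * t * (u * w) := by group
        _ = t * (x * x) * (u * w) * t * (u * w) := by rw [hc.eq]; group
        _ = (t * u * t) * (t * t)⁻¹ * (t * w * t) * (u * w) := by rw [hxx]; group
        _ = (u * a) * (w * b) * (u * w) := by rw [h.tt, hau, hbw]; group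
        _ = u * (a * w) * (b * u) * w := by group
        _ = u * w * (a * u) * b * w := by rw [haw, hbu]; group
        _ = u * w * u * a * (b * w) := by rw [hau']; group
        _ = u * w * u * (a * w) * b := by rw [hbw']; group
        _ = (u * w) * (u * w) * (a * b) := by rw [haw]; group
        _ = _ := by
          have hc1 : Commute (a * b) (u * w) :=
            Commute.mul_left (Commute.mul_right hau' haw) (Commute.mul_right hbu hbw')
          exact (Commute.mul_right hc1 hc1).eq.symm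
    rw [e1] at hAA
    have h2 : (a * b) * (a * b) = 1 := by
      calc (a * b) * (a * b) = a * (b * a) * b := by group
        _ = (a * a) * (b * b) := by rw [← hab]; group
        _ = 1 := by rw [haa, hbb, one_mul]
    exact (mul_left_cancel (hAA.trans h2.symm))

/-- **60°**, more than two elements in the root groups -/
theorem sixty_of_big (h : PatA t B Φ X W) (hbig : ∀ s ∈ Φ, B s s = 2 → ∀ x ∈ X s, ∃ y ∈ X s, y ≠ 1 ∧ y ≠ x)
    {s s' : L} (hs : s ∈ Φ) (hs' : s' ∈ Φ) (hss : B s s = 2)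
    (hss' : B s' s' = 2) (h1 : B s s' = 1) {u w : G} (hw : w ∈ W s) (hu : u ∈ W s') : w * u = u * w := by
  have R := h.roots
  obtain ⟨a, ha, hau, hau', himpa⟩ := h.dat hs' hss' hu
  obtain ⟨b, hb, hbw, hbw', himpb⟩ := h.dat hs hss hw
  have hww := h.Wsq s hs hss w hw
  have huu := h.Wsq s' hs' hss' u hu
  by_cases hc : (u * w) * (u * w) = 1
  · exact (comm_of_sq huu hww hc).symm
  exfalso
  have hc1 : (u * w) * (u * w) = a * b := (h.sq_or hs hs' hss hss' h1 hu hw ha hb hau hbw).resolve_left hc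
  have ha1 : a ≠ 1 := by
    intro ha1
    have huw : w * u = u * w := h.WX' hs hs' hss hss' (by rw [R.symm, h1]; norm_num) hw (himpa ha1)
    apply hc
    calc u * w * (u * w) = u * (w * u) * w := by group
      _ = (u * u) * (w * w) := by rw [huw]; group
      _ = 1 := by rw [huu, hww, one_mul]
  obtain ⟨b', hb', hb'1, hb'b⟩ := hbig s hs hss b hb
  obtain ⟨w', hw', hbw2⟩ := h.surj s hs hss b' hb'
  have hbw2' : t * w' * t = w' * b' := by rw [← hbw2, mul_inv_cancel_left]
  have hcom : ∀ v ∈ W s, ∀ x ∈ X s, v * x = x * v := fun v hv x hx => h.WX' hs hs hss hss (by omega) hv hx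
  have hww' : w * w' = w' * w := h.Wab hs hss hw hw'
  have hbb := h.Xsq s hs b hb
  have haa := h.Xsq s' hs' a ha
  have hbb' := h.Xsq s hs b' hb'
  have e1 : t * (w * w') * t = (w * w') * (b * b') := by
    calc t * (w * w') * t = (t * w * t) * (t * t)⁻¹ * (t * w' * t) := by group
      _ = w * (b * w') * b' := by rw [h.tt, hbw, hbw2']; group
      _ = (w * w') * (b * b') := by rw [← hcom w' hw' b hb]; group
  have hbbm : b * b' ∈ X s := mul_mem hb hb'
  have h2 := h.sq_or hs hs' hss hss' h1 hu hw' ha hb' hau hbw2'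
  have h3 := h.sq_or hs hs' hss hss' h1 hu (mul_mem hw hw') ha hbbm hau e1
  have hui : u⁻¹ = u := inv_of_sq huu
  have hww'2 := h.Wsq s hs hss w' hw'
  -- `c(u, w w') = c(u, w) c(u, w')`
  have e2 : (u * (w * w')) * (u * (w * w')) = ((u * w) * (u * w)) * ((u * w') * (u * w')) := by
    rw [hc1]
    have hw'a : w' * a = a * w' := h.WX' hs hs' hss hss' (by rw [R.symm, h1]; norm_num) hw' ha
    have hw'b : w' * b = b * w' := hcom w' hw' b hb
    have hua : u * a = a * u := h.WX' hs' hs' hss' hss' (by omega) hu ha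
    have hub : u * b = b * u := h.WX' hs' hs hss' hss (by omega) hu hb
    have hwi : w⁻¹ = w := inv_of_sq hww
    -- `u w = a b w u`
    have e3 : u * w = (a * b) * (w * u) := by
      have : (u * w) * (u * w) * (w⁻¹ * u⁻¹) = u * w := by group
      rw [← this, hc1, hwi, hui]
    have hcab : Commute (w' * u * w') (a * b) :=
      Commute.mul_left (Commute.mul_left (Commute.mul_right hw'a hw'b) (Commute.mul_right hua hub))
        (Commute.mul_right hw'a hw'b)
    calc (u * (w * w')) * (u * (w * w')) = (u * w) * (w' * u * (w * w')) := by group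
      _ = (u * w) * (w' * u * (w' * w)) := by rw [hww']
      _ = (a * b) * (w * u) * (w' * u * w') * w := by rw [e3]; group
      _ = (a * b) * w * (u * w' * u * w') * w := by group
      _ = (a * b) * w * (u * w' * (u * w')) * w := by group
      _ = (a * b) * ((u * w') * (u * w')) := by
        have hcw : w * ((u * w') * (u * w')) = ((u * w') * (u * w')) * w := by
          rcases h2 with h2 | h2
          · rw [h2, mul_one, one_mul]
          · rw [h2]
            have h4 : w * a = a * w := h.WX' hs hs' hss hss' (by rw [R.symm, h1]; norm_num) hw ha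
            have h5 : w * b' = b' * w := hcom w hw b' hb'
            exact (Commute.mul_right h4 h5 : Commute w (a * b'))
        calc (a * b) * w * (u * w' * (u * w')) * w = (a * b) * (w * (u * w' * (u * w'))) * w := by group
          _ = (a * b) * (u * w' * (u * w')) * (w * w) := by rw [hcw]; group
          _ = _ := by rw [hww, mul_one]
  rw [e2, hc1] at h3
  have hindX : ∀ x ∈ X s', ∀ y ∈ X s, x * y = 1 → x = 1 ∧ y = 1 := by
    intro x hx y hy hxy
    have hne : s ≠ s' := by rintro rfl; omega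
    have h4 : y = x⁻¹ := eq_inv_of_mul_eq_one_right hxy
    have h5 : y = 1 := h.ind s hs s' hs' hne y hy (by rw [h4]; exact inv_mem hx)
    refine ⟨?_, h5⟩
    rwa [h5, mul_one] at hxy
  have hab : a * b = b * a := h.X0 s' hs' s hs (by rw [R.symm]; omega) a ha b hb
  have hbb'c : b * b' = b' * b := h.X0 s hs s hs (by omega) b hb b' hb'
  have hab' : a * b' = b' * a := h.X0 s' hs' s hs (by rw [R.symm]; omega) a ha b' hb'
  rcases h2 with h2 | h2
  · rw [h2, mul_one] at h3
    rcases h3 with h3 | h3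
    · exact hc (hc1.trans h3)
    · -- `b' = 1`
      apply hb'1
      have h4 : a * b * b' = a * b := by rw [mul_assoc]; exact h3.symm
      exact mul_eq_left.1 h4
  · rw [h2] at h3
    -- `a b a b' = b b'`
    have e4 : a * b * (a * b') = b * b' := by
      calc a * b * (a * b') = (a * b) * a * b' := by group
        _ = b * (a * a) * b' := by rw [hab]; group
        _ = b * b' := by rw [haa, mul_one]
    rw [e4] at h3
    rcases h3 with h3 | h3
    · exact hb'b ((mul_left_cancel (h3.trans hbb.symm)))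
    · exact ha1 (mul_eq_right.1 h3.symm)

/-! ### The relations, given the relation at 60° -/

/-- the relation at 60° -/
def Sixty (B : L → L → ℤ) (Φ : Set L) (W : L → Subgroup G) : Prop :=
  ∀ s ∈ Φ, ∀ s' ∈ Φ, B s s = 2 → B s' s' = 2 → B s s' = 1 → ∀ w ∈ W s, ∀ u ∈ W s', w * u = u * w

/-- **120°**: `[X d, W s] ≤ W (s + d)` -/
theorem X120 (h : PatA t B Φ X W) (h6 : Sixty B Φ W) {s d : L} (hs : s ∈ Φ) (hd : d ∈ Φ) (hss : B s s = 2)
    (hdd : B d d = 2) (h1 : B d s = -1) {g u : G} (hg : g ∈ X d) (hu : u ∈ W s) :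
    ∃ w ∈ W (s + d), g * u * g⁻¹ = u * w := by
  have R := h.roots
  obtain ⟨hm, hmm, hne⟩ := R.add_ss hs hd hss hdd (by rw [R.symm]; exact h1)
  have e0 : s + d - s = d := by abel
  have hms : B (s + d) s = 1 := by rw [R.add_left, hss, h1]; norm_num
  obtain ⟨a, ha, hau, hau', himpa⟩ := h.dat hs hss hu
  have hne' : d ≠ -s := R.ne_neg (by omega)
  have hgau := h.X1 d hd s hs (by omega) (by omega) hne' g hg a ha
  have esd : d + s = s + d := add_comm _ _
  rw [esd] at hgau
  by_cases ha1 : a = 1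
  · have hux : u ∈ X s := himpa ha1
    have h2 := h.X1 d hd s hs (by omega) (by omega) hne' g hg u hux
    rw [esd] at h2
    refine ⟨_, h.XW _ hm hmm h2, ?_⟩
    have h3 : u * (g * u * g⁻¹ * u⁻¹) = (g * u * g⁻¹ * u⁻¹) * u :=
      h.X0 s hs _ hm (by rw [R.symm, hms]; norm_num) u hux _ h2
    rw [h3]; group
  by_cases hg1 : g = 1
  · exact ⟨1, one_mem _, by rw [hg1]; group⟩
  set b := g * a * g⁻¹ * a⁻¹ with hb
  obtain ⟨w, hw, hbw⟩ := h.surj _ hm hmm b hgau
  have hbw' : t * w * t = w * b := by rw [← hbw, mul_inv_cancel_left]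
  have hab : a * b = b * a := h.X0 s hs _ hm (by rw [R.symm, hms]; norm_num) a ha b hgau
  have hgab : g * a * g⁻¹ = a * b := by rw [hab, hb]; group
  obtain ⟨x, hx, hA⟩ := h.formB' hm hs hmm hss hms (by rw [e0]; exact hg) hg1 hu hw ha hgau hau hbw' hgab
  have hww := h.Wsq _ hm hmm w hw
  have huu := h.Wsq s hs hss u hu
  have huw : w * u = u * w := h6 _ hm s hs hmm hss hms w hw u hu
  have hux : u * x = x * u := h.WX' hs hm hss hmm (by rw [hms]; norm_num) hu hx
  have hcc : (u * w) * (u * w) = 1 := by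
    calc u * w * (u * w) = u * (w * u) * w := by group
      _ = (u * u) * (w * w) := by rw [huw]; group
      _ = 1 := by rw [huu, hww, one_mul]
  rcases hA with hA | hA
  · refine ⟨x * w, mul_mem (h.XW _ hm hmm hx) hw, ?_⟩
    rw [hA, ← hux]; group
  · -- `τ = t` is impossible
    exfalso
    have hAA : (g * u * g⁻¹) * (g * u * g⁻¹) = 1 := by
      calc (g * u * g⁻¹) * (g * u * g⁻¹) = g * (u * u) * g⁻¹ := by group
        _ = 1 := by rw [huu]; group
    rw [hA] at hAA
    have hxx := h.Xsq _ hm x hx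
    have hwx : w * x = x * w := h.Wab hm hmm hw (h.XW _ hm hmm hx)
    have hxt := h.tX _ hm x hx
    have hc : Commute (u * w) x := Commute.mul_left hux hwx
    have haw : w * a = a * w := h.WX' hm hs hmm hss (by rw [R.symm, hms]; norm_num) hw ha
    have hub : u * b = b * u := h.WX' hs hm hss hmm (by rw [hms]; norm_num) hu hgau
    have e1 : t * x * u * w * (t * x * u * w) = (u * w) * (u * w) * (a * b) := by
      have hbw2 : w * b = b * w := h.Wab hm hmm hw (h.XW _ hm hmm hgau)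
      calc t * x * u * w * (t * x * u * w) = t * x * (u * w) * (t * x) * (u * w) := by group
        _ = t * x * (u * w) * (x * t) * (u * w) := by rw [hxt]
        _ = t * x * ((u * w) * x) * t * (u * w) := by group
        _ = t * (x * x) * (u * w) * t * (u * w) := by rw [hc.eq]; group
        _ = (t * u * t) * (t * t)⁻¹ * (t * w * t) * (u * w) := by rw [hxx]; group
        _ = (u * a) * (w * b) * (u * w) := by rw [h.tt, hau, hbw']; group
        _ = u * (a * w) * (b * u) * w := by group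
        _ = u * (w * a) * (u * b) * w := by rw [← haw, ← hub]
        _ = u * w * (a * u) * (b * w) := by group
        _ = u * w * (u * a) * (w * b) := by rw [hau', hbw2]
        _ = u * w * u * (a * w) * b := by group
        _ = (u * w) * (u * w) * (a * b) := by rw [← haw]; group
    rw [e1, hcc, one_mul] at hAA
    have hne3 : s ≠ s + d := by
      intro h0
      exact R.ne_zero hd (left_eq_add.1 h0)
    apply ha1
    apply h.ind s hs _ hm hne3 a ha
    have : a = b⁻¹ := eq_inv_of_mul_eq_one_left hAA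
    rw [this]
    exact inv_mem hgau

/-- The form used most often: `w⁻¹ x w`, `u x u⁻¹` ... as a commutator in `W (s + d)` -/
theorem X120' (h : PatA t B Φ X W) (h6 : Sixty B Φ W) {s d : L} (hs : s ∈ Φ) (hd : d ∈ Φ) (hss : B s s = 2)
    (hdd : B d d = 2) (h1 : B d s = -1) {g u : G} (hg : g ∈ X d) (hu : u ∈ W s) :
    g * u * g⁻¹ * u⁻¹ ∈ W (s + d) := by
  obtain ⟨w, hw, he⟩ := h.X120 h6 hs hd hss hdd h1 hg hu
  have R := h.roots
  obtain ⟨hm, hmm, -⟩ := R.add_ss hs hd hss hdd (by rw [R.symm]; exact h1)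
  have hms : B (s + d) s = 1 := by rw [R.add_left, hss, h1]; norm_num
  have huw : w * u = u * w := h6 _ hm s hs hmm hss hms w hw u hu
  rw [he, ← huw, mul_inv_cancel_right]
  exact hw

end PatA

end Cfsg.Agent.OddHalf.D7F4
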