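import Cfsg.Agent.OddHalf.D7F4.PatA

/-!
# K = F4(q): the pattern "short roots moved, long roots not moved", relations at 90°, 135°, 120° (S1765, node D7)
-/

set_option autoImplicit false
set_option linter.unusedSimpArgs false

namespace Cfsg.Agent.OddHalf.D7F4

namespace PatA

variable {L G : Type*} [AddCommGroup L] [Group G]
variable {t : G} {B : L → L → ℤ} {Φ : Set L} {X W : L → Subgroup G}

/-- **90°**: `[W s, W s'] ≤ X (s + s')` -/
theorem ninety (h : PatA t B Φ X W) (h6 : Sixty B Φ W) {s s' : L} (hs : s ∈ Φ) (hs' : s' ∈ Φ) (hss : B s s = 2)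
    (hss' : B s' s' = 2) (h1 : B s s' = 0) {w v : G} (hw : w ∈ W s) (hv : v ∈ W s') :
    w * v * w⁻¹ * v⁻¹ ∈ X (s + s') := by
  have R := h.roots
  obtain ⟨hl, hll⟩ := R.add_90 hs hs' hss hss' h1
  have h1' : B s' s = 0 := by rw [R.symm]; exact h1
  obtain ⟨a, ha, hta, haw, himpa⟩ := h.dat hs hss hw
  obtain ⟨b, hb, htb, hbv, himpb⟩ := h.dat hs' hss' hv
  have hls : B (s + s') s = 2 := by rw [R.add_left, hss, h1']; norm_num
  have hls' : B (s + s') s' = 2 := by rw [R.add_left, hss', h1]; norm_num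
  have hww := h.Wsq s hs hss w hw
  have hvv := h.Wsq s' hs' hss' v hv
  have hwi := inv_of_sq hww
  have hvi := inv_of_sq hvv
  have haa := h.Xsq s hs a ha
  have hbb := h.Xsq s' hs' b hb
  -- elements of `X (s + s')` commute with everything
  have zc : ∀ z ∈ X (s + s'), (z * w = w * z) ∧ (z * v = v * z) ∧ (z * a = a * z) ∧ (z * b = b * z) := by
    intro z hz
    exact ⟨(h.WX s hs hss _ hl (Or.inl ⟨hll, by omega⟩) w hw z hz).symm,
      (h.WX s' hs' hss' _ hl (Or.inl ⟨hll, by omega⟩) v hv z hz).symm,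
      h.X0 _ hl s hs (by omega) z hz a ha, h.X0 _ hl s' hs' (by omega) z hz b hb⟩
  rw [hwi, hvi]
  by_cases hb1 : b = 1
  · have hvx : v ∈ X s' := himpb hb1
    have := h.WX0 s hs hss s' hs' hss' h1' w hw v hvx
    rwa [hwi, hvi] at this
  -- commutators with root elements
  have hz1 := h.WX0 s' hs' hss' s hs hss h1 v hv a ha
  rw [add_comm s' s] at hz1
  set z1 := v * a * v⁻¹ * a⁻¹ with hz1d
  have hz2 := h.WX0 s hs hss s' hs' hss' h1' w hw b hb
  set z2 := w * b * w⁻¹ * b⁻¹ with hz2d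
  obtain ⟨z1w, z1v, z1a, z1b⟩ := zc z1 hz1
  obtain ⟨z2w, z2v, z2a, z2b⟩ := zc z2 hz2
  have z1z1 := h.Xsq _ hl z1 hz1
  have z2z2 := h.Xsq _ hl z2 hz2
  have z12 : z2 * z1 = z1 * z2 := h.X0 _ hl _ hl (by rw [hll]; norm_num) z2 hz2 z1 hz1
  have va : v * a = z1 * (a * v) := by rw [hz1d]; group
  have wb : w * b = z2 * (b * w) := by rw [hz2d]; group
  have hab : a * b = b * a := h.X0 s hs s' hs' (by omega) a ha b hb
  -- `t c t = c z`
  have e1 : t * (w * v * w * v) * t = z1 * z2 * (w * v * w * v) := by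
    have e2 : t * (w * v * w * v) * t = (t * w * t) * (t * t)⁻¹ * (t * v * t) * (t * t)⁻¹ * (t * w * t) *
        (t * t)⁻¹ * (t * v * t) := by group
    rw [e2, h.tt, inv_one, mul_one, mul_one, mul_one, hta, htb]
    -- push `a`, `b` to the left
    have wa : w * a = a * w := haw.symm
    have vb : v * b = b * v := hbv.symm
    simp only [mul_assoc]
    simp only [va, ra va, wb, ra wb, wa, ra wa, vb, ra vb, hab, ra hab, mul_assoc, ← z1w, ra z1w.symm, ← z1v,
      ra z1v.symm, ← z1a, ra z1a.symm, ← z1b, ra z1b.symm, ← z2w, ra z2w.symm, ← z2v, ra z2v.symm, ← z2a,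
      ra z2a.symm, ← z2b, ra z2b.symm, z12, ra z12, haa, ra haa, hbb, ra hbb, one_mul, z1z1, ra z1z1, z2z2, ra z2z2]
  have hz : z1 * z2 ∈ X (s + s') := mul_mem hz1 hz2
  obtain ⟨zw, zv, -, -⟩ := zc _ hz
  set z := z1 * z2 with hzd
  set c := w * v * w * v with hcd
  have zcc : z * c = c * z := by
    have hc1 : Commute z c :=
      Commute.mul_right (Commute.mul_right (Commute.mul_right zw zv) zw) zv
    exact hc1
  have hz1' : z = 1 := by
    apply h.NM _ hl hll z hz c
    have h2 : t * c = z * c * t := by rw [← e1, mul_assoc, h.tt, mul_one]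
    have h3 : t * z = z * t := h.tX _ hl z hz
    rw [mul_assoc, h2, zcc, h3]; group
  have hct : c * t = t * c := by
    rw [hz1', one_mul] at e1
    calc c * t = t * c * t * t := by rw [e1]
      _ = t * c * (t * t) := by group
      _ = t * c := by rw [h.tt, mul_one]
  -- `c⁻¹ = v c v = w c w`
  have hci : c⁻¹ = v * c * v := by
    rw [hcd, mul_inv_rev, mul_inv_rev, mul_inv_rev, hwi, hvi]
    simp only [mul_assoc, hvv, mul_one]
  have hYc : ∀ a ∈ Φ, (B a a = 4 ∧ 0 ≤ B a s ∧ 0 ≤ B a s' ∨ B a a = 2 ∧ 0 < B a s ∧ 0 < B a s') →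
      ∀ x ∈ X a, c * x = x * c := by
    intro e he hY x hx
    have h3 : Commute v x := h.WX s' hs' hss' e he (by
      rcases hY with ⟨h4, -, h5⟩ | ⟨h4, -, h5⟩
      · exact Or.inl ⟨h4, h5⟩
      · exact Or.inr ⟨h4, h5⟩) v hv x hx
    have h4 : Commute w x := h.WX s hs hss e he (by
      rcases hY with ⟨h4, h5, -⟩ | ⟨h4, h5, -⟩
      · exact Or.inl ⟨h4, h5⟩
      · exact Or.inr ⟨h4, h5⟩) w hw x hx
    exact Commute.mul_left (Commute.mul_left (Commute.mul_left h4 h3) h4) h3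
  obtain ⟨x, hx, y, hy, e, he, hcc⟩ := h.K2 s hs s' hs' hss hss' (by omega) (by omega) c hct hYc
  have he : e ∈ X (s + s') := by
    rcases he with ⟨h2, -⟩ | ⟨-, h2⟩
    · omega
    · exact h2
  obtain ⟨ew, ev, -, -⟩ := zc e he
  have ee := h.Xsq _ hl e he
  have xx := h.Xsq s hs x hx
  have yy := h.Xsq s' hs' y hy
  have xe : x * e = e * x := h.X0 s hs _ hl (by rw [R.symm, hls]; norm_num) x hx e he
  have ye : y * e = e * y := h.X0 s' hs' _ hl (by rw [R.symm, hls']; norm_num) y hy e he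
  have xy : x * y = y * x := h.X0 s hs s' hs' (by omega) x hx y hy
  have hvx := h.WX0 s' hs' hss' s hs hss h1 v hv x hx
  rw [add_comm s' s] at hvx
  set f := v * x * v⁻¹ * x⁻¹ with hf
  have vx : v * x = f * (x * v) := by rw [hf]; group
  have vy : v * y = y * v := h.WX' hs' hs' hss' hss' (by omega) hv hy
  obtain ⟨-, fv, -, -⟩ := zc f hvx
  have ff := h.Xsq _ hl f hvx
  have fx : f * x = x * f := h.X0 _ hl s hs (by omega) f hvx x hx
  have fy : f * y = y * f := h.X0 _ hl s' hs' (by omega) f hvx y hy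
  have fe : f * e = e * f := h.X0 _ hl _ hl (by rw [hll]; norm_num) f hvx e he
  have ft : t * f = f * t := h.tX _ hl f hvx
  have xt := h.tX s hs x hx
  have yt := h.tX s' hs' y hy
  have et := h.tX _ hl e he
  rcases hcc with hcc | hcc
  swap
  · -- `τ = t`
    exfalso
    have h2 : c⁻¹ = t * (x * y * e) := by
      rw [hcc, mul_inv_rev, mul_inv_rev, mul_inv_rev, inv_of_sq ee, inv_of_sq xx, inv_of_sq yy, inv_of_sq h.tt]
      simp only [mul_assoc, ← xt, ra xt.symm, ← yt, ra yt.symm, ← et, ra et.symm, ← xy, ra xy.symm, ← xe, ra xe.symm,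
        ← ye, ra ye.symm]
    have h3 : v * c * v = t * (b * (x * y * e) * f) := by
      have vt : v * t = t * (v * b) := by
        rw [← htb]
        simp only [mul_assoc, h.tt, mul_one, ra h.tt, one_mul]
      have vb : v * b = b * v := hbv.symm
      rw [hcc]
      simp only [mul_assoc, vt, ra vt, vb, ra vb, vx, ra vx, vy, ra vy, ← ev, ra ev.symm, hvv, ra hvv, mul_one,
        fx, ra fx, fy, ra fy, fe, ra fe]
    have h4 : b * f = 1 := by
      have h5 : t * (b * (x * y * e) * f) = t * (x * y * e) := by rw [← h3, ← hci, h2]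
      have h6 := mul_left_cancel h5
      have bx : b * x = x * b := h.X0 s' hs' s hs (by omega) b hb x hx
      have by' : b * y = y * b := h.X0 s' hs' s' hs' (by omega) b hb y hy
      have be : b * e = e * b := h.X0 s' hs' _ hl (by rw [R.symm, hls']; norm_num) b hb e he
      have h7 : Commute b (x * y * e) := Commute.mul_right (Commute.mul_right bx by') be
      rw [h7.eq, mul_assoc] at h6
      exact mul_eq_left.1 h6
    apply hb1
    have h5 : b = f⁻¹ := eq_inv_of_mul_eq_one_left h4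
    apply h.ind s' hs' _ hl _ b hb
    · rw [h5]; exact inv_mem hvx
    · intro h0
      rw [← h0] at hll
      omega
  -- the auxiliary roots
  have kill : ∀ p ∈ Φ, ∀ p' ∈ Φ, B p p = 2 → B p' p' = 2 → B p p' = 0 → p + p' = s + s' → ∀ w₀ ∈ W p, ∀ v₀ ∈ W p',
      ∀ x ∈ X p, ∀ y ∈ X p', ∀ e ∈ X (s + s'), w₀ * v₀ * w₀ * v₀ = x * y * e → y = 1 := by
    intro p hp p' hp' hpp hpp' hpp0 hsum w₀ hw₀ v₀ hv₀ x hx y hy e he hc0
    obtain ⟨d, hd, hdd, hds, hds'⟩ := h.aux90 p hp p' hp' hpp hpp' hpp0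
    obtain ⟨g, hg, hg1⟩ := h.Xne d hd
    have hm := R.add_ss hp' hd hpp' hdd (by rw [R.symm]; exact hds')
    obtain ⟨v₁, hv₁, hgv⟩ := h.X120 h6 hp' hd hpp' hdd hds' hg hv₀
    have hgw : g * w₀ = w₀ * g := (h.WX' hp hd hpp hdd (by omega) hw₀ hg).symm
    have hv01 : v₁ * v₀ = v₀ * v₁ :=
      h6 _ hm.1 p' hp' hm.2.1 hpp' (by rw [R.add_left, hpp', hds']; norm_num) v₁ hv₁ v₀ hv₀
    have hw01 : v₁ * w₀ = w₀ * v₁ :=
      h6 _ hm.1 p hp hm.2.1 hpp (by rw [R.add_left, hds, R.symm p' p, hpp0]; norm_num) v₁ hv₁ w₀ hw₀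
    have hv11 := h.Wsq _ hm.1 hm.2.1 v₁ hv₁
    -- `g` commutes with `c`
    have hgc : g * (w₀ * v₀ * w₀ * v₀) * g⁻¹ = w₀ * v₀ * w₀ * v₀ := by
      calc g * (w₀ * v₀ * w₀ * v₀) * g⁻¹ = (g * w₀) * g⁻¹ * (g * v₀ * g⁻¹) * ((g * w₀) * g⁻¹) * (g * v₀ * g⁻¹) := by
            group
        _ = w₀ * (v₀ * v₁) * w₀ * (v₀ * v₁) := by rw [hgv, hgw]; group
        _ = w₀ * v₀ * w₀ * v₀ * (v₁ * v₁) := by
            simp only [mul_assoc, hv01, ra hv01, hw01, ra hw01]
        _ = _ := by rw [hv11, mul_one]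
    rw [hc0] at hgc
    have hgx : g * x = x * g := h.X0 d hd p hp (by omega) g hg x hx
    have hge : g * e = e * g := h.X0 d hd _ hl (by rw [← hsum, R.add_right, hds, hds']; norm_num) g hg e he
    have hgy : g * y = y * g := by
      have h3 : g * (x * y * e) * g⁻¹ = x * (g * y * g⁻¹) * e := by
        calc g * (x * y * e) * g⁻¹ = (g * x) * y * e * g⁻¹ := by group
          _ = x * (g * y * g⁻¹) * ((g * e) * g⁻¹) := by rw [hgx]; group
          _ = _ := by rw [hge]; group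
      rw [h3] at hgc
      have h4 := mul_right_cancel hgc
      exact mul_inv_eq_iff_eq_mul.1 (mul_left_cancel h4)
    rcases h.X1nd d hd p' hp' (by omega) (by omega) (R.ne_neg (by omega)) g hg y hy hgy with h3 | h3
    · exact absurd h3 hg1
    · exact h3
  have hy1 : y = 1 := kill s hs s' hs' hss hss' h1 rfl w hw v hv x hx y hy e he hcc
  have hx1 : x = 1 := by
    apply kill s' hs' s hs hss' hss h1' (add_comm _ _) v hv w hw y hy x hx e he
    have h2 : v * w * v * w = c⁻¹ := by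
      rw [hcd, mul_inv_rev, mul_inv_rev, mul_inv_rev, hwi, hvi]
      simp only [mul_assoc]
    rw [h2, hcc, mul_inv_rev, mul_inv_rev, inv_of_sq ee, inv_of_sq xx, inv_of_sq yy]
    simp only [mul_assoc, ← xy, ra xy.symm, ← xe, ra xe.symm, ← ye, ra ye.symm]
  have hce : c = e := by rw [hcc, hx1, hy1, one_mul, one_mul]
  rw [hce]
  exact he

end PatA

end Cfsg.Agent.OddHalf.D7F4
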