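import Cfsg.Agent.OddHalf.D7F4.PatA2

/-!
# K = F4(q): the pattern "short roots moved, long roots not moved", relations at 135° and 120° (S1765, node D7)
-/

set_option autoImplicit false
set_option linter.unusedSimpArgs false

namespace Cfsg.Agent.OddHalf.D7F4

namespace PatA

variable {L G : Type*} [AddCommGroup L] [Group G]
variable {t : G} {B : L → L → ℤ} {Φ : Set L} {X W : L → Subgroup G}

/-- `w` commutes with `x⁻¹ (X c) x` for `c` in the cone of `s`, `r + s` -/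
theorem YD' (h : PatA t B Φ X W) {r s c : L} (hr : r ∈ Φ) (hs : s ∈ Φ) (hc : c ∈ Φ) (hrr : B r r = 4)
    (hss : B s s = 2) (h1 : B r s = -2)
    (hY : B c c = 4 ∧ 0 ≤ B c s ∧ 0 ≤ B c (r + s) ∨ B c c = 2 ∧ 0 < B c s ∧ 0 < B c (r + s))
    {x y w : G} (hx : x ∈ X r) (hy : y ∈ X c) (hw : w ∈ W s) : w * (x⁻¹ * y * x) = x⁻¹ * y * x * w := by
  have R := h.roots
  have hcr : B c (r + s) = B c r + B c s := R.add_right _ _ _
  have hcs' : B c c = 4 ∧ 0 ≤ B c s ∨ B c c = 2 ∧ 0 < B c s := by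
    rcases hY with ⟨h2, h3, -⟩ | ⟨h2, h3, -⟩
    · exact Or.inl ⟨h2, h3⟩
    · exact Or.inr ⟨h2, h3⟩
  have hwy : w * y = y * w := h.WX s hs hss c hc hcs' w hw y hy
  by_cases h0 : 0 ≤ B c r
  · have hyx : y * x = x * y := h.X0 c hc r hr h0 y hy x hx
    have : x⁻¹ * y * x = y := by rw [mul_assoc, hyx, inv_mul_cancel_left]
    rw [this]; exact hwy
  · rw [not_le] at h0
    rcases hY with ⟨h2, h3, h4⟩ | ⟨h2, h3, h4⟩
    · -- `c` long
      have h5 := R.ll c hc r hr h2 hrr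
      have h6 := R.ls c hc s hs h2 hss
      have h7 : B c r = -2 := by omega
      have h8 : B c s = 2 := by omega
      have hne : c ≠ -r := R.ne_neg (by omega)
      have hm := R.add c hc r hr h0 hne
      have hn : B (c + r) (c + r) = 4 := by rw [R.norm_add, h2, hrr, h7]; norm_num
      have he := h.X1 c hc r hr (by omega) h0 hne y hy x⁻¹ (inv_mem hx)
      have hz := h.WX s hs hss _ hm (Or.inl ⟨hn, by rw [R.add_left]; omega⟩) w hw _ he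
      set z := y * x⁻¹ * y⁻¹ * x⁻¹⁻¹ with hzd
      have he' : x⁻¹ * y * x = z⁻¹ * y := by
        rw [hzd]; group
      rw [he']
      have hzw : Commute w z := hz
      exact (Commute.mul_right hzw.inv_right hwy : Commute w (z⁻¹ * y))
    · -- `c` short
      exfalso
      have h5 := R.ls r hr c hc hrr h2
      rw [R.symm r c] at h5
      have h6 := R.ss c hc s hs h2 hss
      omega

/-- **135°**: `[X r, W s] ≤ W (r + s) X (r + 2 s)` -/
theorem X135 (h : PatA t B Φ X W) (h6 : Sixty B Φ W) {r s : L} (hr : r ∈ Φ) (hs : s ∈ Φ) (hrr : B r r = 4)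
    (hss : B s s = 2) (h1 : B r s = -2) {x w : G} (hx : x ∈ X r) (hw : w ∈ W s) :
    ∃ w' ∈ W (r + s), ∃ z ∈ X (r + s + s), x * w * x⁻¹ = w * w' * z := by
  have R := h.roots
  obtain ⟨hm, hmm, hms, hl, hll⟩ := R.add_ls hr hs hrr hss h1
  have hrm : B r (r + s) = 2 := by rw [R.add_right, hrr, h1]; norm_num
  have hrl : B r (r + s + s) = 0 := by rw [R.add_right, hrm, h1]; norm_num
  have hls : B (r + s + s) s = 2 := by rw [R.add_left, hms, hss]; norm_num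
  have hlm : B (r + s + s) (r + s) = 2 := by rw [R.add_left, hmm, R.symm s, hms]; norm_num
  have hsm : B s (r + s) = 0 := by rw [R.symm]; exact hms
  have emm : s + (r + s) = r + s + s := by abel
  generalize hme : r + s = m at *
  generalize hle : m + s = l at *
  obtain ⟨a, ha, hta, haw, himpa⟩ := h.dat hs hss hw
  obtain ⟨z1, hz1, l1, hl1, hxa⟩ := h.X2 r hr s hs hrr hss h1 x hx a ha
  rw [hme] at hz1 hl1
  rw [hle] at hl1
  -- elements of `X l` commute with everything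
  have zw : ∀ z ∈ X l, ∀ v ∈ W s, z * v = v * z := fun z hz v hv =>
    (h.WX s hs hss _ hl (Or.inl ⟨hll, by omega⟩) v hv z hz).symm
  have zw' : ∀ z ∈ X l, ∀ v ∈ W m, z * v = v * z := fun z hz v hv =>
    (h.WX m hm hmm _ hl (Or.inl ⟨hll, by omega⟩) v hv z hz).symm
  have zx : ∀ z ∈ X l, z * x = x * z := fun z hz => h.X0 _ hl r hr (by rw [R.symm, hrl]) z hz x hx
  have zz : ∀ z ∈ X l, ∀ z' ∈ X l, z * z' = z' * z := fun z hz z' hz' => h.X0 _ hl _ hl (by omega) z hz z' hz'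
  have Xs_W : ∀ x ∈ X s, x ∈ W s := fun x hx => h.XW s hs hss hx
  have Xm_W : ∀ x ∈ X m, x ∈ W m := fun x hx => h.XW m hm hmm hx
  have sm : ∀ y ∈ X s, ∀ z ∈ X m, y * z = z * y := fun y hy z hz => h.X0 s hs m hm (by omega) y hy z hz
  by_cases ha1 : a = 1
  · have hwx : w ∈ X s := himpa ha1
    obtain ⟨z2, hz2, l2, hl2, he⟩ := h.X2 r hr s hs hrr hss h1 x hx w hwx
    rw [hme] at hz2 hl2
    rw [hle] at hl2
    refine ⟨z2, Xm_W z2 hz2, l2, hl2, ?_⟩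
    have e1 : x * w * x⁻¹ = (x * w * x⁻¹ * w⁻¹) * w := by group
    rw [e1, he, mul_assoc, zw l2 hl2 w hw, ← mul_assoc, ← sm w hwx z2 hz2]
  by_cases hx1 : x = 1
  · exact ⟨1, one_mem _, 1, one_mem _, by rw [hx1]; group⟩
  obtain ⟨w', hw', htw'⟩ := h.surj m hm hmm z1 hz1
  have htw : t * w' * t = w' * z1 := by rw [← htw', mul_inv_cancel_left]
  -- commutators
  have hq := h.WX0 m hm hmm s hs hss hsm w'⁻¹ (inv_mem hw') a ha
  rw [hle] at hq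
  set q := w'⁻¹ * a * w'⁻¹⁻¹ * a⁻¹ with hqd
  have e1 : w⁻¹ * t * w = a * t := h.inv_conj hta
  have e2 : w'⁻¹ * t * w' = z1 * t := h.inv_conj htw
  have hxt : t * x = x * t := h.tX r hr x hx
  have hxt' : x⁻¹ * t = t * x⁻¹ := by
    rw [inv_mul_eq_iff_eq_mul, ← mul_assoc, ← hxt, mul_inv_cancel_right]
  set k := x * w * x⁻¹ * (w * w')⁻¹ with hk
  have e3 : (x * w * x⁻¹)⁻¹ * t * (x * w * x⁻¹) = z1 * l1 * a * t := by
    calc (x * w * x⁻¹)⁻¹ * t * (x * w * x⁻¹) = x * w⁻¹ * (x⁻¹ * t) * (x * w * x⁻¹) := by group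
      _ = x * (w⁻¹ * t * w) * x⁻¹ := by rw [hxt']; group
      _ = x * (a * t) * x⁻¹ := by rw [e1]
      _ = x * a * x⁻¹ * t := by rw [mul_assoc x (a * t), mul_assoc a t, ← hxt']; group
      _ = (x * a * x⁻¹ * a⁻¹) * a * t := by group
      _ = _ := by rw [hxa]
  have e4 : (w * w')⁻¹ * t * (w * w') = q * a * z1 * t := by
    calc (w * w')⁻¹ * t * (w * w') = w'⁻¹ * (w⁻¹ * t * w) * w' := by group
      _ = w'⁻¹ * (a * t) * w' := by rw [e1]
      _ = (w'⁻¹ * a * w'⁻¹⁻¹ * a⁻¹) * a * (w'⁻¹ * t * w') := by group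
      _ = q * a * (z1 * t) := by rw [e2]
      _ = _ := by group
  have zaz : z1 * a = a * z1 := (sm a ha z1 hz1).symm
  have laz : l1 * a = a * l1 := zw l1 hl1 a (Xs_W a ha)
  have qaz : q * a = a * q := zw q hq a (Xs_W a ha)
  have qz1 : q * z1 = z1 * q := zw' q hq z1 (Xm_W z1 hz1)
  have l1z1 : l1 * z1 = z1 * l1 := zw' l1 hl1 z1 (Xm_W z1 hz1)
  have tl1 := h.tX _ hl l1 hl1
  have tq := h.tX _ hl q hq
  have hlq : l1 * q⁻¹ ∈ X l := mul_mem hl1 (inv_mem hq)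
  have e5 : k⁻¹ * t * k = t * (l1 * q⁻¹) := by
    have e6 : z1 * l1 * a * t = q * a * z1 * t * (l1 * q⁻¹) := by
      have h2 : t * (l1 * q⁻¹) = (l1 * q⁻¹) * t := h.tX _ hl _ hlq
      have h3 : Commute (l1 * q⁻¹) q := by
        exact (Commute.mul_left (zz l1 hl1 q hq) (Commute.refl q).inv_left)
      calc z1 * l1 * a * t = z1 * (l1 * a) * t := by group
        _ = (z1 * a) * l1 * t := by rw [laz]; group
        _ = (a * z1) * l1 * t := by rw [zaz]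
        _ = a * z1 * q * (q⁻¹ * l1) * t := by group
        _ = a * (z1 * q) * (l1 * q⁻¹) * t := by rw [zz q⁻¹ (inv_mem hq) l1 hl1]; group
        _ = (a * q) * z1 * ((l1 * q⁻¹) * t) := by rw [← qz1]; group
        _ = _ := by rw [← qaz, ← h2]; group
    have hwwl : (w * w') * (l1 * q⁻¹) * (w * w')⁻¹ = l1 * q⁻¹ := by
      have h2 : Commute (w * w') (l1 * q⁻¹) :=
        Commute.mul_left (zw _ hlq w hw).symm (zw' _ hlq w' hw').symm
      rw [h2.eq, mul_inv_cancel_right]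
    calc k⁻¹ * t * k = (w * w') * ((x * w * x⁻¹)⁻¹ * t * (x * w * x⁻¹)) * (w * w')⁻¹ := by rw [hk]; group
      _ = (w * w') * ((w * w')⁻¹ * t * (w * w') * (l1 * q⁻¹)) * (w * w')⁻¹ := by rw [e3, e4, e6]
      _ = t * ((w * w') * (l1 * q⁻¹) * (w * w')⁻¹) := by group
      _ = t * (l1 * q⁻¹) := by rw [hwwl]
  have hlq1 : l1 * q⁻¹ = 1 := h.NM _ hl hll _ hlq k e5
  rw [hlq1, mul_one] at e5
  have hkt : k * t = t * k := by
    calc k * t = k * (k⁻¹ * t * k) := by rw [e5]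
      _ = t * k := by group
  have hY : ∀ c ∈ Φ, (B c c = 4 ∧ 0 ≤ B c s ∧ 0 ≤ B c m ∨ B c c = 2 ∧ 0 < B c s ∧ 0 < B c m) →
      ∀ y ∈ X c, k * y = y * k := by
    intro c hc hY y hy
    have h2 := h.YD' hr hs hc hrr hss h1 (by rw [hme]; exact hY) hx hy hw
    have h3 : w' * y = y * w' := h.WX m hm hmm c hc (by
      rcases hY with ⟨h4, -, h5⟩ | ⟨h4, -, h5⟩
      · exact Or.inl ⟨h4, h5⟩
      · exact Or.inr ⟨h4, h5⟩) w' hw' y hy
    have h4 : w * y = y * w := h.WX s hs hss c hc (by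
      rcases hY with ⟨h4, h5, -⟩ | ⟨h4, h5, -⟩
      · exact Or.inl ⟨h4, h5⟩
      · exact Or.inr ⟨h4, h5⟩) w hw y hy
    have h5 : Commute (x * w * x⁻¹) y := by
      show x * w * x⁻¹ * y = y * (x * w * x⁻¹)
      calc x * w * x⁻¹ * y = x * (w * (x⁻¹ * y * x)) * x⁻¹ := by group
        _ = y * (x * w * x⁻¹) := by rw [h2]; group
    have h6 : Commute (w * w') y := Commute.mul_left h4 h3
    exact Commute.mul_left h5 h6.inv_left
  obtain ⟨e₀, he₀, e₁, he₁, e₂, he₂, hkk⟩ := h.K2 s hs m hm hss hmm (by omega) (by omega) k hkt hY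
  have he₂ : e₂ ∈ X l := by
    rcases he₂ with ⟨h2, -⟩ | ⟨-, h2⟩
    · omega
    · rwa [emm] at h2
  have hww := h.Wsq s hs hss w hw
  have hww' := h.Wsq m hm hmm w' hw'
  have hAA : (x * w * x⁻¹) * (x * w * x⁻¹) = 1 := by
    calc (x * w * x⁻¹) * (x * w * x⁻¹) = x * (w * w) * x⁻¹ := by group
      _ = 1 := by rw [hww]; group
  have hA : x * w * x⁻¹ = k * (w * w') := by rw [hk]; group
  have e0e0 := h.Xsq s hs e₀ he₀
  have e1e1 := h.Xsq m hm e₁ he₁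
  have e2e2 := h.Xsq l hl e₂ he₂
  -- `w w'` acts on `X s X m X l` trivially modulo `X l`
  have hBf : ∀ f₀ ∈ X s, ∀ f₁ ∈ X m, ∀ f₂ ∈ X l, ∃ p ∈ X l, (w * w') * (f₀ * f₁ * f₂) = f₀ * f₁ * f₂ * p * (w * w') := by
    intro f₀ hf₀ f₁ hf₁ f₂ hf₂
    have h2 := h.WX0 m hm hmm s hs hss hsm w' hw' f₀ hf₀
    rw [hle] at h2
    have h3 := h.WX0 s hs hss m hm hmm hms w hw f₁ hf₁
    rw [emm] at h3
    set p₁ := w' * f₀ * w'⁻¹ * f₀⁻¹ with hp₁
    set p₂ := w * f₁ * w⁻¹ * f₁⁻¹ with hp₂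
    refine ⟨p₁ * p₂, mul_mem h2 h3, ?_⟩
    have g1 : w' * f₀ = p₁ * (f₀ * w') := by rw [hp₁]; group
    have g2 : w * f₁ = p₂ * (f₁ * w) := by rw [hp₂]; group
    have g3 : w * f₀ = f₀ * w := h.Wab hs hss hw (Xs_W f₀ hf₀)
    have g4 : w' * f₁ = f₁ * w' := h.Wab hm hmm hw' (Xm_W f₁ hf₁)
    have g5 : w * f₂ = f₂ * w := (zw f₂ hf₂ w hw).symm
    have g6 : w' * f₂ = f₂ * w' := (zw' f₂ hf₂ w' hw').symm
    have g7 : w * p₁ = p₁ * w := (zw p₁ h2 w hw).symm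
    have g8 : f₀ * p₂ = p₂ * f₀ := (zw p₂ h3 f₀ (Xs_W f₀ hf₀)).symm
    have g9 : f₀ * p₁ = p₁ * f₀ := (zw p₁ h2 f₀ (Xs_W f₀ hf₀)).symm
    have g10 : f₁ * p₂ = p₂ * f₁ := (zw' p₂ h3 f₁ (Xm_W f₁ hf₁)).symm
    have g11 : f₁ * p₁ = p₁ * f₁ := (zw' p₁ h2 f₁ (Xm_W f₁ hf₁)).symm
    have g12 : f₂ * p₁ = p₁ * f₂ := zz f₂ hf₂ p₁ h2
    have g13 : f₂ * p₂ = p₂ * f₂ := zz f₂ hf₂ p₂ h3
    simp only [mul_assoc, g1, ra g1, g2, ra g2, g3, ra g3, g4, ra g4, g5, ra g5, g6, ra g6, g7, ra g7, g8, ra g8,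
      g9, ra g9, g10, ra g10, g11, ra g11, g12, ra g12, g13, ra g13]
  have hpc : w * w' * (w * w') ∈ X l := by
    have h2 := h.ninety h6 hs hm hss hmm (by omega) hw hw'
    rw [emm, inv_of_sq hww, inv_of_sq hww'] at h2
    rwa [mul_assoc (w * w') w w'] at h2
  have tB : t * (w * w') * t = (w * w') * (q * a * z1) := by
    calc t * (w * w') * t = (w * w') * ((w * w')⁻¹ * t * (w * w')) * t := by group
      _ = (w * w') * (q * a * z1) * (t * t) := by rw [e4]; group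
      _ = _ := by rw [h.tt, mul_one]
  have hx0 : ∀ y ∈ X s, ∀ z ∈ X s, y * z = z * y := fun y hy z hz => h.Wab hs hss (Xs_W y hy) (Xs_W z hz)
  have hx1' : ∀ y ∈ X m, ∀ z ∈ X m, y * z = z * y := fun y hy z hz => h.Wab hm hmm (Xm_W y hy) (Xm_W z hz)
  rcases hkk with hkk | hkk
  swap
  · -- `τ = t`
    exfalso
    obtain ⟨p, hp, hBp⟩ := hBf (a * e₀) (mul_mem ha he₀) (z1 * e₁) (mul_mem hz1 he₁) (q * e₂) (mul_mem hq he₂)
    rw [hA, hkk] at hAA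
    have te : Commute t (e₀ * e₁ * e₂) :=
      Commute.mul_right (Commute.mul_right (h.tX s hs e₀ he₀) (h.tX m hm e₁ he₁)) (h.tX l hl e₂ he₂)
    have e7 : q * a * z1 * (e₀ * e₁ * e₂) = (a * e₀) * (z1 * e₁) * (q * e₂) := by
      have g1 : q * e₀ = e₀ * q := zw q hq e₀ (Xs_W e₀ he₀)
      have g2 : z1 * e₀ = e₀ * z1 := (sm e₀ he₀ z1 hz1).symm
      have g3 : q * e₁ = e₁ * q := zw' q hq e₁ (Xm_W e₁ he₁)
      simp only [mul_assoc, qaz, ra qaz, qz1, ra qz1, g1, ra g1, g2, ra g2, g3, ra g3]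
    -- `A² = e (E₁ e) p B²`
    have e8 : t * (e₀ * e₁ * e₂) * (w * w') * (t * (e₀ * e₁ * e₂) * (w * w')) =
        (e₀ * e₁ * e₂) * ((a * e₀) * (z1 * e₁) * (q * e₂) * p) * (w * w' * (w * w')) := by
      calc t * (e₀ * e₁ * e₂) * (w * w') * (t * (e₀ * e₁ * e₂) * (w * w'))
          = (t * (e₀ * e₁ * e₂)) * (w * w') * t * (e₀ * e₁ * e₂) * (w * w') := by group
        _ = ((e₀ * e₁ * e₂) * t) * (w * w') * t * (e₀ * e₁ * e₂) * (w * w') := by rw [te.eq]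
        _ = (e₀ * e₁ * e₂) * (t * (w * w') * t) * (e₀ * e₁ * e₂) * (w * w') := by group
        _ = (e₀ * e₁ * e₂) * ((w * w') * (q * a * z1 * (e₀ * e₁ * e₂))) * (w * w') := by rw [tB]; group
        _ = (e₀ * e₁ * e₂) * ((a * e₀) * (z1 * e₁) * (q * e₂) * p * (w * w')) * (w * w') := by rw [e7, hBp]
        _ = _ := by group
    rw [e8] at hAA
    have e9 : a * z1 * (q * (p * (w * w' * (w * w')))) = 1 := by
      rw [← hAA]
      set pB := w * w' * (w * w') with hpB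
      have g1 : e₀ * a = a * e₀ := hx0 e₀ he₀ a ha
      have g2 : e₀ * z1 = z1 * e₀ := sm e₀ he₀ z1 hz1
      have g3 : e₁ * a = a * e₁ := (sm a ha e₁ he₁).symm
      have g4 : e₁ * z1 = z1 * e₁ := hx1' e₁ he₁ z1 hz1
      have g5 : e₁ * e₀ = e₀ * e₁ := (sm e₀ he₀ e₁ he₁).symm
      have g6 : e₂ * a = a * e₂ := zw e₂ he₂ a (Xs_W a ha)
      have g7 : e₂ * z1 = z1 * e₂ := zw' e₂ he₂ z1 (Xm_W z1 hz1)
      have g8 : e₂ * e₀ = e₀ * e₂ := zw e₂ he₂ e₀ (Xs_W e₀ he₀)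
      have g9 : e₂ * e₁ = e₁ * e₂ := zw' e₂ he₂ e₁ (Xm_W e₁ he₁)
      have g10 : e₂ * q = q * e₂ := zz e₂ he₂ q hq
      simp only [mul_assoc, g1, ra g1, g2, ra g2, g3, ra g3, g4, ra g4, g5, ra g5, g6, ra g6, g7, ra g7, g8, ra g8,
        g9, ra g9, g10, ra g10, e0e0, ra e0e0, e1e1, ra e1e1, e2e2, ra e2e2, one_mul]
    apply ha1
    apply h.ind3 s hs m hm hss hmm (by omega) a ha z1 hz1 (q * (p * (w * w' * (w * w')))) _ e9
    rw [emm]
    exact mul_mem hq (mul_mem hp hpc)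
  -- `τ = 1`
  have hxm : x * e₁ = e₁ * x := h.X0 r hr m hm (by omega) x hx e₁ he₁
  have hxl : x * e₂ = e₂ * x := (zx e₂ he₂).symm
  have hxw' : x * w' = w' * x := (h.WX m hm hmm r hr (Or.inl ⟨hrr, by omega⟩) w' hw' x hx).symm
  have hxx := h.Xsq r hr x hx
  have hxi := inv_of_sq hxx
  have cm : ∀ y : G, x * y = y * x → x * y * x⁻¹ = y := fun y hy => by rw [hy, mul_inv_cancel_right]
  have key : x * e₀ * x⁻¹ * e₀ = 1 := by
    have e7 : x * (x * w * x⁻¹) * x⁻¹ = w := by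
      rw [hxi]
      calc x * (x * w * x) * x = (x * x) * w * (x * x) := by group
        _ = w := by rw [hxx, one_mul, mul_one]
    have e8 : x * (x * w * x⁻¹) * x⁻¹ = (x * e₀ * x⁻¹) * e₁ * e₂ * (e₀ * e₁ * e₂ * (w * w')) * w' := by
      calc x * (x * w * x⁻¹) * x⁻¹ = x * (e₀ * e₁ * e₂ * (w * w')) * x⁻¹ := by rw [hA, hkk]
        _ = (x * e₀ * x⁻¹) * (x * e₁ * x⁻¹) * (x * e₂ * x⁻¹) * (x * w * x⁻¹) * (x * w' * x⁻¹) := by group
        _ = _ := by rw [cm e₁ hxm, cm e₂ hxl, cm w' hxw', hA, hkk]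
    rw [e7] at e8
    have g5 : e₁ * e₀ = e₀ * e₁ := (sm e₀ he₀ e₁ he₁).symm
    have g8 : e₂ * e₀ = e₀ * e₂ := zw e₂ he₂ e₀ (Xs_W e₀ he₀)
    have g9 : e₂ * e₁ = e₁ * e₂ := zw' e₂ he₂ e₁ (Xm_W e₁ he₁)
    have e9 : (x * e₀ * x⁻¹) * e₁ * e₂ * (e₀ * e₁ * e₂ * (w * w')) * w' = (x * e₀ * x⁻¹ * e₀) * w := by
      set y := x * e₀ * x⁻¹ with hy
      simp only [mul_assoc, g5, ra g5, g8, ra g8, g9, ra g9, e1e1, ra e1e1, e2e2, ra e2e2, one_mul, hww', mul_one]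
    rw [e9] at e8
    exact mul_eq_right.1 e8.symm
  have he1 : e₀ = 1 := by
    have e7 : x * e₀ = e₀ * x := by
      have e8 : x * e₀ * x⁻¹ = e₀ := by
        rw [eq_inv_of_mul_eq_one_left key]
        exact inv_of_sq e0e0
      exact mul_inv_eq_iff_eq_mul.1 e8
    rcases h.X2nd r hr s hs hrr hss h1 x hx e₀ he₀ e7 with h2 | h2
    · exact absurd h2 hx1
    · exact h2
  rw [he1, one_mul] at hkk
  -- `A = e₁ e₂ w w'`
  have h3 := h.WX0 s hs hss m hm hmm hms w⁻¹ (inv_mem hw) e₁ he₁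
  rw [emm] at h3
  set p := w⁻¹ * e₁ * w⁻¹⁻¹ * e₁⁻¹ with hp
  refine ⟨e₁ * w', mul_mem (Xm_W e₁ he₁) hw', p * e₂, mul_mem h3 he₂, ?_⟩
  rw [hA, hkk]
  have g1 : e₁ * w = w * (p * e₁) := by rw [hp]; group
  have g2 : e₂ * w = w * e₂ := zw e₂ he₂ w hw
  have g3 : e₂ * w' = w' * e₂ := zw' e₂ he₂ w' hw'
  have g4 : p * e₁ = e₁ * p := zw' p h3 e₁ (Xm_W e₁ he₁)
  have g5 : p * w' = w' * p := zw' p h3 w' hw'
  have g6 : e₂ * p = p * e₂ := zz e₂ he₂ p h3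
  simp only [mul_assoc, g1, ra g1, g2, ra g2, g3, ra g3, g4, ra g4, g5, ra g5, g6, ra g6]

end PatA

end Cfsg.Agent.OddHalf.D7F4
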