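import Cfsg.Agent.OddHalf.D7F4.PatA3

/-!
# K = F4(q): the pattern "short roots moved, long roots not moved", relation at 120° (S1765, node D7)
-/

set_option autoImplicit false
set_option linter.unusedSimpArgs false

namespace Cfsg.Agent.OddHalf.D7F4

namespace PatA

variable {L G : Type*} [AddCommGroup L] [Group G]
variable {t : G} {B : L → L → ℤ} {Φ : Set L} {X W : L → Subgroup G}

/-- the auxiliary root kills a component -/
theorem kill120 (h : PatA t B Φ X W) (h6 : Sixty B Φ W) {s s' m : L} (hs : s ∈ Φ) (hs' : s' ∈ Φ)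
    (hss : B s s = 2) (hss' : B s' s' = 2) (h1 : B s s' = -1) (hme : s + s' = m) {w v w₁ x y z : G} (hw : w ∈ W s)
    (hv : v ∈ W s') (hw₁ : w₁ ∈ W m) (hx : x ∈ X s) (hy : y ∈ X s') (hz : z ∈ X m)
    (hc : w * v * w * v * w₁ = x * y * z) : x = 1 := by
  have R := h.roots
  obtain ⟨hm, hmm, -⟩ := R.add_ss hs hs' hss hss' h1
  rw [hme] at hm hmm
  obtain ⟨d, hd, hdd, hds, hds'⟩ := h.aux120 s hs s' hs' hss hss' h1
  obtain ⟨g, hg, hg1⟩ := h.Xne d hd
  obtain ⟨hn, hnn, hnne⟩ := R.add_ss hs hd hss hdd (by rw [R.symm]; exact hds)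
  obtain ⟨w₄, hw₄, hgw⟩ := h.X120 h6 hs hd hss hdd hds hg hw
  have hdm : B d m = 0 := by rw [← hme, R.add_right, hds, hds']; norm_num
  have hmd : B m d = 0 := by rw [R.symm]; exact hdm
  have hns' : B (s + d) s' = 0 := by rw [R.add_left, h1, hds']; norm_num
  obtain ⟨hl, hll⟩ := R.add_90 hm hd hmm hdd hmd
  have hle : s + d + s' = m + d := by rw [← hme]; abel
  have hms : B m s = 1 := by rw [← hme, R.add_left, hss, R.symm s', h1]; norm_num
  have hms' : B m s' = 1 := by rw [← hme, R.add_left, hss', h1]; norm_num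
  have hls : B (m + d) s = 0 := by rw [R.add_left, hms, hds]; norm_num
  have hls' : B (m + d) s' = 2 := by rw [R.add_left, hms', hds']; norm_num
  have hlm : B (m + d) m = 2 := by rw [R.add_left, hmm, hdm]; norm_num
  have hln : B (m + d) (s + d) = 2 := by rw [R.add_right, hls, R.add_left, hmd, hdd]; norm_num
  have hz4 := h.ninety h6 hn hs' hnn hss' hns' hw₄ hv
  rw [hle] at hz4
  have hww4 := h.Wsq _ hn hnn w₄ hw₄
  have hvv := h.Wsq s' hs' hss' v hv
  set z₄ := w₄ * v * w₄⁻¹ * v⁻¹ with hz4d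
  have hz5 := h.WX0 m hm hmm d hd hdd hdm w₁ hw₁ g hg
  set z₅ := w₁ * g * w₁⁻¹ * g⁻¹ with hz5d
  -- central elements
  have zw : ∀ z ∈ X (m + d), w * z = z * w := fun z hz => h.WX s hs hss _ hl (Or.inl ⟨hll, by omega⟩) w hw z hz
  have zv : ∀ z ∈ X (m + d), v * z = z * v := fun z hz => h.WX s' hs' hss' _ hl (Or.inl ⟨hll, by omega⟩) v hv z hz
  have zw4 : ∀ z ∈ X (m + d), w₄ * z = z * w₄ := fun z hz => h.WX _ hn hnn _ hl (Or.inl ⟨hll, by omega⟩) w₄ hw₄ z hz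
  have zw1 : ∀ z ∈ X (m + d), w₁ * z = z * w₁ := fun z hz => h.WX m hm hmm _ hl (Or.inl ⟨hll, by omega⟩) w₁ hw₁ z hz
  have hgv : g * v * g⁻¹ = v := by
    have : v * g = g * v := h.WX' hs' hd hss' hdd (by omega) hv hg
    rw [← this, mul_inv_cancel_right]
  have hgw₁ : g * w₁ * g⁻¹ = z₅⁻¹ * w₁ := by rw [hz5d]; group
  have hz5' : z₅⁻¹ ∈ X (m + d) := inv_mem hz5
  have e1 : g * (w * v * w * v * w₁) * g⁻¹ = z₄ * z₅⁻¹ * (w * v * w * v * w₁) := by
    have e2 : g * (w * v * w * v * w₁) * g⁻¹ = (g * w * g⁻¹) * (g * v * g⁻¹) * (g * w * g⁻¹) * (g * v * g⁻¹) *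
        (g * w₁ * g⁻¹) := by group
    rw [e2, hgw, hgv, hgw₁]
    have r1 : w₄ * v = z₄ * (v * w₄) := by rw [hz4d]; group
    have r2 : w₄ * w = w * w₄ := h6 _ hn s hs hnn hss (by rw [R.add_left, hss, hds]; norm_num) w₄ hw₄ w hw
    have r3 := zw z₄ hz4
    have r4 := zv z₄ hz4
    have r5 := zw4 z₄ hz4
    have r7 := zw z₅⁻¹ hz5'
    have r8 := zv z₅⁻¹ hz5'
    have r9 := zw4 z₅⁻¹ hz5'
    have r10 := zw1 z₅⁻¹ hz5'
    have r11 : z₄ * z₄ = 1 := h.Xsq _ hl z₄ hz4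
    have r12 : z₅⁻¹ * z₄ = z₄ * z₅⁻¹ := h.X0 _ hl _ hl (by omega) _ hz5' _ hz4
    simp only [mul_assoc, r1, ra r1, r2, ra r2, r3, ra r3, r4, ra r4, r5, ra r5, r7, ra r7, r8, ra r8, r9, ra r9,
      r10, ra r10, r11, ra r11, r12, ra r12, one_mul, hww4, ra hww4]
  rw [hc] at e1
  have hgx := h.X1 d hd s hs (by omega) (by omega) (R.ne_neg (by omega)) g hg x hx
  rw [add_comm d s] at hgx
  set x₁ := g * x * g⁻¹ * x⁻¹ with hx1d
  have hgy : g * y = y * g := h.X0 d hd s' hs' (by omega) g hg y hy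
  have hgz : g * z = z * g := h.X0 d hd m hm (by omega) g hg z hz
  have e3 : g * (x * y * z) * g⁻¹ = x₁ * (x * y * z) := by
    calc g * (x * y * z) * g⁻¹ = (g * x * g⁻¹) * (g * y) * g⁻¹ * ((g * z) * g⁻¹) := by group
      _ = (g * x * g⁻¹) * y * z := by rw [hgy, hgz]; group
      _ = _ := by rw [hx1d]; group
  rw [e3] at e1
  have e4 : x₁ = z₄ * z₅⁻¹ := mul_right_cancel e1
  have hne : s + d ≠ m + d := by
    intro h0
    rw [h0] at hnn
    omega
  have hx1 : x₁ = 1 := h.ind _ hn _ hl hne x₁ hgx (by rw [e4]; exact mul_mem hz4 hz5')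
  have hgx' : g * x = x * g := by
    rw [hx1d] at hx1
    exact mul_inv_eq_iff_eq_mul.1 (mul_inv_eq_one.1 hx1)
  rcases h.X1nd d hd s hs (by omega) (by omega) (R.ne_neg (by omega)) g hg x hx hgx' with h3 | h3
  · exact absurd h3 hg1
  · exact h3

/-- **120°**: `[W s, W s'] ≤ W (s + s')` -/
theorem W120 (h : PatA t B Φ X W) (h6 : Sixty B Φ W) {s s' : L} (hs : s ∈ Φ) (hs' : s' ∈ Φ) (hss : B s s = 2)
    (hss' : B s' s' = 2) (h1 : B s s' = -1) {w v : G} (hw : w ∈ W s) (hv : v ∈ W s') :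
    w * v * w⁻¹ * v⁻¹ ∈ W (s + s') := by
  have R := h.roots
  obtain ⟨hm, hmm, hne⟩ := R.add_ss hs hs' hss hss' h1
  have h1' : B s' s = -1 := by rw [R.symm]; exact h1
  have hms : B (s + s') s = 1 := by rw [R.add_left, hss, h1']; norm_num
  have hms' : B (s + s') s' = 1 := by rw [R.add_left, hss', h1]; norm_num
  have ems : s' + s = s + s' := add_comm _ _
  obtain ⟨a, ha, hta, haw, himpa⟩ := h.dat hs hss hw
  obtain ⟨b, hb, htb, hbv, himpb⟩ := h.dat hs' hss' hv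
  have hww := h.Wsq s hs hss w hw
  have hvv := h.Wsq s' hs' hss' v hv
  have hwi := inv_of_sq hww
  have hvi := inv_of_sq hvv
  have haa := h.Xsq s hs a ha
  have hbb := h.Xsq s' hs' b hb
  generalize hme : s + s' = m at *
  -- `W m` is central
  have mw : ∀ z ∈ W m, w * z = z * w := fun z hz => (h6 m hm s hs hmm hss hms z hz w hw).symm
  have mv : ∀ z ∈ W m, v * z = z * v := fun z hz => (h6 m hm s' hs' hmm hss' hms' z hz v hv).symm
  have mXs : ∀ z ∈ W m, ∀ x ∈ X s, x * z = z * x := fun z hz x hx =>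
    (h6 m hm s hs hmm hss hms z hz x (h.XW s hs hss hx)).symm
  have mXs' : ∀ z ∈ W m, ∀ x ∈ X s', x * z = z * x := fun z hz x hx =>
    (h6 m hm s' hs' hmm hss' hms' z hz x (h.XW s' hs' hss' hx)).symm
  have mm : ∀ z ∈ W m, ∀ z' ∈ W m, z * z' = z' * z := fun z hz z' hz' => h.Wab hm hmm hz hz'
  by_cases hb1 : b = 1
  · have hvx : v ∈ X s' := himpb hb1
    have h2 := h.X120' h6 hs hs' hss hss' h1' hvx hw
    rw [hme] at h2
    have h3 : w * v * w⁻¹ * v⁻¹ = (v * w * v⁻¹ * w⁻¹)⁻¹ := by group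
    rw [h3]; exact inv_mem h2
  rw [hwi, hvi]
  -- commutators
  have hr1 := h.X120' h6 hs' hs hss' hss h1 ha hv
  rw [ems] at hr1
  have hr2 := h.X120' h6 hs hs' hss hss' h1' hb hw
  rw [hme] at hr2
  have hr3' := h.X1 s hs s' hs' (by omega) (by omega) hne a ha b hb
  rw [hme] at hr3'
  have hr3 := h.XW m hm hmm hr3'
  set r1 := a * v * a⁻¹ * v⁻¹ with hr1d
  set r2 := b * w * b⁻¹ * w⁻¹ with hr2d
  set r3 := a * b * a⁻¹ * b⁻¹ with hr3d
  have va : v * a = r1⁻¹ * (a * v) := by rw [hr1d]; group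
  have wb : w * b = r2⁻¹ * (b * w) := by rw [hr2d]; group
  have ba : b * a = r3⁻¹ * (a * b) := by rw [hr3d]; group
  have hr1i : r1⁻¹ ∈ W m := inv_mem hr1
  have hr2i : r2⁻¹ ∈ W m := inv_mem hr2
  have hr3i : r3⁻¹ ∈ W m := inv_mem hr3
  set ρ₁ := r1⁻¹
  set ρ₂ := r2⁻¹
  set ρ₃ := r3⁻¹
  obtain ⟨ρ, hρ, e1⟩ : ∃ ρ ∈ W m, t * (w * v * w * v) * t = ρ * (w * v * w * v) := by
    have e2 : t * (w * v * w * v) * t = (t * w * t) * (t * t)⁻¹ * (t * v * t) * (t * t)⁻¹ * (t * w * t) *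
        (t * t)⁻¹ * (t * v * t) := by group
    rw [e2, h.tt, inv_one, mul_one, mul_one, mul_one, hta, htb]
    have wa : w * a = a * w := haw.symm
    have vb : v * b = b * v := hbv.symm
    have p1 := mw ρ₁ hr1i
    have p2 := mw ρ₂ hr2i
    have p3 := mw ρ₃ hr3i
    have p4 := mv ρ₁ hr1i
    have p5 := mv ρ₂ hr2i
    have p6 := mv ρ₃ hr3i
    have p7 := mXs ρ₁ hr1i a ha
    have p8 := mXs ρ₂ hr2i a ha
    have p9 := mXs ρ₃ hr3i a ha
    have p10 := mXs' ρ₁ hr1i b hb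
    have p11 := mXs' ρ₂ hr2i b hb
    have p12 := mXs' ρ₃ hr3i b hb
    have q1 := h.Wsq m hm hmm ρ₁ hr1i
    have q2 := h.Wsq m hm hmm ρ₂ hr2i
    have q3 := h.Wsq m hm hmm ρ₃ hr3i
    have q4 : ρ₂ * ρ₁ = ρ₁ * ρ₂ := mm _ hr2i _ hr1i
    have q5 : ρ₃ * ρ₁ = ρ₁ * ρ₃ := mm _ hr3i _ hr1i
    have q6 : ρ₃ * ρ₂ = ρ₂ * ρ₃ := mm _ hr3i _ hr2i
    refine ⟨ρ₁ * (ρ₂ * ρ₃), mul_mem hr1i (mul_mem hr2i hr3i), ?_⟩
    simp only [mul_assoc]
    simp only [va, ra va, wb, ra wb, ba, ra ba, wa, ra wa, vb, ra vb, p1, ra p1, p2, ra p2, p3, ra p3, p4, ra p4,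
      p5, ra p5, p6, ra p6, p7, ra p7, p8, ra p8, p9, ra p9, p10, ra p10, p11, ra p11, p12, ra p12, haa, ra haa,
      hbb, ra hbb, one_mul, q1, ra q1, q2, ra q2, q3, ra q3, q4, ra q4, q5, ra q5, q6, ra q6, mul_assoc]
  have hρρ := h.Wsq m hm hmm ρ hρ
  set c := w * v * w * v with hcd
  have hρc : c * ρ = ρ * c :=
    (Commute.mul_left (Commute.mul_left (Commute.mul_left (mw ρ hρ) (mv ρ hρ)) (mw ρ hρ)) (mv ρ hρ) : Commute c ρ)
  -- `ρ ∈ X m`
  have hρX : ρ ∈ X m := by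
    apply h.cent m hm hmm ρ hρ
    have e2 : t * (t * c * t) * t = c := by
      calc t * (t * c * t) * t = (t * t) * c * (t * t) := by group
        _ = c := by rw [h.tt, one_mul, mul_one]
    have e3 : t * (t * c * t) * t = (t * ρ * t) * (ρ * c) := by
      calc t * (t * c * t) * t = t * (ρ * c) * t := by rw [e1]
        _ = (t * ρ * t) * (t * t)⁻¹ * (t * c * t) := by group
        _ = _ := by rw [h.tt, e1, inv_one, mul_one]
    rw [e2, ← mul_assoc] at e3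
    have e4 : t * ρ * t * ρ = 1 := mul_eq_right.1 e3.symm
    have e5 : t * ρ * t = ρ := by
      rw [eq_inv_of_mul_eq_one_left e4, inv_of_sq hρρ]
    calc t * ρ = t * ρ * (t * t) := by rw [h.tt, mul_one]
      _ = (t * ρ * t) * t := by group
      _ = ρ * t := by rw [e5]
  obtain ⟨w₁, hw₁, hw₁'⟩ := h.surj m hm hmm ρ hρX
  have htw₁ : t * w₁ * t = w₁ * ρ := by rw [← hw₁', mul_inv_cancel_left]
  have hcw₁ : c * w₁ = w₁ * c := by
    have h2 : Commute c w₁ :=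
      Commute.mul_left (Commute.mul_left (Commute.mul_left (mw _ hw₁) (mv _ hw₁)) (mw _ hw₁)) (mv _ hw₁)
    exact h2
  have hw₁w₁ := h.Wsq m hm hmm w₁ hw₁
  have hw₁i := inv_of_sq hw₁w₁
  set f := c * w₁ with hf
  have hft : f * t = t * f := by
    have e2 : t * f * t = f := by
      calc t * f * t = (t * c * t) * (t * t)⁻¹ * (t * w₁ * t) := by rw [hf]; group
        _ = ρ * c * (w₁ * ρ) := by rw [h.tt, e1, htw₁]; group
        _ = ρ * (c * w₁ * ρ) := by group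
        _ = ρ * (ρ * (c * w₁)) := by
            have h2 : Commute (c * w₁) ρ := Commute.mul_left hρc (mm w₁ hw₁ ρ hρ)
            rw [h2.eq]
        _ = (ρ * ρ) * (c * w₁) := by group
        _ = f := by rw [hρρ, one_mul]
    calc f * t = t * f * t * t := by rw [e2]
      _ = t * f * (t * t) := by group
      _ = t * f := by rw [h.tt, mul_one]
  have hYf : ∀ a ∈ Φ, (B a a = 4 ∧ 0 ≤ B a s ∧ 0 ≤ B a s' ∨ B a a = 2 ∧ 0 < B a s ∧ 0 < B a s') →
      ∀ x ∈ X a, f * x = x * f := by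
    intro e he hY x hx
    have h3 : Commute v x := h.WX s' hs' hss' e he (by
      rcases hY with ⟨h4, -, h5⟩ | ⟨h4, -, h5⟩
      · exact Or.inl ⟨h4, h5⟩
      · exact Or.inr ⟨h4, h5⟩) v hv x hx
    have h4 : Commute w x := h.WX s hs hss e he (by
      rcases hY with ⟨h4, h5, -⟩ | ⟨h4, h5, -⟩
      · exact Or.inl ⟨h4, h5⟩
      · exact Or.inr ⟨h4, h5⟩) w hw x hx
    have h5 : Commute w₁ x := h.WX m hm hmm e he (by
      rcases hY with ⟨h4, h5, h6⟩ | ⟨h4, h5, h6⟩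
      · exact Or.inl ⟨h4, by rw [← hme, R.add_right]; omega⟩
      · exact Or.inr ⟨h4, by rw [← hme, R.add_right]; omega⟩) w₁ hw₁ x hx
    exact Commute.mul_left (Commute.mul_left (Commute.mul_left (Commute.mul_left h4 h3) h4) h3) h5
  obtain ⟨x, hx, y, hy, z, hz, hff⟩ := h.K2 s hs s' hs' hss hss' (by omega) (by omega) f hft hYf
  have hz : z ∈ X m := by
    rcases hz with ⟨h2, -⟩ | ⟨-, h2⟩
    · omega
    · rwa [hme] at h2
  have hzW := h.XW m hm hmm hz
  -- `v f v = f⁻¹`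
  have hci : c⁻¹ = v * c * v := by
    rw [hcd, mul_inv_rev, mul_inv_rev, mul_inv_rev, hwi, hvi]
    simp only [mul_assoc, hvv, mul_one]
  have hvf : v * f * v = f⁻¹ := by
    have h2 := mv w₁ hw₁
    calc v * f * v = v * c * (w₁ * v) := by rw [hf]; group
      _ = (v * c * v) * w₁ := by rw [← h2]; group
      _ = c⁻¹ * w₁⁻¹ := by rw [← hci, hw₁i]
      _ = (w₁ * c)⁻¹ := by group
      _ = f⁻¹ := by rw [← hcw₁]
  have hcf : c = f * w₁ := by rw [hf, mul_assoc, hw₁w₁, mul_one]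
  have hyx := h.X1 s' hs' s hs (by omega) (by omega) (R.ne_neg (by omega)) y hy x hx
  rw [ems] at hyx
  rcases hff with hff | hff
  swap
  · -- `τ = t`
    exfalso
    have xx := h.Xsq s hs x hx
    have yy := h.Xsq s' hs' y hy
    have zz := h.Xsq m hm z hz
    have xt := h.tX s hs x hx
    have yt := h.tX s' hs' y hy
    have zt := h.tX m hm z hz
    have hvx := h.X120' h6 hs' hs hss' hss h1 hx hv
    rw [ems] at hvx
    set r' := x * v * x⁻¹ * v⁻¹ with hr'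
    have vx : v * x = r'⁻¹ * (x * v) := by rw [hr']; group
    have vy : v * y = y * v := h.Wab hs' hss' hv (h.XW s' hs' hss' hy)
    have vz : v * z = z * v := mv z hzW
    have hr'i : r'⁻¹ ∈ W m := inv_mem hvx
    have xz : x * z = z * x := mXs z hzW x hx
    have yz : y * z = z * y := mXs' z hzW y hy
    have h2 : v * f * v = t * (b * r'⁻¹ * (x * y * z)) := by
      have vt : v * t = t * (v * b) := by
        rw [← htb]
        simp only [mul_assoc, h.tt, mul_one, ra h.tt, one_mul]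
      have vb : v * b = b * v := hbv.symm
      have pv := mv _ hr'i
      rw [hff]
      simp only [mul_assoc, vt, ra vt, vb, ra vb, vx, ra vx, vy, ra vy, vz, ra vz, hvv, ra hvv, mul_one, pv, ra pv]
    have h3 : f⁻¹ = t * (y * x * z) := by
      rw [hff, mul_inv_rev, mul_inv_rev, mul_inv_rev, inv_of_sq zz, inv_of_sq xx, inv_of_sq yy, inv_of_sq h.tt]
      simp only [mul_assoc, ← xt, ra xt.symm, ← yt, ra yt.symm, ← zt, ra zt.symm, xz, ra xz, yz, ra yz]
    rw [hvf, h3] at h2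
    have h4 := mul_left_cancel h2
    -- `y x = [y, x] x y`
    have h5 : b = (y * x * y⁻¹ * x⁻¹) * r' := by
      have h6 : y * x = b * r'⁻¹ * (x * y) := by
        have : y * x * z = b * r'⁻¹ * (x * y) * z := by rw [h4]; group
        exact mul_right_cancel this
      have h7 : y * x * y⁻¹ * x⁻¹ = b * r'⁻¹ := by rw [h6]; group
      rw [h7, inv_mul_cancel_right]
    have hbW : b ∈ W m := by rw [h5]; exact mul_mem (h.XW m hm hmm hyx) hvx
    have hbX : b ∈ X m := h.cent m hm hmm b hbW (h.tX s' hs' b hb)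
    apply hb1
    apply h.ind s' hs' m hm _ b hb hbX
    intro h0
    rw [← h0] at hms'
    omega
  -- `τ = 1`
  have hx1 : x = 1 := h.kill120 h6 hs hs' hss hss' h1 hme hw hv hw₁ hx hy hz (by rw [← hff])
  have hy1 : y = 1 := by
    -- the symmetric element
    have e2 : v * w * v * w * w₁ = y * x * z := by
      have h2 : v * w * v * w = c⁻¹ := by
        rw [hcd, mul_inv_rev, mul_inv_rev, mul_inv_rev, hwi, hvi]
        simp only [mul_assoc]
      have h3 : c⁻¹ * w₁ = f⁻¹ := by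
        have h31 : f⁻¹ = (w₁ * c)⁻¹ := by rw [← hcw₁]
        have h32 : (w₁ * c)⁻¹ = c⁻¹ * w₁⁻¹ := mul_inv_rev _ _
        rw [h31, h32, hw₁i]
      have h4 : z⁻¹ = z := inv_of_sq (h.Xsq m hm z hz)
      have h5 : y⁻¹ = y := inv_of_sq (h.Xsq s' hs' y hy)
      rw [h2, h3, hff, hx1, one_mul, mul_one, mul_inv_rev, h4, h5]
      exact (mXs' z hzW y hy).symm
    exact h.kill120 h6 hs' hs hss' hss h1' ems hv hw hw₁ hy hx hz e2
  rw [hx1, hy1, one_mul, one_mul] at hff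
  have e9 : c = z * w₁ := by rw [hcf, hff]
  rw [e9]
  exact mul_mem hzW hw₁

end PatA

end Cfsg.Agent.OddHalf.D7F4
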