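import Cfsg.Agent.OddHalf.D7F4.PatA4
import Cfsg.Agent.OddHalf.D7F4.LevelsEnd

/-!
# K = F4(q): the pattern "short roots moved, long roots not moved", END (S1765, node D7)

`PatA.exists_hom` : `t ↦ -1` for a homomorphism `G →* ℤˣ`.
-/

set_option autoImplicit false
set_option linter.unusedSimpArgs false

namespace Cfsg.Agent.OddHalf.D7F4

/-- A generic linear functional on the root system: one positive root per level. -/
structure Level {L : Type*} [AddCommGroup L] (B : L → L → ℤ) (Φ : Set L) (lv : L → ℤ) (M : ℕ) : Prop where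
  add : ∀ a b, lv (a + b) = lv a + lv b
  inj : ∀ a ∈ Φ, ∀ b ∈ Φ, 0 < lv a → lv a = lv b → a = b
  le : ∀ a ∈ Φ, lv a ≤ M
  up : ∀ a ∈ Φ, B a a = 4 → 0 < lv a → lv a = M ∨ ∃ b ∈ Φ, B b b = 4 ∧ 0 < lv b ∧ B b a = -2

/-- The group at level `i` of the family `F` -/
def Lev {L G : Type*} [Group G] (Φ : Set L) (lv : L → ℤ) (F : L → Subgroup G) (i : ℕ) : Subgroup G :=
  ⨆ a : L, ⨆ _ : a ∈ Φ ∧ 0 < lv a ∧ lv a = i, F a

section lev

variable {L G : Type*} [AddCommGroup L] [Group G] {B : L → L → ℤ} {Φ : Set L} {lv : L → ℤ} {M : ℕ}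

theorem le_Lev (F : L → Subgroup G) {a : L} (ha : a ∈ Φ) (h0 : 0 < lv a) {i : ℕ} (hi : lv a = i) :
    F a ≤ Lev Φ lv F i :=
  le_iSup₂_of_le (f := fun a (_ : a ∈ Φ ∧ 0 < lv a ∧ lv a = i) => F a) a ⟨ha, h0, hi⟩ le_rfl

theorem mem_Lev (hl : Level B Φ lv M) {F : L → Subgroup G} {i : ℕ} {v : G} (hv : v ∈ Lev Φ lv F i) :
    v = 1 ∨ ∃ a ∈ Φ, 0 < lv a ∧ lv a = i ∧ v ∈ F a := by
  by_cases hex : ∃ a ∈ Φ, 0 < lv a ∧ lv a = i
  · obtain ⟨a, ha, h0, hi⟩ := hex
    right
    refine ⟨a, ha, h0, hi, ?_⟩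
    have hle : Lev Φ lv F i ≤ F a := by
      refine iSup₂_le fun b hb => ?_
      have : a = b := hl.inj a ha b hb.1 h0 (hi.trans hb.2.2.symm)
      rw [this]
    exact hle hv
  · left
    have hle : Lev Φ lv F i ≤ ⊥ := by
      refine iSup₂_le fun b hb => ?_
      exact absurd ⟨b, hb.1, hb.2.1, hb.2.2⟩ hex
    exact Subgroup.mem_bot.1 (hle hv)

theorem le_N_Lev (F : L → Subgroup G) {a : L} (ha : a ∈ Φ) (h0 : 0 < lv a) {k : ℕ} (hk : (k : ℤ) ≤ lv a) :
    F a ≤ Levels.N (Lev Φ lv F) k := by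
  have h1 : lv a = ((lv a).toNat : ℤ) := (Int.toNat_of_nonneg h0.le).symm
  exact (le_Lev F ha h0 h1).trans (Levels.le_N _ (by omega))

end lev

open Classical in
/-- the doubled groups: `W s` (short), `X r` (long) -/
noncomputable def Wt {L G : Type*} [Group G] (B : L → L → ℤ) (X W : L → Subgroup G) (a : L) : Subgroup G :=
  if B a a = 2 then W a else X a

open Classical in
/-- `X r` for the long roots, `⊥` for the short roots -/
noncomputable def Xl {L G : Type*} [Group G] (B : L → L → ℤ) (X : L → Subgroup G) (a : L) : Subgroup G :=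
  if B a a = 2 then ⊥ else X a

section

variable {L G : Type*} [Group G] {B : L → L → ℤ} {X W : L → Subgroup G} {a : L}

theorem Wt_short (h : B a a = 2) : Wt B X W a = W a := if_pos h
theorem Wt_long (h : B a a = 4) : Wt B X W a = X a := if_neg (by rw [h]; norm_num)
theorem Xl_short (h : B a a = 2) : Xl B X a = ⊥ := if_pos h
theorem Xl_long (h : B a a = 4) : Xl B X a = X a := if_neg (by rw [h]; norm_num)

end

namespace PatA

variable {L G : Type*} [AddCommGroup L] [Group G]
variable {t : G} {B : L → L → ℤ} {Φ : Set L} {X W : L → Subgroup G} {lv : L → ℤ} {M : ℕ}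

theorem X_le_Wt (h : PatA t B Φ X W) {a : L} (ha : a ∈ Φ) : X a ≤ Wt B X W a := by
  rcases h.roots.norm a ha with h1 | h1
  · rw [Wt_short h1]; exact h.XW a ha h1
  · rw [Wt_long h1]

theorem Xl_le_X {a : L} (R : Roots B Φ) (ha : a ∈ Φ) : Xl B X a ≤ X a := by
  rcases R.norm a ha with h1 | h1
  · rw [Xl_short h1]; exact bot_le
  · rw [Xl_long h1]

/-- the commutator relations -/
theorem comm (h : PatA t B Φ X W) (h6 : Sixty B Φ W) (hlv : Level B Φ lv M) {a b : L} (ha : a ∈ Φ) (hb : b ∈ Φ)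
    (ha0 : 0 < lv a) (hb0 : 0 < lv b) {v w : G} (hv : v ∈ Wt B X W a) (hw : w ∈ Wt B X W b) {i j : ℕ}
    (hi : lv a = i) (hj : lv b = j) :
    v * w * v⁻¹ * w⁻¹ ∈ Levels.N (Lev Φ lv (Wt B X W)) (i + j) := by
  have R := h.roots
  have hone : v * w = w * v → v * w * v⁻¹ * w⁻¹ ∈ Levels.N (Lev Φ lv (Wt B X W)) (i + j) := by
    intro h1
    rw [h1, mul_inv_cancel_right, mul_inv_cancel]
    exact one_mem _
  have hin : ∀ c ∈ Φ, ∀ x ∈ Wt B X W c, ((i + j : ℕ) : ℤ) ≤ lv c → x ∈ Levels.N (Lev Φ lv (Wt B X W)) (i + j) := by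
    intro c hc x hx hle
    exact le_N_Lev _ hc (by push_cast at hle; omega) hle hx
  have hopp : a ≠ -b := by
    rintro rfl
    have h1 := hlv.add (-b) b
    rw [neg_add_cancel] at h1
    have h2 := hlv.add (0 : L) 0
    rw [add_zero] at h2
    omega
  -- long - short
  have key : ∀ r ∈ Φ, ∀ s ∈ Φ, 0 < lv r → 0 < lv s → B r r = 4 → B s s = 2 → ∀ x ∈ X r, ∀ w ∈ W s,
      lv r + lv s = (i + j : ℕ) → x * w * x⁻¹ * w⁻¹ ∈ Levels.N (Lev Φ lv (Wt B X W)) (i + j) := by
    intro r hr s hs hr0 hs0 hrr hss x hx w hw hsum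
    by_cases h0 : 0 ≤ B r s
    · have h1 : w * x = x * w := h.WX s hs hss r hr (Or.inl ⟨hrr, h0⟩) w hw x hx
      rw [← h1, mul_inv_cancel_right, mul_inv_cancel]
      exact one_mem _
    · have h1 := R.ls r hr s hs hrr hss
      have h2 : B r s = -2 := by omega
      obtain ⟨hm, hmm, hms, hl, hll⟩ := R.add_ls hr hs hrr hss h2
      obtain ⟨w', hw', z, hz, he⟩ := h.X135 h6 hr hs hrr hss h2 hx hw
      rw [he]
      have h3 := h.ninety h6 hs hm hss hmm (by rw [R.symm]; exact hms) hw hw'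
      have e1 : s + (r + s) = r + s + s := by abel
      rw [e1] at h3
      have h4 : w * z = z * w := h.WX s hs hss _ hl (Or.inl ⟨hll, by rw [R.add_left, hms, hss]; norm_num⟩) w hw z hz
      have e2 : w * w' * z * w⁻¹ = (w * w' * w⁻¹ * w'⁻¹) * w' * z := by
        calc w * w' * z * w⁻¹ = w * w' * (z * w) * w⁻¹ * w⁻¹ := by group
          _ = w * w' * (w * z) * w⁻¹ * w⁻¹ := by rw [h4]
          _ = w * w' * w⁻¹ * (w * w) * z * w⁻¹ * w⁻¹ := by group
          _ = w * w' * w⁻¹ * z * w⁻¹ * w⁻¹ := by rw [h.Wsq s hs hss w hw, mul_one]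
          _ = w * w' * w⁻¹ * z * (w * w)⁻¹ := by group
          _ = w * w' * w⁻¹ * z := by rw [h.Wsq s hs hss w hw, inv_one, mul_one]
          _ = _ := by group
      rw [e2]
      refine mul_mem (mul_mem (hin _ hl _ ?_ ?_) (hin _ hm _ ?_ ?_)) (hin _ hl _ ?_ ?_)
      · rw [Wt_long hll]; exact h3
      · rw [hlv.add, hlv.add]; omega
      · rw [Wt_short hmm]; exact hw'
      · rw [hlv.add]; omega
      · rw [Wt_long hll]; exact hz
      · rw [hlv.add, hlv.add]; omega
  rcases R.norm a ha with haa | haa <;> rcases R.norm b hb with hbb | hbb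
  · -- short, short
    rw [Wt_short haa] at hv
    rw [Wt_short hbb] at hw
    have h1 := R.ss a ha b hb haa hbb
    have h2 := R.ss a ha (-b) (R.neg_mem b hb) haa (by rw [R.neg_left, R.neg_right, hbb]; norm_num)
    rw [R.neg_right] at h2
    have h3 : B a b ≠ -2 := by
      intro h3
      exact hopp (h2.2 (by omega))
    by_cases h4 : B a b = 2
    · have h5 := h1.2 h4
      subst h5
      exact hone (h.Wab ha haa hv hw)
    by_cases h5 : B a b = 1
    · exact hone (h6 a ha b hb haa hbb h5 v hv w hw)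
    by_cases h7 : B a b = 0
    · obtain ⟨hm, hmm⟩ := R.add_90 ha hb haa hbb h7
      refine hin _ hm _ ?_ ?_
      · rw [Wt_long hmm]
        exact h.ninety h6 ha hb haa hbb h7 hv hw
      · rw [hlv.add]; push_cast; omega
    · have h8 : B a b = -1 := by omega
      obtain ⟨hm, hmm, -⟩ := R.add_ss ha hb haa hbb h8
      refine hin _ hm _ ?_ ?_
      · rw [Wt_short hmm]
        exact h.W120 h6 ha hb haa hbb h8 hv hw
      · rw [hlv.add]; push_cast; omega
  · -- short, long
    rw [Wt_short haa] at hv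
    rw [Wt_long hbb] at hw
    have h1 := key b hb a ha hb0 ha0 hbb haa w hw v hv (by push_cast; omega)
    have h2 := inv_mem h1
    have h3 : (w * v * w⁻¹ * v⁻¹)⁻¹ = v * w * v⁻¹ * w⁻¹ := by group
    rwa [h3] at h2
  · -- long, short
    rw [Wt_long haa] at hv
    rw [Wt_short hbb] at hw
    exact key a ha b hb ha0 hb0 haa hbb v hv w hw (by push_cast; omega)
  · -- long, long
    rw [Wt_long haa] at hv
    rw [Wt_long hbb] at hw
    by_cases h0 : 0 ≤ B a b
    · exact hone (h.X0 a ha b hb h0 v hv w hw)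
    · have hm := R.add a ha b hb (by omega) hopp
      have h1 := R.ll a ha b hb haa hbb
      have h2 := R.ll a ha (-b) (R.neg_mem b hb) haa (by rw [R.neg_left, R.neg_right, hbb]; norm_num)
      rw [R.neg_right] at h2
      have h3 : B a b ≠ -4 := by
        intro h3
        exact hopp (h2.2.2 (by omega))
      have h4 : B a b = -2 := by omega
      have hmm : B (a + b) (a + b) = 4 := by rw [R.norm_add, haa, hbb, h4]; norm_num
      refine hin _ hm _ ?_ ?_
      · rw [Wt_long hmm]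
        exact h.X1 a ha b hb (by omega) (by omega) hopp v hv w hw
      · rw [hlv.add]; push_cast; omega

/-- the structure `Lvl` -/
theorem lvl (h : PatA t B Φ X W) (h6 : Sixty B Φ W) (hlv : Level B Φ lv M)
    (hind : ∀ a ∈ Φ, 0 < lv a → ∀ x ∈ X a, x ∈ (⨆ b : L, ⨆ _ : b ∈ Φ ∧ lv a < lv b, X b) → x = 1) :
    Levels.Lvl t (Lev Φ lv (Wt B X W)) (Lev Φ lv X) (Lev Φ lv (Xl B X)) M := by
  have R := h.roots
  have htx : ∀ a ∈ Φ, ∀ x ∈ X a, t * x * t = x := by
    intro a ha x hx
    rw [h.tX a ha x hx, mul_assoc, h.tt, mul_one]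
  constructor
  · exact h.tt
  · rw [eq_bot_iff]
    refine iSup₂_le fun b hb => ?_
    have h1 := hb.2.1
    have h2 := hb.2.2
    push_cast at h2
    omega
  · intro i hi
    rw [eq_bot_iff]
    refine iSup₂_le fun b hb => ?_
    have h1 := hlv.le b hb.1
    have h2 := hb.2.2
    omega
  · intro i v hv
    rcases mem_Lev hlv hv with rfl | ⟨a, ha, h0, hi, hv⟩
    · exact mul_one 1
    · rcases R.norm a ha with h1 | h1
      · rw [Wt_short h1] at hv; exact h.Wsq a ha h1 v hv
      · rw [Wt_long h1] at hv; exact h.Xsq a ha v hv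
  · intro i v hv
    rcases mem_Lev hlv hv with rfl | ⟨a, ha, h0, hi, hv⟩
    · exact one_mem _
    · exact le_Lev _ ha h0 hi (h.X_le_Wt ha hv)
  · intro i v hv
    rcases mem_Lev hlv hv with rfl | ⟨a, ha, h0, hi, hv⟩
    · exact one_mem _
    · exact le_Lev _ ha h0 hi (Xl_le_X R ha hv)
  · intro i v hv htv
    rcases mem_Lev hlv hv with rfl | ⟨a, ha, h0, hi, hv⟩
    · exact one_mem _
    · rcases R.norm a ha with h1 | h1
      · rw [Wt_short h1] at hv
        refine le_Lev _ ha h0 hi (h.cent a ha h1 v hv ?_)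
        calc t * v = t * v * (t * t) := by rw [h.tt, mul_one]
          _ = (t * v * t) * t := by group
          _ = v * t := by rw [htv]
      · rw [Wt_long h1] at hv
        exact le_Lev _ ha h0 hi hv
  · intro i v hv
    rcases mem_Lev hlv hv with rfl | ⟨a, ha, h0, hi, hv⟩
    · rw [mul_one, h.tt]
    · exact htx a ha v hv
  · intro i v hv
    rcases mem_Lev hlv hv with rfl | ⟨a, ha, h0, hi, hv⟩
    · rw [mul_one, h.tt, inv_one, mul_one]; exact one_mem _
    · rcases R.norm a ha with h1 | h1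
      · rw [Wt_short h1] at hv
        exact le_Lev _ ha h0 hi (h.brk a ha h1 v hv)
      · rw [Wt_long h1] at hv
        rw [htx a ha v hv, inv_mul_cancel]; exact one_mem _
  · intro i
    by_cases hex : ∃ a ∈ Φ, 0 < lv a ∧ lv a = i
    · obtain ⟨a, ha, h0, hi⟩ := hex
      rcases R.norm a ha with h1 | h1
      · right
        constructor
        · rw [eq_bot_iff]
          intro v hv
          rcases mem_Lev hlv hv with rfl | ⟨b, hb, hb0, hbi, hv⟩
          · exact one_mem _
          · have : a = b := hlv.inj a ha b hb h0 (hi.trans hbi.symm)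
            subst this
            rwa [Xl_short h1] at hv
        · intro x hx
          rcases mem_Lev hlv hx with rfl | ⟨b, hb, hb0, hbi, hx⟩
          · exact ⟨1, one_mem _, by rw [mul_one, h.tt, inv_one, mul_one]⟩
          · have : a = b := hlv.inj a ha b hb h0 (hi.trans hbi.symm)
            subst this
            obtain ⟨v, hv, he⟩ := h.surj a ha h1 x hx
            exact ⟨v, le_Lev _ ha h0 hi (by rw [Wt_short h1]; exact hv), he⟩
      · left
        intro v hv
        rcases mem_Lev hlv hv with rfl | ⟨b, hb, hb0, hbi, hv⟩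
        · exact one_mem _
        · have : a = b := hlv.inj a ha b hb h0 (hi.trans hbi.symm)
          subst this
          rw [Wt_long h1] at hv
          exact le_Lev _ ha h0 hi (by rw [Xl_long h1]; exact hv)
    · left
      intro v hv
      rcases mem_Lev hlv hv with rfl | ⟨b, hb, hb0, hbi, hv⟩
      · exact one_mem _
      · exact absurd ⟨b, hb, hb0, hbi⟩ hex
  · intro i j v hv w hw
    rcases mem_Lev hlv hv with rfl | ⟨a, ha, h0, hi, hv⟩
    · rw [one_mul, inv_one, mul_one, mul_inv_cancel]; exact one_mem _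
    rcases mem_Lev hlv hw with rfl | ⟨b, hb, hb0, hbi, hw⟩
    · rw [mul_one, mul_inv_cancel, inv_one, mul_one]; exact one_mem _
    exact h.comm h6 hlv ha hb h0 hb0 hv hw hi hbi
  · intro i j v hv w hw
    rcases mem_Lev hlv hv with rfl | ⟨a, ha, h0, hi, hv⟩
    · rw [one_mul, inv_one, mul_one, mul_inv_cancel]; exact one_mem _
    rcases mem_Lev hlv hw with rfl | ⟨b, hb, hb0, hbi, hw⟩
    · rw [mul_one, mul_inv_cancel, inv_one, mul_one]; exact one_mem _
    rcases R.norm a ha with haa | haa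
    · rw [Xl_short haa] at hv
      rw [Subgroup.mem_bot.1 hv, one_mul, inv_one, mul_one, mul_inv_cancel]; exact one_mem _
    rcases R.norm b hb with hbb | hbb
    · rw [Xl_short hbb] at hw
      rw [Subgroup.mem_bot.1 hw, mul_one, mul_inv_cancel, inv_one, mul_one]; exact one_mem _
    rw [Xl_long haa] at hv
    rw [Xl_long hbb] at hw
    by_cases h1 : 0 ≤ B a b
    · rw [h.X0 a ha b hb h1 v hv w hw, mul_inv_cancel_right, mul_inv_cancel]
      exact one_mem _
    · have hopp : a ≠ -b := by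
        rintro rfl
        have h1 := hlv.add (-b) b
        rw [neg_add_cancel] at h1
        have h2 := hlv.add (0 : L) 0
        rw [add_zero] at h2
        omega
      have hm := R.add a ha b hb (by omega) hopp
      have h2 := R.ll a ha (-b) (R.neg_mem b hb) haa (by rw [R.neg_left, R.neg_right, hbb]; norm_num)
      rw [R.neg_right] at h2
      have h3 := R.ll a ha b hb haa hbb
      have h4 : B a b ≠ -4 := by
        intro h4
        exact hopp (h2.2.2 (by omega))
      have h5 : B a b = -2 := by omega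
      have hmm : B (a + b) (a + b) = 4 := by rw [R.norm_add, haa, hbb, h5]; norm_num
      refine le_N_Lev _ hm (by rw [hlv.add]; omega) (by rw [hlv.add]; push_cast; omega) ?_
      rw [Xl_long hmm]
      exact h.X1 a ha b hb (by omega) (by omega) hopp v hv w hw
  · intro k
    rw [eq_bot_iff]
    rintro x ⟨hx1, hx2⟩
    rcases mem_Lev hlv hx1 with rfl | ⟨a, ha, h0, hi, hx⟩
    · exact one_mem _
    rw [Subgroup.mem_bot]
    apply hind a ha h0 x hx
    have hle : Levels.N (Lev Φ lv X) (k + 1) ≤ ⨆ b : L, ⨆ _ : b ∈ Φ ∧ lv a < lv b, X b := by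
      refine iSup₂_le fun i hi' => iSup₂_le fun b hb => ?_
      exact le_iSup₂_of_le (f := fun b (_ : b ∈ Φ ∧ lv a < lv b) => X b) b ⟨hb.1, by
        have := hb.2.2
        omega⟩ le_rfl
    exact hle hx2

theorem up (h : PatA t B Φ X W) (hlv : Level B Φ lv M) : Levels.Lvl.Up (Lev Φ lv (Xl B X)) M := by
  have R := h.roots
  intro j x hx hx1
  rcases mem_Lev hlv hx with rfl | ⟨a, ha, h0, hi, hx⟩
  · exact absurd rfl hx1
  rcases R.norm a ha with haa | haa
  · rw [Xl_short haa] at hx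
    exact absurd (Subgroup.mem_bot.1 hx) hx1
  rw [Xl_long haa] at hx
  rcases hlv.up a ha haa h0 with h1 | ⟨b, hb, hbb, hb0, hba⟩
  · left
    omega
  · right
    obtain ⟨y, hy, hy1⟩ := h.Xne b hb
    have hne : b ≠ -a := R.ne_neg (by omega)
    have h2 := h.X1 b hb a ha (by omega) (by omega) hne y hy x hx
    have hm := R.add b hb a ha (by omega) hne
    have hmm : B (b + a) (b + a) = 4 := by rw [R.norm_add, haa, hbb, hba]; norm_num
    have hbn : lv b = ((lv b).toNat : ℤ) := (Int.toNat_of_nonneg hb0.le).symm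
    refine ⟨(lv b).toNat, by omega, y, le_Lev _ hb hb0 hbn (by rw [Xl_long hbb]; exact hy), ?_, ?_⟩
    · refine le_Lev _ hm (by rw [hlv.add]; omega) (by rw [hlv.add]; push_cast; omega) ?_
      rw [Xl_long hmm]
      exact h2
    · intro h3
      have h4 : y * x = x * y := mul_inv_eq_iff_eq_mul.1 (mul_inv_eq_one.1 h3)
      rcases h.X1nd b hb a ha (by omega) (by omega) hne y hy x hx h4 with h5 | h5
      · exact hy1 h5
      · exact hx1 h5

/-- **Pattern A, END**: short roots moved, long roots not moved. -/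
theorem exists_hom [Finite G] (h : PatA t B Φ X W) (h6 : Sixty B Φ W) (hlv : Level B Φ lv M)
    (hind : ∀ a ∈ Φ, 0 < lv a → ∀ x ∈ X a, x ∈ (⨆ b : L, ⨆ _ : b ∈ Φ ∧ lv a < lv b, X b) → x = 1)
    (ht : t ∉ ⨆ a : L, ⨆ _ : a ∈ Φ ∧ 0 < lv a, X a)
    (hodd : Odd (((⨆ a : L, ⨆ _ : a ∈ Φ ∧ 0 < lv a, X a) ⊔ Subgroup.zpowers t).relIndex
      (Subgroup.centralizer ({t} : Set G)))) :
    ∃ m : G →* ℤˣ, m t = -1 := by
  have hU : Levels.N (Lev Φ lv X) 1 = ⨆ a : L, ⨆ _ : a ∈ Φ ∧ 0 < lv a, X a := by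
    apply le_antisymm
    · refine iSup₂_le fun i hi => iSup₂_le fun a ha => ?_
      exact le_iSup₂_of_le (f := fun a (_ : a ∈ Φ ∧ 0 < lv a) => X a) a ⟨ha.1, ha.2.1⟩ le_rfl
    · refine iSup₂_le fun a ha => ?_
      exact le_N_Lev _ ha.1 ha.2 (by have := ha.2; omega)
  refine (h.lvl h6 hlv hind).exists_hom (h.up hlv) (by rw [hU]; exact ht) ?_ (by rw [hU]; exact hodd)
  intro x hx g hg
  rcases mem_Lev hlv hx with rfl | ⟨a, ha, h0, hi, hx⟩
  · rfl
  rcases h.roots.norm a ha with haa | haa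
  · rw [Xl_short haa] at hx
    exact Subgroup.mem_bot.1 hx
  rw [Xl_long haa] at hx
  exact h.NM a ha haa x hx g hg

end PatA

end Cfsg.Agent.OddHalf.D7F4
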