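import Mathlib

/-!
# Root systems with two root lengths (S1765, node D7, K = F4(q))

`Roots B Φ`: norms 2 (short) and 4 (long), sums of roots, and the characteristic 2 fact that the sum of two orthogonal
short roots is a (long) root.
-/

set_option autoImplicit false

namespace Cfsg.Agent.OddHalf.D7F4

/-- A root system with norms 2 and 4 in the abelian group `L`. -/
structure Roots {L : Type*} [AddCommGroup L] (B : L → L → ℤ) (Φ : Set L) : Prop where
  fin : Φ.Finite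
  symm : ∀ a b, B a b = B b a
  add_left : ∀ a b c, B (a + b) c = B a c + B b c
  norm : ∀ a ∈ Φ, B a a = 2 ∨ B a a = 4
  neg_mem : ∀ a ∈ Φ, -a ∈ Φ
  ss : ∀ a ∈ Φ, ∀ b ∈ Φ, B a a = 2 → B b b = 2 → B a b ≤ 2 ∧ (B a b = 2 → a = b)
  ll : ∀ a ∈ Φ, ∀ b ∈ Φ, B a a = 4 → B b b = 4 → B a b % 2 = 0 ∧ B a b ≤ 4 ∧ (B a b = 4 → a = b)
  ls : ∀ a ∈ Φ, ∀ b ∈ Φ, B a a = 4 → B b b = 2 → B a b = -2 ∨ B a b = 0 ∨ B a b = 2
  add : ∀ a ∈ Φ, ∀ b ∈ Φ, B a b < 0 → a ≠ -b → a + b ∈ Φ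
  add0 : ∀ a ∈ Φ, ∀ b ∈ Φ, B a a = 2 → B b b = 2 → B a b = 0 → a + b ∈ Φ

namespace Roots

variable {L : Type*} [AddCommGroup L] {B : L → L → ℤ} {Φ : Set L}

theorem add_right (h : Roots B Φ) (a b c : L) : B a (b + c) = B a b + B a c := by
  rw [h.symm, h.add_left, h.symm b, h.symm c]

theorem zero_left (h : Roots B Φ) (a : L) : B 0 a = 0 := by
  have := h.add_left 0 0 a
  rw [add_zero] at this
  omega

theorem neg_left (h : Roots B Φ) (a b : L) : B (-a) b = - B a b := by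
  have := h.add_left (-a) a b
  rw [neg_add_cancel, h.zero_left] at this
  omega

theorem neg_right (h : Roots B Φ) (a b : L) : B a (-b) = - B a b := by
  rw [h.symm, h.neg_left, h.symm b]

theorem sub_left (h : Roots B Φ) (a b c : L) : B (a - b) c = B a c - B b c := by
  rw [sub_eq_add_neg, h.add_left, h.neg_left]; rfl

theorem sub_right (h : Roots B Φ) (a b c : L) : B a (b - c) = B a b - B a c := by
  rw [h.symm, h.sub_left, h.symm b, h.symm c]

theorem sub_mem (h : Roots B Φ) {a b : L} (ha : a ∈ Φ) (hb : b ∈ Φ) (hab : 0 < B a b) (hne : a ≠ b) :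
    a - b ∈ Φ := by
  rw [sub_eq_add_neg]
  apply h.add a ha _ (h.neg_mem b hb)
  · rw [h.neg_right]; omega
  · rwa [neg_neg]

theorem sub0_mem (h : Roots B Φ) {a b : L} (ha : a ∈ Φ) (hb : b ∈ Φ) (haa : B a a = 2) (hbb : B b b = 2)
    (hab : B a b = 0) : a - b ∈ Φ := by
  rw [sub_eq_add_neg]
  apply h.add0 a ha _ (h.neg_mem b hb) haa
  · rw [h.neg_left, h.neg_right, hbb]; norm_num
  · rw [h.neg_right, hab]; norm_num

/-- `2 ≤ |a|²` -/
theorem norm_pos (h : Roots B Φ) {a : L} (ha : a ∈ Φ) : 2 ≤ B a a := by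
  rcases h.norm a ha with h1 | h1 <;> omega

theorem ne_zero (h : Roots B Φ) {a : L} (ha : a ∈ Φ) : a ≠ 0 := by
  rintro rfl
  have := h.norm_pos ha
  rw [h.zero_left] at this
  omega

theorem ne_neg (h : Roots B Φ) {a b : L} (hab : B a b ≠ -(B b b)) : a ≠ -b := by
  rintro rfl
  rw [h.neg_left] at hab
  exact hab rfl

theorem ne_neg' (h : Roots B Φ) {a b : L} (hab : B a a ≠ B b b) : a ≠ -b := by
  rintro rfl
  rw [h.neg_left, h.neg_right, neg_neg] at hab
  exact hab rfl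

theorem norm_add (h : Roots B Φ) (a b : L) : B (a + b) (a + b) = B a a + 2 * B a b + B b b := by
  rw [h.add_left, h.add_right, h.add_right, h.symm b a]; ring

theorem norm_sub (h : Roots B Φ) (a b : L) : B (a - b) (a - b) = B a a - 2 * B a b + B b b := by
  rw [h.sub_left, h.sub_right, h.sub_right, h.symm b a]; ring

/-- the sum of two short roots at 120° -/
theorem add_ss (h : Roots B Φ) {a b : L} (ha : a ∈ Φ) (hb : b ∈ Φ) (haa : B a a = 2) (hbb : B b b = 2)
    (hab : B a b = -1) : a + b ∈ Φ ∧ B (a + b) (a + b) = 2 ∧ a ≠ -b := by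
  have h1 : a ≠ -b := h.ne_neg (by omega)
  exact ⟨h.add a ha b hb (by omega) h1, by rw [h.norm_add, haa, hbb, hab]; norm_num, h1⟩

/-- the difference of two short roots at 60° -/
theorem sub_ss (h : Roots B Φ) {a b : L} (ha : a ∈ Φ) (hb : b ∈ Φ) (haa : B a a = 2) (hbb : B b b = 2)
    (hab : B a b = 1) : a - b ∈ Φ ∧ B (a - b) (a - b) = 2 := by
  have h1 : a ≠ b := by
    rintro rfl
    omega
  exact ⟨h.sub_mem ha hb (by omega) h1, by rw [h.norm_sub, haa, hbb, hab]; norm_num⟩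

/-- the sum of two orthogonal short roots -/
theorem add_90 (h : Roots B Φ) {a b : L} (ha : a ∈ Φ) (hb : b ∈ Φ) (haa : B a a = 2) (hbb : B b b = 2)
    (hab : B a b = 0) : a + b ∈ Φ ∧ B (a + b) (a + b) = 4 :=
  ⟨h.add0 a ha b hb haa hbb hab, by rw [h.norm_add, haa, hbb, hab]; norm_num⟩

/-- a long and a short root at 135° -/
theorem add_ls (h : Roots B Φ) {a b : L} (ha : a ∈ Φ) (hb : b ∈ Φ) (haa : B a a = 4) (hbb : B b b = 2)
    (hab : B a b = -2) : a + b ∈ Φ ∧ B (a + b) (a + b) = 2 ∧ B (a + b) b = 0 ∧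
      a + b + b ∈ Φ ∧ B (a + b + b) (a + b + b) = 4 := by
  have h1 : a ≠ -b := h.ne_neg' (by omega)
  have h2 : a + b ∈ Φ := h.add a ha b hb (by omega) h1
  have h3 : B (a + b) (a + b) = 2 := by rw [h.norm_add, haa, hbb, hab]; norm_num
  have h4 : B (a + b) b = 0 := by rw [h.add_left, hab, hbb]; norm_num
  exact ⟨h2, h3, h4, (h.add_90 h2 hb h3 hbb h4).1, (h.add_90 h2 hb h3 hbb h4).2⟩

end Roots

end Cfsg.Agent.OddHalf.D7F4
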