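import Cfsg.Agent.OddHalf.D7F4.OutO

/-!
# K = F4(q): the Sylow 2-subgroup of `C_G(t)` with outer part of field type (S1765, node D7)

`T = ⟨t, g⟩ U`, `g` acts on the root groups by a field automorphism: `g x_a(c) g⁻¹ = x_a(φ c)`. `TD.of_field` is the
structure `TD` of `OutO`.

* `card_fix_sq_le` : an automorphism `φ ≠ 1` of a finite field `F` fixes at most `√|F|` elements.
-/

set_option autoImplicit false

namespace Cfsg.Agent.OddHalf.D7F4

open Subgroup

/-- `|Fix φ|² ≤ |F|` -/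
theorem card_fix_sq_le {F : Type*} [Field F] [Finite F] (φ : F ≃+* F) {a : F} (ha : φ a ≠ a) :
    Nat.card {c : F // φ c = c} ^ 2 ≤ Nat.card F := by
  rw [pow_two, ← Nat.card_prod]
  refine Nat.card_le_card_of_injective (fun z : {c : F // φ c = c} × {c : F // φ c = c} => (z.1 : F) + a * z.2) ?_
  rintro ⟨⟨x, hx⟩, ⟨y, hy⟩⟩ ⟨⟨x', hx'⟩, ⟨y', hy'⟩⟩ h
  have h1 : x + a * y = x' + a * y' := h
  have h2 : a * (y - y') = x' - x := by linear_combination h1
  have h3 : y = y' := by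
    by_contra hne
    apply ha
    have h4 : y - y' ≠ 0 := sub_ne_zero.2 hne
    have h5 : φ a * (y - y') = x' - x := by
      have := congrArg φ h2
      rwa [map_mul, map_sub, map_sub, hx, hx', hy, hy'] at this
    exact mul_right_cancel₀ h4 (h5.trans h2.symm)
  subst h3
  have h4 : x = x' := add_right_cancel h1
  subst h4
  rfl

section

variable {L G F : Type*} [Group G] [Field F] [Finite F]

/-- **The structure `TD` for an outer part of field type.** -/
theorem TD.of_field {t g : G} {T : Subgroup G} {Φ : Set L} {lv : L → ℤ} {X : L → Subgroup G} (e : L → F → G)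
    (tt : t * t = 1)
    (heX : ∀ a ∈ Φ, ∀ x, x ∈ X a ↔ ∃ c, x = e a c) (heI : ∀ a ∈ Φ, Function.Injective (e a))
    (te : ∀ a ∈ Φ, ∀ c, t * e a c = e a c * t)
    (hcK : ∀ y : G, y * t = t * y → (∀ a ∈ Φ, ∀ c, y * e a c = e a c * y) → y = 1 ∨ y = t)
    (T2 : IsPGroup 2 T) (tT : t ∈ T) (Tc : ∀ d ∈ T, d * t = t * d)
    (Tmax : ∀ P : Subgroup G, IsPGroup 2 P → T ≤ P → (∀ x ∈ P, x * t = t * x) → P ≤ T)
    (UT : Up Φ lv X ≤ T) (gT : g ∈ T) (φ : F ≃+* F) (hg : ∀ a ∈ Φ, ∀ c, g * e a c * g⁻¹ = e a (φ c))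
    (hfac : ∀ x ∈ T, ∃ y ∈ closure ({t, g} : Set G), ∃ u ∈ Up Φ lv X, x = y * u) :
    TD t T (closure ({t, g} : Set G)) (Up Φ lv X) Φ lv X := by
  have ti : t⁻¹ = t := inv_eq_of_mul_eq_one_left tt
  -- the elements of `D` act by field automorphisms
  let E : Subgroup G :=
    { carrier := {y | ∃ ψ : F ≃+* F, ∀ a ∈ Φ, ∀ c, y * e a c * y⁻¹ = e a (ψ c)}
      one_mem' := ⟨RingEquiv.refl F, fun a _ c => by rw [one_mul, inv_one, mul_one]; rfl⟩
      mul_mem' := by
        rintro y z ⟨ψ, hy⟩ ⟨χ, hz⟩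
        refine ⟨χ.trans ψ, fun a ha c => ?_⟩
        calc y * z * e a c * (y * z)⁻¹ = y * (z * e a c * z⁻¹) * y⁻¹ := by group
          _ = e a (ψ (χ c)) := by rw [hz a ha, hy a ha]
      inv_mem' := by
        rintro y ⟨ψ, hy⟩
        refine ⟨ψ.symm, fun a ha c => ?_⟩
        have h1 := hy a ha (ψ.symm c)
        rw [RingEquiv.apply_symm_apply] at h1
        rw [← h1]; group }
  have hDE : closure ({t, g} : Set G) ≤ E := by
    rw [closure_le]
    rintro y (rfl | rfl)
    · exact ⟨RingEquiv.refl F, fun a ha c => by rw [te a ha, mul_inv_cancel_right]; rfl⟩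
    · exact ⟨φ, hg⟩
  have hDT : closure ({t, g} : Set G) ≤ T := by
    rw [closure_le]
    rintro y (rfl | rfl)
    · exact tT
    · exact gT
  have DX : ∀ y ∈ closure ({t, g} : Set G), ∀ a ∈ Φ, ∀ x ∈ X a, y * x * y⁻¹ ∈ X a := by
    intro y hy a ha x hx
    obtain ⟨ψ, hψ⟩ := hDE hy
    obtain ⟨c, rfl⟩ := (heX a ha x).1 hx
    rw [hψ a ha]
    exact (heX a ha _).2 ⟨_, rfl⟩
  have DU : ∀ y ∈ closure ({t, g} : Set G), ∀ x ∈ Up Φ lv X, y * x * y⁻¹ ∈ Up Φ lv X := by
    intro y hy x hx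
    have h2 : Up Φ lv X ≤ (Up Φ lv X).comap (MulAut.conj y).toMonoidHom := by
      refine iSup₂_le fun a ha v hv => ?_
      exact (le_iSup₂_of_le (f := fun a (_ : a ∈ Φ ∧ 0 < lv a) => X a) a ha le_rfl) (DX y hy a ha.1 v hv)
    exact h2 hx
  have hgt : g * t = t * g := Tc g gT
  have hDab : ∀ y ∈ closure ({t, g} : Set G), ∀ z ∈ closure ({t, g} : Set G), y * z = z * y := by
    have h1 : closure ({t, g} : Set G) ≤ centralizer ({t, g} : Set G) := by
      rw [closure_le]
      rintro y hy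
      rw [SetLike.mem_coe, mem_centralizer_iff]
      rintro z hz
      rcases hy with rfl | rfl <;> rcases hz with rfl | rfl
      · rfl
      · exact hgt
      · exact hgt.symm
      · rfl
    intro y hy z hz
    exact mem_centralizer_iff.1 (closure_le_centralizer_centralizer _ hz) y (h1 hy)
  refine { T2 := T2, tT := tT, Tc := Tc, Tmax := Tmax, UT := UT, ab := ?_, DT := hDT, fac := hfac
           DX := fun y hy a ha _ => DX y hy a ha, fix := ?_ }
  · intro a ha b hb
    obtain ⟨y, hy, u, hu, rfl⟩ := hfac a ha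
    obtain ⟨z, hz, v, hv, rfl⟩ := hfac b hb
    have hyz := hDab y hy z hz
    have e1 : y * u * (z * v) * (y * u)⁻¹ * (z * v)⁻¹ =
        (y * u * y⁻¹) * ((y * z) * (v * u⁻¹) * (y * z)⁻¹) * (z * v⁻¹ * z⁻¹) := by
      calc y * u * (z * v) * (y * u)⁻¹ * (z * v)⁻¹ = (y * u * y⁻¹) * ((y * z) * (v * u⁻¹) * (y * z)⁻¹) *
            ((y * z) * y⁻¹ * v⁻¹ * z⁻¹) := by group
        _ = _ := by rw [hyz, mul_inv_cancel_right]
    rw [e1]
    exact mul_mem (mul_mem (DU y hy u hu) (DU _ (mul_mem hy hz) _ (mul_mem hv (inv_mem hu)))) (DU z hz _ (inv_mem hv))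
  · intro y hy _ hy1 hy2 a ha h0
    obtain ⟨ψ, hψ⟩ := hDE hy
    have hne : ∃ c, ψ c ≠ c := by
      by_contra hcon
      push Not at hcon
      rcases hcK y (Tc y (hDT hy)) (fun b hb c => by
        have h1 := hψ b hb c
        rw [hcon c] at h1
        exact mul_inv_eq_iff_eq_mul.1 h1) with h1 | h1
      · exact hy1 (h1 ▸ one_mem _)
      · exact hy2 (by rw [h1, tt]; exact one_mem _)
    obtain ⟨c₀, hc₀⟩ := hne
    have h1 := card_fix_sq_le ψ hc₀
    have h2 : Nat.card (X a) = Nat.card F := by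
      symm
      refine Nat.card_congr (Equiv.ofBijective (fun c => (⟨e a c, (heX a ha _).2 ⟨c, rfl⟩⟩ : X a)) ⟨?_, ?_⟩)
      · intro c d hcd
        exact heI a ha (congrArg Subtype.val hcd)
      · rintro ⟨x, hx⟩
        obtain ⟨c, rfl⟩ := (heX a ha x).1 hx
        exact ⟨c, rfl⟩
    have h3 : Nat.card (X a ⊓ centralizer {y} : Subgroup G) ≤ Nat.card {c : F // ψ c = c} := by
      have key : ∀ x : (X a ⊓ centralizer {y} : Subgroup G), ∃ c : {c : F // ψ c = c}, (x : G) = e a c := by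
        rintro ⟨x, hx1, hx2⟩
        obtain ⟨c, rfl⟩ := (heX a ha x).1 hx1
        refine ⟨⟨c, ?_⟩, rfl⟩
        apply heI a ha
        rw [← hψ a ha]
        have := mem_centralizer_singleton_iff.1 hx2
        rw [← this, mul_inv_cancel_right]
      choose k hk using key
      refine Nat.card_le_card_of_injective k ?_
      intro x x' hxx
      apply Subtype.ext
      rw [hk x, hk x', hxx]
    rw [h2]
    exact (Nat.pow_le_pow_left h3 2).trans h1

end

end Cfsg.Agent.OddHalf.D7F4
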