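import Cfsg.Agent.OddHalf.D7F4.KInd
import Cfsg.Agent.OddHalf.D7F4.XG
import Cfsg.Agent.OddHalf.D7F4.TDField
import Cfsg.Agent.OddHalf.D7F4.Frame

/-!
# K = F4(q), q ≥ 4 even, exactly one of the two lengths is moved: the row (S1765, node D7)

`Frame t f`, `XG f a = f (X_a)`. From the K-facts `KF`, the doubled root groups `WS` / `WL` of the moved length, `NM` for
the other length, and the Sylow 2-subgroup `T = ⟨t, g⟩ U` with `g` of field type: `t ∉ [G, G]`.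
-/

set_option autoImplicit false

namespace Cfsg.Agent.OddHalf.D7F4

open CoxeterSystem Cfsg.Agent.ChevalleyStructure.CoxeterGeom Cfsg.Agent.Tits.Roots Cfsg.Agent.Tits.Core
open Cfsg.Lie Cfsg.Agent.ChevalleyStructure Cfsg.Agent.ChevalleyStructure.CoxeterGeomTypes
open Cfsg.Agent.Nodes Cfsg.Agent.Nodes.Reps Cfsg.Agent.Nodes.BNOf Cfsg.Agent.Nodes.Unique Cfsg.Agent.Nodes.RGDChev
  Cfsg.Agent.Nodes.KindF Cfsg.Agent.KFacts.ChevTwo Cfsg.Agent.KFacts.ChevTwoTab Cfsg.Agent.KFacts.ChevTwoInst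
  Cfsg.Agent.KFacts.F4Star Cfsg.Agent.KFacts.F4Cent Cfsg.Agent.KFacts.F4Pair Cfsg.Agent.KFacts.F4Torus
  Cfsg.Agent.KFacts.F4Model Cfsg.Agent.KFacts.RgdInd
open Cfsg.Agent.OddHalf.D7F4.Model hiding add

universe u

variable {G : Type*} [Group G] {F : Type u} [Field F] [Finite F] [CharP F 2] {t : G}

variable {f : ↥(chevF4.group F) →* G}

theorem mem_XG {a : Fin 4 → ℤ} (ha : a ∈ rts) {x : G} : x ∈ XG f a ↔ ∃ c, x = f (eF F a c) := by
  constructor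
  · rintro ⟨y, hy, rfl⟩
    obtain ⟨c, rfl⟩ := (mem_X ha).1 hy
    exact ⟨c, rfl⟩
  · rintro ⟨c, rfl⟩
    exact ⟨_, (mem_X ha).2 ⟨c, rfl⟩, rfl⟩

omit [Finite F] [CharP F 2] in
theorem up_eq : Up Phi lv (XG f) = (Up Phi lv (XF F)).map f := by
  unfold Up XG
  rw [Subgroup.map_iSup]
  congr 1
  funext a
  rw [Subgroup.map_iSup]

theorem XG_ind (hf : Function.Injective f) : ∀ a ∈ rts, 0 < lv a → ∀ x ∈ XG f a,
    x ∈ (⨆ b : Fin 4 → ℤ, ⨆ _ : b ∈ Phi ∧ lv a < lv b, XG f b) → x = 1 := by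
  rintro a ha h0 _ ⟨x, hx, rfl⟩ hx'
  have e : (⨆ b : Fin 4 → ℤ, ⨆ _ : b ∈ Phi ∧ lv a < lv b, XG f b) =
      (⨆ b : Fin 4 → ℤ, ⨆ _ : b ∈ Phi ∧ lv a < lv b, XF F b).map f := by
    unfold XG
    rw [Subgroup.map_iSup]
    congr 1
    funext b
    rw [Subgroup.map_iSup]
  rw [e] at hx'
  obtain ⟨y, hy, hyx⟩ := hx'
  rw [hf hyx] at hy
  rw [KInd.ind_up a ha h0 x hx hy, map_one]

theorem XG_ind_dual (hf : Function.Injective f) : ∀ a ∈ rts, 0 < lv a → ∀ x ∈ XG f (dual a),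
    x ∈ (⨆ b : Fin 4 → ℤ, ⨆ _ : b ∈ Phi ∧ lv a < lv b, XG f (dual b)) → x = 1 := by
  rintro a ha h0 _ ⟨x, hx, rfl⟩ hx'
  have e : (⨆ b : Fin 4 → ℤ, ⨆ _ : b ∈ Phi ∧ lv a < lv b, XG f (dual b)) =
      (⨆ b : Fin 4 → ℤ, ⨆ _ : b ∈ Phi ∧ lv a < lv b, XF F (dual b)).map f := by
    unfold XG
    rw [Subgroup.map_iSup]
    congr 1
    funext b
    rw [Subgroup.map_iSup]
  rw [e] at hx'
  obtain ⟨y, hy, hyx⟩ := hx'
  rw [hf hyx] at hy
  rw [KInd.ind_up_dual a ha h0 x hx hy, map_one]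

theorem XG_other (hf : Function.Injective f) (h2 : ∃ c : F, c ≠ 0 ∧ c ≠ 1) : ∀ s ∈ rts, ∀ x ∈ XG f s,
    ∃ y ∈ XG f s, y ≠ 1 ∧ y ≠ x := by
  rintro s hs _ ⟨x, hx, rfl⟩
  obtain ⟨y, hy, h1, h3⟩ := KInd.exists_other h2 s hs x hx
  refine ⟨f y, ⟨y, hy, rfl⟩, fun h => h1 (hf (by rw [h, map_one])), fun h => h3 (hf h)⟩

namespace Frame

/-- `t ∉ U` -/
theorem not_mem_up (R : Frame t f) : t ∉ Up Phi lv (XG f) := by
  rw [up_eq]
  rintro ⟨y, -, hy⟩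
  exact R.not_mem_range (fun z hz => eq_one_of_comm cF (fun x _ u => hz _)) y hy

/-- An element of `C(t)` centralising the root elements. -/
theorem eq_one_or (R : Frame t f) {y : G} (hy : y * t = t * y)
    (h : ∀ a ∈ rts, ∀ c, y * f (eF F a c) = f (eF F a c) * y) : y = 1 ∨ y = t := by
  refine R.cK y hy fun x => ?_
  have h2 : RGDLib.G1 cF isType.isCartan (XF F) ≤ (Subgroup.centralizer ({y} : Set G)).comap f := by
    refine RGD.Sup_le fun a ha v hv => ?_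
    rw [Subgroup.mem_comap, Subgroup.mem_centralizer_singleton_iff]
    obtain ⟨u, rfl⟩ := (mem_X ((phi_iff cF a).2 ha)).1 hv
    exact (h a ((phi_iff cF a).2 ha) u).symm
  have h3 : x ∈ (Subgroup.centralizer ({y} : Set G)).comap f := h2 (by
    rw [show RGDLib.G1 cF isType.isCartan (XF F) = ⊤ from G1_eq_top isType cF]; exact Subgroup.mem_top x)
  rw [Subgroup.mem_comap, Subgroup.mem_centralizer_singleton_iff] at h3
  exact h3.symm

/-- **The Sylow 2-subgroup of `C(t)` with outer part of field type.** -/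
theorem td (R : Frame t f) {T : Subgroup G} (T2 : IsPGroup 2 T) (tT : t ∈ T) (Tc : ∀ d ∈ T, d * t = t * d)
    (Tmax : ∀ P : Subgroup G, IsPGroup 2 P → T ≤ P → (∀ x ∈ P, x * t = t * x) → P ≤ T)
    (UT : Up Phi lv (XG f) ≤ T) {g : G} (gT : g ∈ T) (φ : F ≃+* F) (δ : (Fin 4 → ℤ) → F) (hδ : ∀ a ∈ rts, δ a ≠ 0)
    (hg : ∀ a ∈ rts, ∀ c, g * f (eF F a (δ a * c)) * g⁻¹ = f (eF F a (δ a * φ c)))
    (hfac : ∀ x ∈ T, ∃ y ∈ Subgroup.closure ({t, g} : Set G), ∃ u ∈ Up Phi lv (XG f), x = y * u) :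
    TD t T (Subgroup.closure ({t, g} : Set G)) (Up Phi lv (XG f)) Phi lv (XG f) := by
  have hs : ∀ a ∈ rts, ∀ c, eF F a c = eF F a (δ a * ((δ a)⁻¹ * c)) := by
    intro a ha c
    rw [mul_inv_cancel_left₀ (hδ a ha)]
  refine TD.of_field (fun a c => f (eF F a (δ a * c))) R.tt ?_ ?_ ?_ ?_ T2 tT Tc Tmax UT gT φ hg hfac
  · intro a ha x
    rw [mem_XG ha]
    constructor
    · rintro ⟨c, rfl⟩
      exact ⟨(δ a)⁻¹ * c, by rw [hs a ha c]⟩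
    · rintro ⟨c, rfl⟩
      exact ⟨_, rfl⟩
  · intro a ha c c' h
    have h1 := (dat (K := F)).injective ((phi_iff cF a).1 ha) (R.inj h)
    exact mul_left_cancel₀ (hδ a ha) h1
  · intro a _ c
    exact (R.ft _).symm
  · intro y hy h
    refine R.eq_one_or hy fun a ha c => ?_
    rw [hs a ha c]
    exact h a ha _

variable [Finite G]

/-- **Short moved, long not moved**: `t ∉ [G, G]`. -/
theorem not_mem_short (R : Frame t f) (h2 : ∃ c : F, c ≠ 0 ∧ c ≠ 1) (hK : KF t (XG f))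
    {W : (Fin 4 → ℤ) → Subgroup G} (hW : WS t (XG f) W)
    (hNM : ∀ r ∈ rts, B r r = 4 → ∀ x ∈ XG f r, ∀ g : G, g⁻¹ * t * g = t * x → x = 1)
    {T D : Subgroup G} (hT : TD t T D (Up Phi lv (XG f)) Phi lv (XG f))
    (hDW : ∀ y ∈ D, ∀ s ∈ rts, B s s = 2 → 0 < lv s → ∀ w ∈ W s, y * w * y⁻¹ ∈ W s) :
    t ∉ _root_.commutator G :=
  D7F4.not_mem_short hK hW hNM (XG_other R.inj h2) (XG_ind R.inj) R.not_mem_up hT hDW

/-- **Long moved, short not moved**: `t ∉ [G, G]`. -/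
theorem not_mem_long (R : Frame t f) (h2 : ∃ c : F, c ≠ 0 ∧ c ≠ 1) (hK : KF t (XG f))
    {W : (Fin 4 → ℤ) → Subgroup G} (hW : WL t (XG f) W)
    (hNM : ∀ r ∈ rts, B r r = 2 → ∀ x ∈ XG f r, ∀ g : G, g⁻¹ * t * g = t * x → x = 1)
    {T D : Subgroup G} (hT : TD t T D (Up Phi lv (XG f)) Phi lv (XG f))
    (hDW : ∀ y ∈ D, ∀ s ∈ rts, B s s = 4 → 0 < lv s → ∀ w ∈ W s, y * w * y⁻¹ ∈ W s) :
    t ∉ _root_.commutator G :=
  D7F4.not_mem_long hK hW hNM (XG_other R.inj h2) (XG_ind_dual R.inj) R.not_mem_up hT hDW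

end Frame

end Cfsg.Agent.OddHalf.D7F4
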