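import Cfsg.Agent.OddHalf.D7F4.CCOut
import Cfsg.Agent.OddHalf.D7F4.RowO
import Cfsg.Agent.OddHalf.D7F4Ex.Inst
import Cfsg.Agent.OddHalf.D7F4.FrTG
import Cfsg.Agent.OddHalf.D7F4.TypeCModel

/-!
# K = F4(q), q ≥ 4 even, both lengths are moved: the coordinates (S1765, node D7; helper84)

`crd` : `CCOut.Crd` for a frame; `dir` : `Lead.Dir`; `UK_map` : `f U = Ab (XG f) 0`.
-/

set_option autoImplicit false
set_option linter.unusedSectionVars false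

namespace Cfsg.Agent.OddHalf.D7F4.RowCC

open CoxeterSystem Cfsg.Agent.ChevalleyStructure.CoxeterGeom Cfsg.Agent.Tits.Roots Cfsg.Agent.Tits.Core
open Cfsg.Lie Cfsg.Agent.ChevalleyStructure Cfsg.Agent.ChevalleyStructure.CoxeterGeomTypes
open Cfsg.Agent.Nodes Cfsg.Agent.Nodes.Reps Cfsg.Agent.Nodes.BNOf Cfsg.Agent.Nodes.Unique Cfsg.Agent.Nodes.RGDChev
  Cfsg.Agent.Nodes.KindF Cfsg.Agent.KFacts.ChevTwo Cfsg.Agent.KFacts.ChevTwoTab Cfsg.Agent.KFacts.ChevTwoInst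
  Cfsg.Agent.KFacts.F4Star Cfsg.Agent.KFacts.F4Cent Cfsg.Agent.KFacts.F4Pair Cfsg.Agent.KFacts.F4Torus
  Cfsg.Agent.KFacts.F4Model Cfsg.Agent.KFacts.RgdInd
open Cfsg.Agent.OddHalf.D7F4.Model hiding add

universe u

variable {G : Type*} [Group G] {F : Type u} [Field F] [Finite F] [CharP F 2] {t : G}
  {f : ↥(chevF4.group F) →* G}

/-- the character -/
def chF (χ : Fin 4 → Fˣ) : (Fin 4 → ℤ) →+ Additive Fˣ where
  toFun a := Additive.ofMul (∏ i, χ i ^ a i)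
  map_zero' := by
    have : (∏ i, χ i ^ (0 : Fin 4 → ℤ) i) = 1 := Finset.prod_eq_one fun i _ => by rw [Pi.zero_apply, zpow_zero]
    rw [this]; rfl
  map_add' a b := by
    rw [← ofMul_mul, ← Finset.prod_mul_distrib]
    congr 1
    refine Finset.prod_congr rfl fun i _ => ?_
    rw [Pi.add_apply, zpow_add]

theorem tab1 : B Lead.ρ' Lead.ρ' = B Lead.α3 Lead.α3 ∧ B Lead.ρ' Lead.α3 < 0 ∧ Lead.ρ' ≠ -Lead.α3 ∧
    Lead.ρ' + Lead.α3 = Lead.ρ := by decide +kernel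

theorem tab2 : B CCOut.α2 CCOut.α2 = 4 ∧ B CCOut.α1 CCOut.α1 = 2 ∧ B CCOut.α2 CCOut.α1 = -2 ∧
    CCOut.α2 + CCOut.α1 = CCOut.α12 ∧ CCOut.α2 + CCOut.α1 + CCOut.α1 = CCOut.α112 ∧
    CCOut.α1 ∈ rts ∧ CCOut.α2 ∈ rts ∧ CCOut.α112 ∈ rts := by decide +kernel

/-- **The coordinates.** -/
theorem crd (R : Frame t f) (hq : ∃ μ : Fˣ, μ ≠ 1) {W : (Fin 4 → ℤ) → Subgroup G}
    (hHW : ∀ h ∈ TF F, ∀ a ∈ rts, (∀ y ∈ XG f a, f h * y = y * f h) → ∀ w ∈ W a, f h * w = w * f h) :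
    CCOut.Crd t (fun a u => f (eF F a u)) (XG f) W ((TF F).map f) where
  mem a ha u := (mem_XG ha).2 ⟨u, rfl⟩
  surj a ha g hg := (mem_XG ha).1 hg
  add a ha u v := by rw [← map_mul, (D7F4Ex.chartY hq).add a ha]
  inj a ha u h := (D7F4Ex.chartY hq).inj a ha u (R.inj (by rw [h, map_one]))
  r1 u v := by
    obtain ⟨h1, h2, h3, h4⟩ := tab1
    have h5 := (D7F4Ex.chartY hq).c1 Lead.ρ' Lead.ρ'_mem Lead.α3 Lead.α3_mem h1 h2 h3 u v
    rw [h4] at h5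
    rw [← h5]
    simp only [map_mul, map_inv]
  r2 u v := by
    obtain ⟨h1, h2, h3, h4, h5, h6, h7, h8⟩ := tab2
    have h9 := (D7F4Ex.chartY hq).c2 CCOut.α2 h7 CCOut.α1 h6 h1 h2 h3 u v
    rw [h5, h4] at h9
    refine ⟨f (eF F CCOut.α112 (u * v ^ 2)), (mem_XG h8).2 ⟨_, rfl⟩, ?_⟩
    simp only [← map_mul, ← map_inv]
    rw [h9]
  tor χ := by
    obtain ⟨s, hs, h⟩ := exists_torus D7F4Ex.csF (chF χ)
    refine ⟨f s, ⟨s, hs, rfl⟩, fun a ha u => ?_⟩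
    rw [← map_inv, ← map_mul, ← map_mul, h a (D7F4Ex.mem_rts.2 ha) u]
    rfl
  Ht := by
    rintro _ ⟨h, -, rfl⟩
    exact (R.ft h).symm
  HX := by
    rintro _ ⟨h, hh, rfl⟩ a ha _ ⟨y, hy, rfl⟩
    have : Fact (Nat.Prime 2) := ⟨Nat.prime_two⟩
    have h1 := (rgd (K := F) isType cF 2).tor a (D7F4Ex.mem_rts.2 ha) h hh
    refine ⟨h * y * h⁻¹, ?_, by rw [map_mul, map_mul, map_inv]⟩
    have h2 : h * y * h⁻¹ ∈ cj h (XF F a) := ⟨y, hy, rfl⟩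
    exact h1.le h2
  HW := by
    rintro _ ⟨h, hh, rfl⟩ a ha hy w hw
    exact hHW h hh a ha hy w hw
  Hs := by
    rintro _ ⟨h, -, rfl⟩ y hy e
    obtain ⟨y', hy'⟩ := R.nK y hy h
    refine R.not_mem_range (fun z hz => eq_one_of_comm cF (fun x _ u => hz _)) (y' * h⁻¹) ?_
    rw [map_mul, map_inv, ← hy', e]
  cK g hg h := R.eq_one_or hg fun a ha c => h a ha _ ((mem_XG ha).2 ⟨c, rfl⟩)

theorem dir (R : Frame t f) : Lead.Dir (XG f) := XG_ind R.inj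

theorem not_mem_Ab (R : Frame t f) : t ∉ Lead.Ab (XG f) 0 := R.not_mem_up

/-- `|F| > 2` -/
theorem exists_unit (hF : 2 < Nat.card F) : ∃ μ : Fˣ, μ ≠ 1 := by
  have h1 : Nat.card Fˣ = Nat.card F - 1 := Nat.card_units F
  have h2 : Nontrivial Fˣ := by
    rw [← Finite.one_lt_card_iff_nontrivial, h1]
    omega
  exact exists_ne 1

/-- **Both lengths are moved.** -/
theorem row [Finite G] (hF : 2 < Nat.card F) {T : Subgroup G} {g : G} (O : FrOut.FrO t f T g) (hK : KF t (XG f))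
    (hG : CCModel.KG t (XG f)) {W : (Fin 4 → ℤ) → Subgroup G} (hW : CCModel.WC t (XG f) W)
    (hH : TypeCModel.TorW (XG f) W ((TF F).map f)) : t ∉ _root_.commutator G :=
  CCOut.main hK (CCModel.hyp hK hG hW) (dir O.R)
    (crd O.R (exists_unit hF) fun h hh a ha hy w hw => hH.HX (f h) ⟨h, hh, rfl⟩ a ha hy w hw) (FrTG.tg O)
    (not_mem_Ab O.R)

end Cfsg.Agent.OddHalf.D7F4.RowCC
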